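import Mathlib

/-!
# `L₄(q)` from an involution centraliser: the model of the centraliser

`Dl F` is the group of pairs of `2 × 2` matrices with `det A * det B = 1`.  A setup `Su F G` says that the
centraliser of `t = κ(-1, 1)` in `G` is `κ(Dl F) ∪ κ(Dl F) w`, where `w` swaps the two blocks.
-/

set_option autoImplicit false

namespace Cfsg.Agent.L4C

open Matrix

/-- `2 × 2` matrices -/
abbrev M2 (F : Type*) := Matrix (Fin 2) (Fin 2) F
/-- `SL₂(F)` -/
abbrev S2 (F : Type*) [Field F] := Matrix.SpecialLinearGroup (Fin 2) F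

/-- pairs of blocks with total determinant one -/
@[ext] structure Dl (F : Type*) [Field F] where
  /-- first block -/
  A : M2 F
  /-- second block -/
  B : M2 F
  h : A.det * B.det = 1

variable {F : Type*} [Field F] {G : Type*} [Group G]

namespace Dl

instance : Group (Dl F) where
  mul x y := ⟨x.A * y.A, x.B * y.B, by
    rw [det_mul, det_mul]; linear_combination y.A.det * y.B.det * x.h + y.h⟩
  one := ⟨1, 1, by simp⟩
  inv x := ⟨x.B.det • x.A.adjugate, x.A.det • x.B.adjugate, by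
    simp only [det_smul, det_adjugate, Fintype.card_fin]
    linear_combination (x.A.det ^ 2 * x.B.det ^ 2 + x.A.det * x.B.det + 1) * x.h⟩
  mul_assoc x y z := Dl.ext (Matrix.mul_assoc _ _ _) (Matrix.mul_assoc _ _ _)
  one_mul x := Dl.ext (Matrix.one_mul _) (Matrix.one_mul _)
  mul_one x := Dl.ext (Matrix.mul_one _) (Matrix.mul_one _)
  inv_mul_cancel x := Dl.ext
    (show (x.B.det • x.A.adjugate) * x.A = 1 by
      rw [smul_mul_assoc, adjugate_mul, smul_smul, mul_comm, x.h, one_smul])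
    (show (x.A.det • x.B.adjugate) * x.B = 1 by
      rw [smul_mul_assoc, adjugate_mul, smul_smul, x.h, one_smul])

theorem mul_A (x y : Dl F) : (x * y).A = x.A * y.A := rfl
theorem mul_B (x y : Dl F) : (x * y).B = x.B * y.B := rfl
theorem one_A : (1 : Dl F).A = 1 := rfl
theorem one_B : (1 : Dl F).B = 1 := rfl
theorem inv_A (x : Dl F) : x⁻¹.A = x.B.det • x.A.adjugate := rfl
theorem inv_B (x : Dl F) : x⁻¹.B = x.A.det • x.B.adjugate := rfl
theorem pow_A (x : Dl F) (n : ℕ) : (x ^ n).A = x.A ^ n := by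
  induction n with
  | zero => rfl
  | succ n ih => rw [pow_succ, mul_A, ih, pow_succ]
theorem pow_B (x : Dl F) (n : ℕ) : (x ^ n).B = x.B ^ n := by
  induction n with
  | zero => rfl
  | succ n ih => rw [pow_succ, mul_B, ih, pow_succ]
theorem detA_ne (x : Dl F) : x.A.det ≠ 0 := left_ne_zero_of_mul_eq_one x.h
theorem detB_ne (x : Dl F) : x.B.det ≠ 0 := right_ne_zero_of_mul_eq_one x.h
theorem A_mul_inv (x : Dl F) : x.A * x⁻¹.A = 1 := congrArg Dl.A (mul_inv_cancel x)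
theorem inv_mul_A (x : Dl F) : x⁻¹.A * x.A = 1 := congrArg Dl.A (inv_mul_cancel x)
theorem B_mul_inv (x : Dl F) : x.B * x⁻¹.B = 1 := congrArg Dl.B (mul_inv_cancel x)
theorem inv_mul_B (x : Dl F) : x⁻¹.B * x.B = 1 := congrArg Dl.B (inv_mul_cancel x)

/-- exchange of the two blocks -/
def swap : Dl F →* Dl F where
  toFun x := ⟨x.B, x.A, by rw [mul_comm, x.h]⟩
  map_one' := rfl
  map_mul' _ _ := rfl
theorem swap_A (x : Dl F) : (swap x).A = x.B := rfl
theorem swap_B (x : Dl F) : (swap x).B = x.A := rfl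
theorem swap_swap (x : Dl F) : swap (swap x) = x := rfl

/-- `SL₂` in the first block -/
def inl : S2 F →* Dl F where
  toFun X := ⟨X.1, 1, by simp⟩
  map_one' := rfl
  map_mul' _ _ := Dl.ext rfl (Matrix.mul_one _).symm
/-- `SL₂` in the second block -/
def inr : S2 F →* Dl F where
  toFun X := ⟨1, X.1, by simp⟩
  map_one' := rfl
  map_mul' _ _ := Dl.ext (Matrix.mul_one _).symm rfl
theorem inl_A (X : S2 F) : (inl X).A = X.1 := rfl
theorem inl_B (X : S2 F) : (inl X).B = 1 := rfl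
theorem inr_A (X : S2 F) : (inr X).A = 1 := rfl
theorem inr_B (X : S2 F) : (inr X).B = X.1 := rfl

/-- diagonal elements -/
def dg (a b c d : F) (h : a * b * (c * d) = 1) : Dl F :=
  ⟨!![a, 0; 0, b], !![c, 0; 0, d], by simpa [det_fin_two] using h⟩
theorem dg_A (a b c d : F) (h : a * b * (c * d) = 1) : (dg a b c d h).A = !![a, 0; 0, b] := rfl
theorem dg_B (a b c d : F) (h : a * b * (c * d) = 1) : (dg a b c d h).B = !![c, 0; 0, d] := rfl

/-- both blocks diagonal -/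
def Diag : Subgroup (Dl F) where
  carrier := {x | x.A 0 1 = 0 ∧ x.A 1 0 = 0 ∧ x.B 0 1 = 0 ∧ x.B 1 0 = 0}
  mul_mem' := by
    rintro x y ⟨h1, h2, h3, h4⟩ ⟨k1, k2, k3, k4⟩
    simp [mul_A, mul_B, Matrix.mul_apply, Fin.sum_univ_two, h1, h2, h3, h4, k1, k2, k3, k4]
  one_mem' := by simp [one_A, one_B]
  inv_mem' := by
    rintro x ⟨h1, h2, h3, h4⟩
    simp [inv_A, inv_B, adjugate_fin_two, h1, h2, h3, h4]

/-- both blocks scalar -/
def Scal : Subgroup (Dl F) where
  carrier := {x | ∃ a b : F, x.A = a • (1 : M2 F) ∧ x.B = b • (1 : M2 F)}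
  mul_mem' := by
    rintro x y ⟨a, b, h1, h2⟩ ⟨c, d, k1, k2⟩
    exact ⟨a * c, b * d, by simp [mul_A, h1, k1, smul_smul, mul_comm], by simp [mul_B, h2, k2, smul_smul, mul_comm]⟩
  one_mem' := ⟨1, 1, by simp [one_A], by simp [one_B]⟩
  inv_mem' := by
    rintro x ⟨a, b, h1, h2⟩
    refine ⟨x.B.det * a, x.A.det * b, ?_, ?_⟩
    · rw [inv_A, h1, adjugate_smul, adjugate_one, smul_smul]; simp
    · rw [inv_B, h2, adjugate_smul, adjugate_one, smul_smul]; simp

/-- both blocks of determinant one -/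
def Spec : Subgroup (Dl F) where
  carrier := {x | x.A.det = 1}
  mul_mem' := by
    intro x y h k
    change (x.A * y.A).det = 1
    rw [det_mul, show x.A.det = 1 from h, show y.A.det = 1 from k, one_mul]
  one_mem' := by simp [one_A]
  inv_mem' := by
    intro x h
    have := congrArg det x.A_mul_inv
    rwa [det_mul, show x.A.det = 1 from h, one_mul, det_one] at this

theorem mem_Diag {x : Dl F} : x ∈ Diag ↔ x.A 0 1 = 0 ∧ x.A 1 0 = 0 ∧ x.B 0 1 = 0 ∧ x.B 1 0 = 0 := Iff.rfl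
theorem mem_Scal {x : Dl F} : x ∈ Scal ↔ ∃ a b : F, x.A = a • (1 : M2 F) ∧ x.B = b • (1 : M2 F) := Iff.rfl
theorem mem_Spec {x : Dl F} : x ∈ Spec ↔ x.A.det = 1 := Iff.rfl
theorem dg_mem (a b c d : F) (h : a * b * (c * d) = 1) : dg a b c d h ∈ Diag := by simp [mem_Diag, dg_A, dg_B]
theorem exists_dg {x : Dl F} (hx : x ∈ Diag) : ∃ a b c d h, x = dg a b c d h := by
  obtain ⟨h1, h2, h3, h4⟩ := hx
  refine ⟨x.A 0 0, x.A 1 1, x.B 0 0, x.B 1 1, by simpa [det_fin_two, h1, h2, h3, h4] using x.h, Dl.ext ?_ ?_⟩ <;>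
    ext i j <;> fin_cases i <;> fin_cases j <;> simp [dg_A, dg_B, h1, h2, h3, h4]

end Dl

/-- upper unitriangular matrices -/
def xu (a : F) : S2 F := ⟨!![1, a; 0, 1], by simp [det_fin_two]⟩
/-- lower unitriangular matrices -/
def xl (a : F) : S2 F := ⟨!![1, 0; a, 1], by simp [det_fin_two]⟩
/-- the Weyl element -/
def nn : S2 F := ⟨!![0, 1; -1, 0], by simp [det_fin_two]⟩
/-- diagonal matrices -/
def hd (a : F) (ha : a ≠ 0) : S2 F := ⟨!![a, 0; 0, a⁻¹], by simp [det_fin_two, ha]⟩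
theorem xu_coe (a : F) : (xu a).1 = !![1, a; 0, 1] := rfl
theorem xl_coe (a : F) : (xl a).1 = !![1, 0; a, 1] := rfl
theorem nn_coe : (nn : S2 F).1 = !![0, 1; -1, 0] := rfl
theorem hd_coe (a : F) (ha : a ≠ 0) : (hd a ha).1 = !![a, 0; 0, a⁻¹] := rfl

/-- The centraliser of `κ(-1, 1)` in `G` is that of `diag(-1,-1,1,1)` in `L₄(F)`. -/
structure Su (F : Type*) [Field F] (G : Type*) [Group G] where
  /-- the block diagonal part -/
  κ : Dl F →* G
  /-- the swap -/
  w : G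
  ker : ∀ x, κ x = 1 ↔ ∃ l : F, x.A = l • (1 : M2 F) ∧ x.B = l • (1 : M2 F)
  ww : w * w = 1
  wκ : ∀ x, w * κ x = κ (Dl.swap x) * w
  cent : ∀ g, Commute g (κ (Dl.inl (-1))) ↔ ∃ x, g = κ x ∨ g = κ x * w

namespace Su

variable (S : Su F G)

/-- the first `SL₂` -/
def f1 : S2 F →* G := S.κ.comp Dl.inl
/-- the second `SL₂` -/
def f2 : S2 F →* G := S.κ.comp Dl.inr
/-- the involution `diag(-1,-1,1,1)` -/
def t : G := S.f1 (-1)
/-- the involution `diag(-1,1,-1,1)` -/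
def t' : G := S.κ (Dl.dg (-1) 1 (-1) 1 (by ring))
/-- the involution `(n, n)` -/
def a : G := S.f1 nn * S.f2 nn
/-- the centraliser of `t` -/
def C : Subgroup G := Subgroup.centralizer {S.t}
/-- the elements that do not swap the blocks -/
def N : Subgroup G := S.κ.range
/-- the elements that swap the blocks -/
def Sw (g : G) : Prop := ∃ x, g = S.κ x * S.w
/-- `SL₂ ∘ SL₂` -/
def K : Subgroup G := Dl.Spec.map S.κ
/-- the diagonal torus -/
def T : Subgroup G := Dl.Diag.map S.κ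
/-- the centre of `N` -/
def Z : Subgroup G := Dl.Scal.map S.κ
/-- root elements `x₁₂` -/
def x1 (c : F) : G := S.f1 (xu c)
/-- root elements `x₃₄` -/
def x2 (c : F) : G := S.f2 (xu c)

/-- The outcome of the fusion analysis. -/
structure Fu (ν : G) : Prop where
  tt : ν * S.t * ν⁻¹ = S.t'
  tt' : ν * S.t' * ν⁻¹ = S.t
  nT : ν ∈ Subgroup.normalizer (S.T : Set G)
  sw : S.Sw (ν * S.a * ν⁻¹)
  na : ¬ IsSquare (-1 : F) → ¬ IsConj S.t S.a

/-- Representatives of the Weyl group `S₄` modulo the torus. -/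
structure Fr where
  /-- the representatives -/
  g : Equiv.Perm (Fin 4) → G
  nT : ∀ σ, g σ ∈ Subgroup.normalizer (S.T : Set G)
  mul : ∀ σ ρ, (g σ * g ρ)⁻¹ * g (σ * ρ) ∈ S.T
  r1 : (S.f1 nn)⁻¹ * g (Equiv.swap 0 1) ∈ S.T
  r2 : (S.f2 nn)⁻¹ * g (Equiv.swap 2 3) ∈ S.T
  fu : S.Fu (g (Equiv.swap 1 2))

end Su

/-- Steinberg type relations with free structure constants -/
structure StD {n : ℕ} (y : Fin n → Fin n → F → G) : Prop where
  add : ∀ i j, i ≠ j → ∀ a b, y i j (a + b) = y i j a * y i j b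
  inj : ∀ i j, i ≠ j → ∀ a, y i j a = 1 → a = 0
  comm : ∀ i j k l, i ≠ j → k ≠ l → j ≠ k → i ≠ l → ∀ a b, Commute (y i j a) (y k l b)
  br : ∀ i j k, i ≠ j → j ≠ k → i ≠ k → ∃ c : F, ∀ a b,
    y i j a * y j k b * (y i j a)⁻¹ * (y j k b)⁻¹ = y i k (c * a * b)
  zr : ∀ i j k, i ≠ j → j ≠ k → i ≠ k → ∀ a,
    (y j k 1 * y k j (-1) * y j k 1) ^ 2 * y i j a = y i j (-a) * (y j k 1 * y k j (-1) * y j k 1) ^ 2
  zc : ∀ i j k, i ≠ j → j ≠ k → i ≠ k → ∀ a,
    (y j k 1 * y k j (-1) * y j k 1) ^ 2 * y j i a = y j i (-a) * (y j k 1 * y k j (-1) * y j k 1) ^ 2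

end Cfsg.Agent.L4C
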