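import Mathlib
import Cfsg.Agent.L4C.Defs
import Cfsg.Agent.Cl.LinearBasic

/-!
# `L₄(q)` from an involution centraliser: elementary computations in the centraliser
-/

set_option autoImplicit false

namespace Cfsg.Agent.L4C

open Matrix

variable {F : Type*} [Field F] {G : Type*} [Group G]

/-- odd fields with more than three elements -/
structure Fq (F : Type*) [Field F] [Fintype F] : Prop where
  odd : Odd (Fintype.card F)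
  gt : 3 < Fintype.card F

theorem Fq.char_ne_two [Fintype F] (hF : Fq F) (p : ℕ) [CharP F p] : p ≠ 2 := by
  rintro rfl
  have := FiniteField.even_card_of_char_two (F := F) (ringChar.eq F 2)
  have := Nat.odd_iff.1 hF.odd
  omega
theorem Fq.two_ne [Fintype F] (hF : Fq F) : (2 : F) ≠ 0 :=
  Ring.two_ne_zero (hF.char_ne_two (ringChar F))
theorem Fq.exists_sq_ne [Fintype F] (hF : Fq F) : ∃ l : F, l ≠ 0 ∧ l ^ 2 ≠ 1 :=
  Cl.exists_sq_ne_one_of_four_le_card (by rw [Nat.card_eq_fintype_card]; exact hF.gt)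

omit [Field F] in
theorem eq2 {A B : M2 F} : A = B ↔ A 0 0 = B 0 0 ∧ A 0 1 = B 0 1 ∧ A 1 0 = B 1 0 ∧ A 1 1 = B 1 1 := by
  rw [← Matrix.ext_iff]; simp [Fin.forall_fin_two, and_assoc]
theorem s2_ext {X Y : S2 F} (h : X.1 = Y.1) : X = Y := Subtype.ext h
theorem s2_mul (X Y : S2 F) : (X * Y).1 = X.1 * Y.1 := rfl
theorem s2_neg (X : S2 F) : (-X).1 = -X.1 := rfl
theorem s2_one : (1 : S2 F).1 = 1 := rfl
theorem s2_inv (X : S2 F) : (X⁻¹).1 = !![X.1 1 1, -X.1 0 1; -X.1 1 0, X.1 0 0] := by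
  rw [show (X⁻¹).1 = X.1.adjugate from rfl, adjugate_fin_two]
theorem s2_det (X : S2 F) : X.1 0 0 * X.1 1 1 - X.1 0 1 * X.1 1 0 = 1 := by
  rw [← det_fin_two]; exact X.2
theorem mul2 (A B : M2 F) (i j : Fin 2) : (A * B) i j = A i 0 * B 0 j + A i 1 * B 1 j := by
  rw [Matrix.mul_apply, Fin.sum_univ_two]

theorem xu_add (a b : F) : xu (a + b) = xu a * xu b := s2_ext (by simp [s2_mul, xu_coe, add_comm])
theorem xl_add (a b : F) : xl (a + b) = xl a * xl b := s2_ext (by simp [s2_mul, xl_coe])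
theorem xu_zero : xu (0 : F) = 1 := s2_ext (by simp [xu_coe, eq2])
theorem xl_zero : xl (0 : F) = 1 := s2_ext (by simp [xl_coe, eq2])
theorem xu_neg (a : F) : xu (-a) = (xu a)⁻¹ := by
  rw [eq_inv_iff_mul_eq_one, ← xu_add, neg_add_cancel, xu_zero]
theorem xl_neg (a : F) : xl (-a) = (xl a)⁻¹ := by
  rw [eq_inv_iff_mul_eq_one, ← xl_add, neg_add_cancel, xl_zero]
theorem xu_inj {a b : F} (h : xu a = xu b) : a = b := by
  simpa [xu_coe] using congrArg (fun X : S2 F => X.1 0 1) h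
theorem xu_pow (a : F) (k : ℕ) : xu a ^ k = xu (k * a) := by
  induction k with
  | zero => simp [xu_zero]
  | succ k ih => rw [pow_succ, ih, ← xu_add]; congr 1; push_cast; ring
theorem nn_sq : (nn : S2 F) * nn = -1 := s2_ext (by simp [s2_mul, nn_coe, eq2, s2_neg])
theorem nn_eq : (nn : S2 F) = xu 1 * xl (-1) * xu 1 := s2_ext (by simp [s2_mul, nn_coe, xu_coe, xl_coe])
theorem nn_xu (a : F) : nn * xu a * nn⁻¹ = xl (-a) :=
  s2_ext (by simp [s2_mul, s2_inv, nn_coe, xu_coe, xl_coe])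
theorem nn_xl (a : F) : nn * xl a * nn⁻¹ = xu (-a) :=
  s2_ext (by simp [s2_mul, s2_inv, nn_coe, xu_coe, xl_coe])
theorem xu_eq_tv (a : F) : xu a = SpecialLinearGroup.transvection (show (0 : Fin 2) ≠ 1 by decide) a :=
  s2_ext (by simp [xu_coe, eq2, SpecialLinearGroup.transvection, Matrix.transvection])
theorem xl_eq_tv (a : F) : xl a = SpecialLinearGroup.transvection (show (1 : Fin 2) ≠ 0 by decide) a :=
  s2_ext (by simp [xl_coe, eq2, SpecialLinearGroup.transvection, Matrix.transvection])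
theorem sl2_eq_top (H : Subgroup (S2 F)) (h1 : ∀ a, xu a ∈ H) (h2 : ∀ a, xl a ∈ H) : H = ⊤ := by
  refine Cl.sl_eq_top_of_transvection_mem H fun i j hij c => ?_
  fin_cases i <;> fin_cases j
  · exact absurd rfl hij
  · exact xu_eq_tv c ▸ h1 c
  · exact xl_eq_tv c ▸ h2 c
  · exact absurd rfl hij
theorem scalar_of_comm {A : M2 F} (h : ∀ X : S2 F, A * X.1 = X.1 * A) : ∃ l : F, A = l • (1 : M2 F) := by
  have h1 := h (xu 1)
  have h2 := h (xl 1)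
  simp only [xu_coe, xl_coe, eq2, mul2] at h1 h2
  simp at h1 h2
  refine ⟨A 0 0, ?_⟩
  simp only [eq2]
  simp
  grind
theorem eq_of_scalar {X : S2 F} {l : F} (h : X.1 = l • (1 : M2 F)) : X = 1 ∨ X = -1 := by
  have := s2_det X
  rw [h] at this
  simp at this
  rcases mul_self_eq_one_iff.1 this with rfl | rfl
  · exact Or.inl (s2_ext (by rw [h, one_smul]; rfl))
  · exact Or.inr (s2_ext (by rw [h, s2_neg, s2_one]; simp))
theorem sl2_normal [Fintype F] (hF : Fq F) (H : Subgroup (S2 F)) [H.Normal] :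
    (∀ X ∈ H, X = 1 ∨ X = -1) ∨ H = ⊤ := by
  refine (Cl.sl_normal_le_center_or_eq_top (Or.inr hF.exists_sq_ne) H).imp_left fun h X hX => ?_
  obtain ⟨l, hl⟩ := scalar_of_comm (A := X.1) fun Y =>
    congrArg Subtype.val ((Subgroup.mem_center_iff.1 (h hX) Y).symm)
  exact eq_of_scalar hl

/-- unipotent elements of `SL₂` -/
def Un (U : S2 F) : Prop := U.1.trace = 2

theorem un_iff {U : S2 F} : Un U ↔ U.1 0 0 + U.1 1 1 = 2 := by rw [Un, trace_fin_two]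
theorem un_xu (c : F) : Un (xu c) := by simp [un_iff, xu_coe]; norm_num
theorem Un.conj {U : S2 F} (h : Un U) (g : S2 F) : Un (g * U * g⁻¹) := by
  rw [Un, s2_mul, trace_mul_comm, s2_mul, ← Matrix.mul_assoc, ← s2_mul, inv_mul_cancel, s2_one, Matrix.one_mul]
  exact h
theorem Un.eq_xu {U : S2 F} (h : Un U) (h0 : U.1 1 0 = 0) : U = xu (U.1 0 1) := by
  have h1 := s2_det U
  rw [un_iff] at h
  have h2 : U.1 0 0 = 1 := by
    have : (U.1 0 0 - 1) ^ 2 = 0 := by rw [h0] at h1; linear_combination U.1 0 0 * h - h1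
    exact sub_eq_zero.1 (pow_eq_zero_iff two_ne_zero |>.1 this)
  refine s2_ext ?_
  simp only [eq2, xu_coe]
  simp [h0, h2]
  linear_combination h - h2
theorem Un.exists_conj {U : S2 F} (h : Un U) : ∃ g c, U = g * xu c * g⁻¹ := by
  by_cases h0 : U.1 1 0 = 0
  · exact ⟨1, _, by rw [one_mul, inv_one, mul_one]; exact h.eq_xu h0⟩
  · let g : S2 F := xu ((U.1 0 0 - 1) / U.1 1 0) * nn
    have h1 := s2_det U
    have h2 := un_iff.1 h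
    have h3 : (g⁻¹ * U * g⁻¹⁻¹).1 1 0 = 0 := by
      rw [inv_inv]
      simp only [g, s2_mul, s2_inv, mul2, xu_coe, nn_coe]
      simp
      field_simp
      linear_combination h1 - h2
    exact ⟨g, _, by rw [← (h.conj g⁻¹).eq_xu h3]; group⟩
theorem Un.pow_char (p : ℕ) [CharP F p] {U : S2 F} (h : Un U) : U ^ p = 1 := by
  obtain ⟨g, c, rfl⟩ := h.exists_conj
  rw [conj_pow, xu_pow, CharP.cast_eq_zero, zero_mul, xu_zero]; group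
theorem un_of_pow (p : ℕ) [Fact p.Prime] [CharP F p] {U : S2 F} {k : ℕ} (h : U ^ p ^ k = 1) : Un U := by
  have h1 : (U.1 - 1) ^ p ^ k = 0 := by
    rw [sub_pow_char_pow_of_commute _ _ (Commute.one_right _), one_pow, sub_eq_zero]
    exact congrArg Subtype.val h
  have h2 : (U.1 - 1).det = 0 := by
    have := congrArg det h1
    rw [det_pow, det_zero] at this
    exact (pow_eq_zero_iff (pow_ne_zero _ (Fact.out : p.Prime).ne_zero)).1 this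
  have h3 := s2_det U
  rw [det_fin_two] at h2
  simp at h2
  rw [un_iff]
  linear_combination h3 - h2
theorem upper_of_comm {c : F} (hc : c ≠ 0) {A : M2 F} (h : A * (xu c).1 = (xu c).1 * A) :
    A 1 0 = 0 ∧ A 0 0 = A 1 1 := by
  simp only [xu_coe, eq2, mul2] at h
  simp [hc] at h
  refine ⟨h.1, mul_right_cancel₀ hc ?_⟩
  linear_combination h.2.1

namespace Su

variable (S : Su F G)

theorem eq_iff (x y : Dl F) : S.κ x = S.κ y ↔ ∃ l : F, x.A = l • y.A ∧ x.B = l • y.B := by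
  rw [← mul_inv_eq_one, ← map_inv, ← map_mul, S.ker]
  refine exists_congr fun l => and_congr ⟨fun h => ?_, fun h => ?_⟩ ⟨fun h => ?_, fun h => ?_⟩
  · rw [← Matrix.one_mul y.A, ← smul_mul_assoc, ← h, ← Dl.mul_A, inv_mul_cancel_right]
  · rw [Dl.mul_A, h, smul_mul_assoc, y.A_mul_inv]
  · rw [← Matrix.one_mul y.B, ← smul_mul_assoc, ← h, ← Dl.mul_B, inv_mul_cancel_right]
  · rw [Dl.mul_B, h, smul_mul_assoc, y.B_mul_inv]
theorem w_inv : S.w⁻¹ = S.w := inv_eq_of_mul_eq_one_right S.ww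
theorem κw (x : Dl F) : S.κ x * S.w = S.w * S.κ (Dl.swap x) := by rw [S.wκ, Dl.swap_swap]
theorem wκw (x : Dl F) : S.w * S.κ x * S.w = S.κ (Dl.swap x) := by rw [S.wκ, mul_assoc, S.ww, mul_one]
theorem mem_C_iff {g : G} : g ∈ S.C ↔ Commute g S.t := Subgroup.mem_centralizer_singleton_iff
theorem mem_C {g : G} : g ∈ S.C ↔ g ∈ S.N ∨ S.Sw g := by
  rw [mem_C_iff]
  refine (S.cent g).trans ⟨?_, ?_⟩
  · rintro ⟨x, h | h⟩
    exacts [Or.inl ⟨x, h.symm⟩, Or.inr ⟨x, h⟩]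
  · rintro (⟨x, h⟩ | ⟨x, h⟩)
    exacts [⟨x, Or.inl h.symm⟩, ⟨x, Or.inr h⟩]
theorem κ_mem_N (x : Dl F) : S.κ x ∈ S.N := ⟨x, rfl⟩
theorem N_le_C : S.N ≤ S.C := fun _ h => S.mem_C.2 (Or.inl h)
theorem K_le_N : S.K ≤ S.N := Subgroup.map_le_range _ _
theorem T_le_N : S.T ≤ S.N := Subgroup.map_le_range _ _
theorem Z_le_T : S.Z ≤ S.T := Subgroup.map_mono (by
  rintro x ⟨a, b, h1, h2⟩
  simp [Dl.mem_Diag, h1, h2])
theorem sw_w : S.Sw S.w := ⟨1, by rw [map_one, one_mul]⟩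
theorem w_mem_C : S.w ∈ S.C := S.mem_C.2 (Or.inr S.sw_w)
theorem f1_comm (X Y : S2 F) : Commute (S.f1 X) (S.f2 Y) := by
  change S.κ _ * S.κ _ = S.κ _ * S.κ _
  rw [← map_mul, ← map_mul]
  exact congrArg _ (Dl.ext (by simp [Dl.mul_A, Dl.inl_A, Dl.inr_A]) (by simp [Dl.mul_B, Dl.inl_B, Dl.inr_B]))
theorem w_f1 (X : S2 F) : S.w * S.f1 X * S.w = S.f2 X := S.wκw _
theorem w_f2 (X : S2 F) : S.w * S.f2 X * S.w = S.f1 X := S.wκw _
theorem f12 (X Y : S2 F) : S.f1 X * S.f2 Y = S.κ ⟨X.1, Y.1, by simp⟩ := by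
  change S.κ _ * S.κ _ = _
  rw [← map_mul]
  exact congrArg _ (Dl.ext (by simp [Dl.mul_A, Dl.inl_A, Dl.inr_A]) (by simp [Dl.mul_B, Dl.inl_B, Dl.inr_B]))
theorem f12_eq {X Y X' Y' : S2 F} (h : S.f1 X * S.f2 Y = S.f1 X' * S.f2 Y') :
    (X = X' ∧ Y = Y') ∨ (X = -X' ∧ Y = -Y') := by
  rw [f12, f12, eq_iff] at h
  obtain ⟨l, h1, h2⟩ := h
  have := congrArg det h1
  rw [det_smul, X.2, X'.2, Fintype.card_fin, mul_one] at this
  rcases sq_eq_one_iff.1 this.symm with rfl | rfl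
  · exact Or.inl ⟨s2_ext (by simpa using h1), s2_ext (by simpa using h2)⟩
  · exact Or.inr ⟨s2_ext (by simpa [s2_neg] using h1), s2_ext (by simpa [s2_neg] using h2)⟩
theorem f1_eq_f2 {X Y : S2 F} (h : S.f1 X = S.f2 Y) : (X = 1 ∧ Y = 1) ∨ (X = -1 ∧ Y = -1) := by
  have : S.f1 X * S.f2 1 = S.f1 1 * S.f2 Y := by simp [h]
  rcases S.f12_eq this with ⟨h1, h2⟩ | ⟨h1, h2⟩
  · exact Or.inl ⟨h1, h2.symm⟩
  · exact Or.inr ⟨h1, by rw [← neg_neg Y, ← h2]⟩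
theorem f1_inj : Function.Injective S.f1 := by
  refine (injective_iff_map_eq_one _).2 fun X h => ?_
  obtain ⟨l, h1, h2⟩ := (S.ker _).1 h
  have : l = 1 := by simpa [Dl.inl_B] using (congrFun (congrFun h2 0) 0).symm
  exact s2_ext (by simpa [this, Dl.inl_A] using h1)
theorem f2_inj : Function.Injective S.f2 := fun X Y h => S.f1_inj (by rw [← w_f2, h, w_f2])
theorem mem_K {g : G} : g ∈ S.K ↔ ∃ X Y, g = S.f1 X * S.f2 Y := by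
  constructor
  · rintro ⟨x, hx, rfl⟩
    have hA : x.A.det = 1 := hx
    have hB : x.B.det = 1 := by simpa [hA] using x.h
    exact ⟨⟨x.A, hA⟩, ⟨x.B, hB⟩, (S.f12 ⟨x.A, hA⟩ ⟨x.B, hB⟩).symm⟩
  · rintro ⟨X, Y, rfl⟩
    exact ⟨_, by simp [Dl.mem_Spec], (S.f12 X Y).symm⟩
theorem f1_mem_K (X : S2 F) : S.f1 X ∈ S.K := S.mem_K.2 ⟨X, 1, by simp⟩
theorem f2_mem_K (X : S2 F) : S.f2 X ∈ S.K := S.mem_K.2 ⟨1, X, by simp⟩
theorem κ_f1 (x : Dl F) (X : S2 F) : ∃ Y : S2 F, Y.1 = x.A * X.1 * x⁻¹.A ∧ S.κ x * S.f1 X * (S.κ x)⁻¹ = S.f1 Y := by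
  refine ⟨⟨x.A * X.1 * x⁻¹.A, ?_⟩, rfl, ?_⟩
  · rw [det_mul, det_mul, X.2, mul_one, ← det_mul, x.A_mul_inv, det_one]
  · change S.κ _ * S.κ _ * _ = S.κ _
    rw [← map_inv, ← map_mul, ← map_mul]
    exact congrArg _ (Dl.ext rfl (show x.B * 1 * x⁻¹.B = 1 by rw [Matrix.mul_one, x.B_mul_inv]))
theorem κ_f2 (x : Dl F) (X : S2 F) : ∃ Y : S2 F, Y.1 = x.B * X.1 * x⁻¹.B ∧ S.κ x * S.f2 X * (S.κ x)⁻¹ = S.f2 Y := by
  refine ⟨⟨x.B * X.1 * x⁻¹.B, ?_⟩, rfl, ?_⟩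
  · rw [det_mul, det_mul, X.2, mul_one, ← det_mul, x.B_mul_inv, det_one]
  · change S.κ _ * S.κ _ * _ = S.κ _
    rw [← map_inv, ← map_mul, ← map_mul]
    exact congrArg _ (Dl.ext (show x.A * 1 * x⁻¹.A = 1 by rw [Matrix.mul_one, x.A_mul_inv]) rfl)
variable {S}
theorem conj_f1 {g : G} (hg : g ∈ S.N) (X : S2 F) : ∃ Y, g * S.f1 X * g⁻¹ = S.f1 Y := by
  obtain ⟨x, rfl⟩ := hg
  obtain ⟨Y, -, h⟩ := S.κ_f1 x X
  exact ⟨Y, h⟩
theorem conj_f2 {g : G} (hg : g ∈ S.N) (X : S2 F) : ∃ Y, g * S.f2 X * g⁻¹ = S.f2 Y := by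
  obtain ⟨x, rfl⟩ := hg
  obtain ⟨Y, -, h⟩ := S.κ_f2 x X
  exact ⟨Y, h⟩
theorem Sw.conj_f1 {g : G} (hg : S.Sw g) (X : S2 F) : ∃ Y, g * S.f1 X * g⁻¹ = S.f2 Y := by
  obtain ⟨x, rfl⟩ := hg
  obtain ⟨Y, -, h⟩ := S.κ_f2 x X
  exact ⟨Y, by rw [← h, ← w_f1, _root_.mul_inv_rev, w_inv]; group⟩
theorem Sw.conj_f2 {g : G} (hg : S.Sw g) (X : S2 F) : ∃ Y, g * S.f2 X * g⁻¹ = S.f1 Y := by
  obtain ⟨x, rfl⟩ := hg
  obtain ⟨Y, -, h⟩ := S.κ_f1 x X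
  exact ⟨Y, by rw [← h, ← w_f2, _root_.mul_inv_rev, w_inv]; group⟩
theorem xu_ne {c : F} (hc : c ≠ 0) : xu c ≠ 1 ∧ xu c ≠ -1 := by
  constructor <;> intro h <;> exact hc (by simpa [xu_coe, s2_neg, s2_one] using congrArg (fun X : S2 F => X.1 0 1) h)
theorem Sw.mem_C {g : G} (h : S.Sw g) : g ∈ S.C := S.mem_C.2 (Or.inr h)
theorem Sw.not_mem_N {g : G} (h : S.Sw g) : g ∉ S.N := fun h' => by
  obtain ⟨Y, h1⟩ := h.conj_f1 (xu 1)
  obtain ⟨X, h2⟩ := Su.conj_f1 h' (xu 1)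
  have h3 : S.f1 (xu 1) = g⁻¹ * S.f1 X * g := by rw [← h2]; group
  have hc : Commute g S.t := S.mem_C_iff.1 h.mem_C
  rcases S.f1_eq_f2 (h2.symm.trans h1) with ⟨rfl, -⟩ | ⟨rfl, -⟩
  · exact (xu_ne one_ne_zero).1 (S.f1_inj (by rw [h3]; simp))
  · refine (xu_ne one_ne_zero).2 (S.f1_inj ?_)
    rw [h3, mul_assoc]; change g⁻¹ * (S.t * g) = S.t; rw [← hc.eq]; group
theorem Sw.mul_sw {g h : G} (hg : S.Sw g) (hh : S.Sw h) : g * h ∈ S.N := by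
  obtain ⟨x, rfl⟩ := hg
  obtain ⟨y, rfl⟩ := hh
  exact ⟨x * Dl.swap y, by rw [map_mul, ← wκw]; group⟩
theorem Sw.mul_N {g h : G} (hg : S.Sw g) (hh : h ∈ S.N) : S.Sw (g * h) := by
  obtain ⟨x, rfl⟩ := hg
  obtain ⟨y, rfl⟩ := hh
  exact ⟨x * Dl.swap y, by rw [map_mul, mul_assoc, S.wκ, mul_assoc]⟩
theorem Sw.N_mul {g h : G} (hg : S.Sw g) (hh : h ∈ S.N) : S.Sw (h * g) := by
  obtain ⟨x, rfl⟩ := hg
  obtain ⟨y, rfl⟩ := hh
  exact ⟨y * x, by rw [map_mul, mul_assoc]⟩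
theorem Sw.inv {g : G} (hg : S.Sw g) : S.Sw g⁻¹ := by
  obtain ⟨x, rfl⟩ := hg
  rw [_root_.mul_inv_rev, w_inv]
  exact S.sw_w.mul_N (S.N.inv_mem (S.κ_mem_N x))
theorem Sw.conj {g c : G} (hg : S.Sw g) (hc : c ∈ S.C) : S.Sw (c * g * c⁻¹) := by
  rcases S.mem_C.1 hc with h | h
  · exact (hg.N_mul h).mul_N (S.N.inv_mem h)
  · exact h.inv.N_mul (h.mul_sw hg)
theorem conj_mem_N {g c : G} (hg : g ∈ S.N) (hc : c ∈ S.C) : c * g * c⁻¹ ∈ S.N := by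
  rcases S.mem_C.1 hc with h | h
  · exact S.N.mul_mem (S.N.mul_mem h hg) (S.N.inv_mem h)
  · exact (h.mul_N hg).mul_sw h.inv
theorem conj_mem_K {g c : G} (hg : g ∈ S.K) (hc : c ∈ S.C) : c * g * c⁻¹ ∈ S.K := by
  obtain ⟨X, Y, rfl⟩ := S.mem_K.1 hg
  rw [← conj_mul]
  rcases S.mem_C.1 hc with h | h
  · obtain ⟨X', h1⟩ := conj_f1 h X
    obtain ⟨Y', h2⟩ := conj_f2 h Y
    rw [h1, h2]; exact S.K.mul_mem (S.f1_mem_K _) (S.f2_mem_K _)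
  · obtain ⟨X', h1⟩ := h.conj_f1 X
    obtain ⟨Y', h2⟩ := h.conj_f2 Y
    rw [h1, h2]; exact S.K.mul_mem (S.f2_mem_K _) (S.f1_mem_K _)
theorem comm_Z {g z : G} (hg : g ∈ S.N) (hz : z ∈ S.Z) : Commute g z := by
  obtain ⟨x, rfl⟩ := hg
  obtain ⟨y, ⟨a, b, h1, h2⟩, rfl⟩ := hz
  change _ * _ = _ * _
  rw [← map_mul, ← map_mul]
  exact congrArg _ (Dl.ext (by simp [Dl.mul_A, h1]) (by simp [Dl.mul_B, h2]))
theorem Sw.inv_Z {g z : G} (hg : S.Sw g) (hz : z ∈ S.Z) : g * z * g⁻¹ = z⁻¹ := by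
  obtain ⟨x, rfl⟩ := hg
  have h : S.w * z * S.w = z⁻¹ := by
    obtain ⟨y, ⟨a, b, h1, h2⟩, rfl⟩ := hz
    rw [wκw, eq_inv_iff_mul_eq_one, ← map_mul, S.ker]
    exact ⟨a * b, by simp [Dl.mul_A, Dl.swap_A, h1, h2, smul_smul], by
      simp [Dl.mul_B, Dl.swap_B, h1, h2, smul_smul, mul_comm]⟩
  rw [_root_.mul_inv_rev, w_inv]
  calc _ = S.κ x * (S.w * z * S.w) * (S.κ x)⁻¹ := by group
    _ = _ := by rw [h, (comm_Z (S.κ_mem_N x) (S.Z.inv_mem hz)).eq]; group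
theorem comm_T {g h : G} (hg : g ∈ S.T) (hh : h ∈ S.T) : Commute g h := by
  obtain ⟨x, hx, rfl⟩ := hg
  obtain ⟨y, hy, rfl⟩ := hh
  obtain ⟨a, b, c, d, e, rfl⟩ := Dl.exists_dg hx
  obtain ⟨a', b', c', d', e', rfl⟩ := Dl.exists_dg hy
  change _ * _ = _ * _
  rw [← map_mul, ← map_mul]
  exact congrArg _ (Dl.ext (by simp [Dl.mul_A, Dl.dg_A, mul_comm]) (by simp [Dl.mul_B, Dl.dg_B, mul_comm]))
variable (S)
theorem mem_T {g : G} : g ∈ S.T ↔ ∃ a b c d h, g = S.κ (Dl.dg a b c d h) := by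
  constructor
  · rintro ⟨x, hx, rfl⟩
    obtain ⟨a, b, c, d, e, rfl⟩ := Dl.exists_dg hx
    exact ⟨a, b, c, d, e, rfl⟩
  · rintro ⟨a, b, c, d, e, rfl⟩
    exact ⟨_, Dl.dg_mem .., rfl⟩
theorem κ_mem_T {x : Dl F} : S.κ x ∈ S.T ↔ x ∈ Dl.Diag := by
  refine ⟨?_, fun h => ⟨x, h, rfl⟩⟩
  rintro ⟨y, ⟨h1, h2, h3, h4⟩, h⟩
  obtain ⟨l, k1, k2⟩ := (S.eq_iff _ _).1 h.symm
  simp [Dl.mem_Diag, k1, k2, h1, h2, h3, h4]
theorem κ_mem_Z {x : Dl F} : S.κ x ∈ S.Z ↔ x ∈ Dl.Scal := by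
  refine ⟨?_, fun h => ⟨x, h, rfl⟩⟩
  rintro ⟨y, ⟨a, b, h1, h2⟩, h⟩
  obtain ⟨l, k1, k2⟩ := (S.eq_iff _ _).1 h.symm
  exact ⟨l * a, l * b, by rw [k1, h1, smul_smul], by rw [k2, h2, smul_smul]⟩
theorem t_eq : S.t = S.f2 (-1) := (S.eq_iff _ _).2 ⟨-1, by simp [Dl.inl_A, Dl.inr_A], by simp [Dl.inl_B, Dl.inr_B]⟩
theorem t_sq : S.t * S.t = 1 := by rw [t, ← map_mul]; simp
theorem neg_one_ne (h2 : (2 : F) ≠ 0) : (-1 : F) ≠ 1 := fun h => h2 (by linear_combination -h)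
theorem t_ne (h2 : (2 : F) ≠ 0) : S.t ≠ 1 := fun h => neg_one_ne h2 (by
  simpa using congrArg (fun X : S2 F => X.1 0 0) (S.f1_inj (h.trans (map_one _).symm)))
theorem order_t (h2 : (2 : F) ≠ 0) : orderOf S.t = 2 := orderOf_eq_prime (by rw [pow_two, t_sq]) (S.t_ne h2)
theorem t_mem_Z : S.t ∈ S.Z := ⟨_, ⟨-1, 1, by simp [Dl.inl_A], by simp [Dl.inl_B]⟩, rfl⟩
theorem t_mem_K : S.t ∈ S.K := S.f1_mem_K _
theorem t'_sq : S.t' * S.t' = 1 := by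
  rw [t', ← map_mul, S.ker]
  exact ⟨1, by simp [Dl.mul_A, Dl.dg_A, eq2], by simp [Dl.mul_B, Dl.dg_B, eq2]⟩
theorem t'_mem_T : S.t' ∈ S.T := ⟨_, Dl.dg_mem .., rfl⟩
theorem t'_not_mem_Z (h2 : (2 : F) ≠ 0) : S.t' ∉ S.Z := fun h => by
  obtain ⟨a, b, h1, -⟩ := S.κ_mem_Z.1 h
  simp [Dl.dg_A, eq2] at h1
  exact neg_one_ne h2 (h1.1.trans h1.2.symm)
theorem t'_ne (h2 : (2 : F) ≠ 0) : S.t' ≠ 1 := fun h => S.t'_not_mem_Z h2 (h ▸ S.Z.one_mem)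
theorem t'_ne_t (h2 : (2 : F) ≠ 0) : S.t' ≠ S.t := fun h => S.t'_not_mem_Z h2 (h ▸ S.t_mem_Z)
theorem t'_not_mem_K (h : ¬ IsSquare (-1 : F)) : S.t' ∉ S.K := by
  rintro ⟨x, hx, e⟩
  obtain ⟨l, h1, -⟩ := (S.eq_iff _ _).1 e
  have := congrArg det h1
  rw [show x.A.det = 1 from hx] at this
  simp [Dl.dg_A, det_fin_two] at this
  exact h ⟨l, by linear_combination -this⟩
theorem t'_comm_w : Commute S.t' S.w := S.κw _
theorem dg_x1 (a b c d : F) (h : a * b * (c * d) = 1) (u : F) :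
    S.κ (Dl.dg a b c d h) * S.x1 u * (S.κ (Dl.dg a b c d h))⁻¹ = S.x1 (a / b * u) := by
  have hb : b ≠ 0 := by rintro rfl; simp at h
  rw [mul_inv_eq_iff_eq_mul]
  change S.κ _ * S.κ _ = S.κ _ * S.κ _
  rw [← map_mul, ← map_mul]
  refine congrArg _ (Dl.ext ?_ (by simp [Dl.mul_B, Dl.inl_B]))
  simp [Dl.mul_A, Dl.inl_A, Dl.dg_A, xu_coe]; field_simp
theorem dg_x2 (a b c d : F) (h : a * b * (c * d) = 1) (u : F) :
    S.κ (Dl.dg a b c d h) * S.x2 u * (S.κ (Dl.dg a b c d h))⁻¹ = S.x2 (c / d * u) := by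
  have hb : d ≠ 0 := by rintro rfl; simp at h
  rw [mul_inv_eq_iff_eq_mul]
  change S.κ _ * S.κ _ = S.κ _ * S.κ _
  rw [← map_mul, ← map_mul]
  refine congrArg _ (Dl.ext (by simp [Dl.mul_A, Dl.inr_A]) ?_)
  simp [Dl.mul_B, Dl.inr_B, Dl.dg_B, xu_coe]; field_simp
theorem t'_x1 (c : F) : S.t' * S.x1 c = S.x1 (-c) * S.t' := by
  rw [← mul_inv_eq_iff_eq_mul, t', dg_x1]; simp
theorem t'_x2 (c : F) : S.t' * S.x2 c = S.x2 (-c) * S.t' := by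
  rw [← mul_inv_eq_iff_eq_mul, t', dg_x2]; simp
theorem n1_dg (a b c d : F) (h : a * b * (c * d) = 1) :
    S.f1 nn * S.κ (Dl.dg a b c d h) * (S.f1 nn)⁻¹ = S.κ (Dl.dg b a c d (by rw [mul_comm b, h])) := by
  rw [mul_inv_eq_iff_eq_mul]
  change S.κ _ * S.κ _ = S.κ _ * S.κ _
  rw [← map_mul, ← map_mul]
  exact congrArg _ (Dl.ext (by simp [Dl.mul_A, Dl.inl_A, Dl.dg_A, nn_coe]) (by simp [Dl.mul_B, Dl.inl_B, Dl.dg_B]))
theorem n2_dg (a b c d : F) (h : a * b * (c * d) = 1) :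
    S.f2 nn * S.κ (Dl.dg a b c d h) * (S.f2 nn)⁻¹ = S.κ (Dl.dg a b d c (by rw [mul_comm d, h])) := by
  rw [mul_inv_eq_iff_eq_mul]
  change S.κ _ * S.κ _ = S.κ _ * S.κ _
  rw [← map_mul, ← map_mul]
  exact congrArg _ (Dl.ext (by simp [Dl.mul_A, Dl.inr_A, Dl.dg_A]) (by simp [Dl.mul_B, Dl.inr_B, Dl.dg_B, nn_coe]))
theorem w_dg (a b c d : F) (h : a * b * (c * d) = 1) :
    S.w * S.κ (Dl.dg a b c d h) * S.w⁻¹ = S.κ (Dl.dg c d a b (by rw [mul_comm, h])) := by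
  rw [w_inv, wκw]; rfl
theorem a_dg (a b c d : F) (h : a * b * (c * d) = 1) :
    S.a * S.κ (Dl.dg a b c d h) * S.a⁻¹ = S.κ (Dl.dg b a d c (by rw [mul_comm b, mul_comm d, h])) := by
  rw [← S.n1_dg a b d c (by rw [mul_comm d, h]), ← S.n2_dg a b c d h, Su.a]; group
theorem tt'_eq : S.t * S.t' = S.κ (Dl.dg 1 (-1) (-1) 1 (by ring)) := by
  change S.κ _ * S.κ _ = _
  rw [← map_mul]
  exact congrArg _ (Dl.ext (by simp [Dl.mul_A, Dl.inl_A, Dl.dg_A, eq2]) (by simp [Dl.mul_B, Dl.inl_B, Dl.dg_B]))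
theorem n1_t' : S.f1 nn * S.t' * (S.f1 nn)⁻¹ = S.t * S.t' := by rw [tt'_eq, t', n1_dg]
theorem n2_t' : S.f2 nn * S.t' * (S.f2 nn)⁻¹ = S.t * S.t' := by
  rw [tt'_eq, t', n2_dg, eq_iff]
  exact ⟨-1, by simp [Dl.dg_A], by simp [Dl.dg_B]⟩
theorem a_sq : S.a * S.a = 1 := by
  rw [a, mul_assoc, ← mul_assoc (S.f2 _), ← (S.f1_comm _ _).eq, mul_assoc, ← map_mul, ← mul_assoc, ← map_mul, nn_sq,
    ← t_eq]
  exact S.t_sq
theorem a_mem_K : S.a ∈ S.K := S.mem_K.2 ⟨_, _, rfl⟩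
theorem a_not_mem_T : S.a ∉ S.T := fun h => by
  rw [a, f12, κ_mem_T] at h
  simpa [nn_coe] using h.1
theorem a_comm_t' : Commute S.a S.t' := by
  change _ * _ = _ * _
  rw [← mul_inv_eq_iff_eq_mul, t', a_dg, eq_iff]
  exact ⟨-1, by simp [Dl.dg_A], by simp [Dl.dg_B]⟩
theorem a_comm_w : Commute S.a S.w := by
  change _ * _ = _ * _
  rw [a, f12, κw]; rfl
theorem mem_normalizer_T {g : G} (h : ∀ τ ∈ S.T, g * τ * g⁻¹ ∈ S.T) (h' : ∀ τ ∈ S.T, g⁻¹ * τ * g ∈ S.T) :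
    g ∈ Subgroup.normalizer (S.T : Set G) := by
  refine Subgroup.mem_normalizer_iff.2 fun τ => ⟨h τ, fun hτ => ?_⟩
  simpa [mul_assoc] using h' _ hτ
theorem mem_normalizer_T' {g : G} (h : ∀ τ ∈ S.T, g * τ * g⁻¹ ∈ S.T) (h' : g * g ∈ S.T) :
    g ∈ Subgroup.normalizer (S.T : Set G) := S.mem_normalizer_T h fun τ hτ => by
  have := S.T.mul_mem (S.T.mul_mem (S.T.inv_mem h') (h τ hτ)) h'
  simpa [mul_assoc] using this
theorem n1_mem_normalizer : S.f1 nn ∈ Subgroup.normalizer (S.T : Set G) := by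
  refine S.mem_normalizer_T' (fun τ hτ => ?_) (by rw [← map_mul, nn_sq]; exact S.Z_le_T S.t_mem_Z)
  obtain ⟨a, b, c, d, e, rfl⟩ := S.mem_T.1 hτ
  rw [n1_dg]; exact S.κ_mem_T.2 (Dl.dg_mem ..)
theorem n2_mem_normalizer : S.f2 nn ∈ Subgroup.normalizer (S.T : Set G) := by
  refine S.mem_normalizer_T' (fun τ hτ => ?_) (by rw [← map_mul, nn_sq, ← t_eq]; exact S.Z_le_T S.t_mem_Z)
  obtain ⟨a, b, c, d, e, rfl⟩ := S.mem_T.1 hτ
  rw [n2_dg]; exact S.κ_mem_T.2 (Dl.dg_mem ..)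
theorem w_mem_normalizer : S.w ∈ Subgroup.normalizer (S.T : Set G) := by
  refine S.mem_normalizer_T' (fun τ hτ => ?_) (by rw [S.ww]; exact S.T.one_mem)
  obtain ⟨a, b, c, d, e, rfl⟩ := S.mem_T.1 hτ
  rw [w_dg]; exact S.κ_mem_T.2 (Dl.dg_mem ..)
theorem x1_add (b c : F) : S.x1 (b + c) = S.x1 b * S.x1 c := by rw [x1, xu_add, map_mul]; rfl
theorem x2_add (b c : F) : S.x2 (b + c) = S.x2 b * S.x2 c := by rw [x2, xu_add, map_mul]; rfl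
/-- the only involution of `Z` is `t` -/
theorem eq_t_of_mem_Z {z : G} (hz : z ∈ S.Z) (h : z * z = 1) : z = 1 ∨ z = S.t := by
  obtain ⟨y, ⟨a, b, h1, h2⟩, rfl⟩ := hz
  rw [← map_mul, S.ker] at h
  obtain ⟨l, k1, k2⟩ := h
  simp [Dl.mul_A, Dl.mul_B, h1, h2, eq2] at k1 k2
  rcases mul_self_eq_mul_self_iff.1 (k1.trans k2.symm) with rfl | rfl
  · exact Or.inl ((S.ker _).2 ⟨a, h1, h2⟩)
  · exact Or.inr ((S.eq_iff _ _).2 ⟨b, by simp [h1, Dl.inl_A], by simp [h2, Dl.inl_B]⟩)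
theorem mem_N_of_comm {g : G} (hg : g ∈ S.C) {X : S2 F} (hX : X ≠ 1 ∧ X ≠ -1) (h1 : Commute g (S.f1 X)) :
    g ∈ S.N := by
  refine (S.mem_C.1 hg).resolve_right fun h => ?_
  obtain ⟨Y, e⟩ := h.conj_f1 X
  rw [h1.eq, mul_inv_cancel_right] at e
  rcases S.f1_eq_f2 e with ⟨e, -⟩ | ⟨e, -⟩
  exacts [hX.1 e, hX.2 e]
theorem comm_f1_iff {y : Dl F} {X : S2 F} : Commute (S.κ y) (S.f1 X) ↔ y.A * X.1 = X.1 * y.A := by
  obtain ⟨Y, h1, h2⟩ := S.κ_f1 y X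
  constructor
  · intro h
    rw [h.eq, mul_inv_cancel_right] at h2
    rw [← S.f1_inj h2] at h1
    conv_rhs => rw [h1, Matrix.mul_assoc, y.inv_mul_A, Matrix.mul_one]
  · intro h
    rw [h, Matrix.mul_assoc, y.A_mul_inv, Matrix.mul_one] at h1
    rw [s2_ext h1, mul_inv_eq_iff_eq_mul] at h2
    exact h2
theorem comm_f2_iff {y : Dl F} {X : S2 F} : Commute (S.κ y) (S.f2 X) ↔ y.B * X.1 = X.1 * y.B := by
  rw [← Dl.swap_A, ← S.comm_f1_iff, ← wκw, ← w_f2]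
  have := (Commute.conj_iff (a := S.κ y) (b := S.f2 X) S.w).symm
  rwa [w_inv] at this
theorem mem_Z_of_comm {g : G} (hg : g ∈ S.C) (h1 : ∀ X, Commute g (S.f1 X)) (h2 : ∀ X, Commute g (S.f2 X)) :
    g ∈ S.Z := by
  obtain ⟨y, rfl⟩ := S.mem_N_of_comm hg (xu_ne one_ne_zero) (h1 _)
  obtain ⟨a, ha⟩ := scalar_of_comm fun X => S.comm_f1_iff.1 (h1 X)
  obtain ⟨b, hb⟩ := scalar_of_comm fun X => S.comm_f2_iff.1 (h2 X)
  exact ⟨y, ⟨a, b, ha, hb⟩, rfl⟩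
theorem mem_NV (h2 : (2 : F) ≠ 0) {g : G} (hg : g ∈ S.N) (h : Commute g S.t') : ∃ τ ∈ S.T, g = τ ∨ g = τ * S.a := by
  obtain ⟨y, rfl⟩ := hg
  have := h.eq
  rw [t', ← map_mul, ← map_mul, eq_iff] at this
  obtain ⟨l, h1, h3⟩ := this
  have hA := y.detA_ne
  simp only [Dl.mul_A, Dl.mul_B, Dl.dg_A, Dl.dg_B, eq2, Matrix.smul_apply, mul2, det_fin_two] at h1 h3 hA
  simp at h1 h3
  by_cases hl : l = 1
  · subst hl
    exact ⟨_, S.κ_mem_T.2 ⟨by grind, by grind, by grind, by grind⟩, Or.inl rfl⟩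
  · have hl' : l = -1 := by grind
    subst hl'
    refine ⟨S.κ y * S.a, ?_, Or.inr (by rw [mul_assoc, a_sq, mul_one])⟩
    rw [a, f12, ← map_mul, κ_mem_T]
    simp only [Dl.mem_Diag, Dl.mul_A, Dl.mul_B, nn_coe, mul2]
    simp
    grind
/-- the centraliser of the four-group `⟨t, t'⟩` -/
theorem mem_CV (h2 : (2 : F) ≠ 0) {g : G} (hg : g ∈ S.C) (h : Commute g S.t') :
    ∃ τ ∈ S.T, g = τ ∨ g = τ * S.a ∨ g = τ * S.w ∨ g = τ * S.a * S.w := by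
  rcases S.mem_C.1 hg with h1 | h1
  · obtain ⟨τ, hτ, e | e⟩ := S.mem_NV h2 h1 h
    exacts [⟨τ, hτ, Or.inl e⟩, ⟨τ, hτ, Or.inr (Or.inl e)⟩]
  · have e0 : g = g * S.w * S.w := by rw [mul_assoc, S.ww, mul_one]
    obtain ⟨τ, hτ, e | e⟩ := S.mem_NV h2 (h1.mul_sw S.sw_w) (h.mul_left S.t'_comm_w.symm)
    · exact ⟨τ, hτ, Or.inr (Or.inr (Or.inl (by rw [← e, ← e0])))⟩
    · exact ⟨τ, hτ, Or.inr (Or.inr (Or.inr (by rw [← e, ← e0])))⟩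
theorem cent_x1 {c : F} (hc : c ≠ 0) {g : G} (hg : g ∈ S.C) (h : Commute g (S.x1 c)) :
    ∃ y, g = S.κ y ∧ ∃ α b : F, y.A = α • (xu b).1 := by
  obtain ⟨y, rfl⟩ := S.mem_N_of_comm hg (xu_ne hc) h
  obtain ⟨h1, h2⟩ := upper_of_comm hc (S.comm_f1_iff.1 h)
  have hA := y.detA_ne
  rw [det_fin_two, h1, ← h2, mul_zero, sub_zero] at hA
  refine ⟨y, rfl, y.A 0 0, y.A 0 1 / y.A 0 0, ?_⟩
  have := left_ne_zero_of_mul hA
  simp [eq2, xu_coe, h1, h2.symm]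
  field_simp
theorem cent_K_w {k : G} (hk : k ∈ S.K) (h : Commute k S.w) :
    ∃ X, k = S.f1 X * S.f2 X ∨ k = S.f1 X * S.f2 X * S.t := by
  obtain ⟨X, Y, rfl⟩ := S.mem_K.1 hk
  have : S.f1 X * S.f2 Y = S.f1 Y * S.f2 X := by
    rw [(S.f1_comm Y X).eq, ← S.w_f1 X, ← S.w_f2 Y]
    calc _ = S.w * (S.w * (S.f1 X * S.f2 Y)) := by rw [← mul_assoc, S.ww, one_mul]
      _ = S.w * S.f1 X * (S.w * S.w) * S.f2 Y * S.w := by rw [← h.eq, S.ww]; group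
      _ = _ := by group
  rcases S.f12_eq this with ⟨rfl, -⟩ | ⟨-, rfl⟩
  · exact ⟨X, Or.inl rfl⟩
  · exact ⟨X, Or.inr (by rw [t_eq, mul_assoc, ← map_mul]; simp)⟩
/-- conjugation of the second block -/
def tw (x : Dl F) : Dl F →* Dl F where
  toFun y := ⟨y.A, x⁻¹.A * y.B * x.A, by
    rw [det_mul, det_mul, mul_right_comm x⁻¹.A.det, ← det_mul, x.inv_mul_A, det_one, one_mul, y.h]⟩
  map_one' := Dl.ext rfl (show x⁻¹.A * 1 * x.A = 1 by rw [Matrix.mul_one, x.inv_mul_A])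
  map_mul' y z := Dl.ext rfl (show x⁻¹.A * (y.B * z.B) * x.A = x⁻¹.A * y.B * x.A * (x⁻¹.A * z.B * x.A) by
    calc _ = x⁻¹.A * y.B * (x.A * x⁻¹.A) * z.B * x.A := by rw [x.A_mul_inv]; simp [Matrix.mul_assoc]
      _ = _ := by simp only [Matrix.mul_assoc])
theorem tw_tw (x y : Dl F) : tw x (tw x⁻¹ y) = y := Dl.ext rfl (show x⁻¹.A * (x⁻¹⁻¹.A * y.B * x⁻¹.A) * x.A = y.B by
  rw [inv_inv, Matrix.mul_assoc, Matrix.mul_assoc, x.inv_mul_A, Matrix.mul_one, ← Matrix.mul_assoc, x.inv_mul_A,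
    Matrix.one_mul])
theorem tw_scal (x : Dl F) {y : Dl F} (h : y ∈ Dl.Scal) : tw x y = y := by
  obtain ⟨a, b, -, h⟩ := h
  exact Dl.ext rfl (show x⁻¹.A * y.B * x.A = y.B by rw [h]; simp [x.inv_mul_A])
theorem sw_sq {x : Dl F} (h : S.κ x * S.w * (S.κ x * S.w) = 1) :
    ∃ l : F, x.A * x.B = l • (1 : M2 F) ∧ x.B = l • x⁻¹.A := by
  rw [mul_assoc, ← mul_assoc S.w, wκw, ← map_mul, S.ker] at h
  obtain ⟨l, h, -⟩ := h
  refine ⟨l, h, ?_⟩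
  rw [← Matrix.one_mul x.B, ← x.inv_mul_A, Matrix.mul_assoc, show x.A * x.B = _ from h]; simp
/-- any swapping involution can serve as `w` -/
theorem rebase {f : G} (hf : S.Sw f) (hff : f * f = 1) : ∃ S' : Su F G, S'.w = f ∧ S'.f1 = S.f1 ∧
    (∀ X, S'.f2 X = f * S.f1 X * f) ∧ S'.N = S.N ∧ S'.K = S.K ∧ S'.Z = S.Z := by
  obtain ⟨x, rfl⟩ := hf
  obtain ⟨l, h1, h2⟩ := S.sw_sq hff
  have hl : ∀ X : S2 F, tw x (Dl.inl X) = Dl.inl X := fun X =>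
    Dl.ext rfl (show x⁻¹.A * 1 * x.A = 1 by rw [Matrix.mul_one, x.inv_mul_A])
  let S' : Su F G := ⟨S.κ.comp (tw x), S.κ x * S.w, fun y => by
      rw [MonoidHom.comp_apply, S.ker]
      refine exists_congr fun m => and_congr_right fun hm => ⟨fun h => ?_, fun h => ?_⟩
      · have := congrArg Dl.B (tw_scal x⁻¹ (y := tw x y) ⟨m, m, hm, h⟩)
        rw [h] at this
        rw [← this]; exact (congrArg Dl.B (by simpa using tw_tw x⁻¹ y)).symm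
      · rw [tw_scal x (y := y) ⟨m, m, hm, h⟩, h], hff, fun y => by
      simp only [MonoidHom.comp_apply]
      rw [mul_assoc, S.wκ, ← mul_assoc, ← mul_assoc, ← map_mul, ← map_mul]
      refine congrArg (fun z => S.κ z * S.w) (Dl.ext ?_ ?_)
      · change x.A * (x⁻¹.A * y.B * x.A) = y.B * x.A
        rw [← Matrix.mul_assoc, ← Matrix.mul_assoc, x.A_mul_inv, Matrix.one_mul]
      · change x.B * y.A = x⁻¹.A * y.A * x.A * x.B
        rw [Matrix.mul_assoc, h1, h2]; simp, fun g => by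
      simp only [MonoidHom.comp_apply, hl]
      refine (S.cent g).trans ⟨?_, ?_⟩
      · rintro ⟨y, h | h⟩
        · exact ⟨tw x⁻¹ y, Or.inl (by rw [tw_tw, h])⟩
        · exact ⟨tw x⁻¹ (y * x⁻¹), Or.inr (by rw [tw_tw, h, map_mul, map_inv]; group)⟩
      · rintro ⟨y, h | h⟩
        · exact ⟨_, Or.inl h⟩
        · exact ⟨tw x y * x, Or.inr (by rw [h, map_mul, mul_assoc])⟩⟩
  have e1 : S'.f1 = S.f1 := MonoidHom.ext fun X => congrArg S.κ (hl X)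
  refine ⟨S', rfl, e1, fun X => by rw [← S'.w_f1, e1], ?_, ?_, ?_⟩
  · ext g
    exact ⟨fun ⟨y, h⟩ => ⟨_, h⟩, fun ⟨y, h⟩ => ⟨tw x⁻¹ y, (congrArg S.κ (tw_tw x y)).trans h⟩⟩
  · ext g
    exact ⟨fun ⟨y, hy, h⟩ => ⟨tw x y, hy, h⟩, fun ⟨y, hy, h⟩ => ⟨tw x⁻¹ y, hy, (congrArg S.κ (tw_tw x y)).trans h⟩⟩
  · ext g
    exact ⟨fun ⟨y, hy, h⟩ => ⟨y, hy, (congrArg S.κ (tw_scal x hy)).symm.trans h⟩,
      fun ⟨y, hy, h⟩ => ⟨y, hy, (congrArg S.κ (tw_scal x hy)).trans h⟩⟩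
theorem mem_N_of_odd {g : G} (hg : g ∈ S.C) (h : Odd (orderOf g)) : g ∈ S.N := by
  refine (S.mem_C.1 hg).resolve_right fun hs => hs.not_mem_N ?_
  obtain ⟨k, hk⟩ := h
  have : g = ((g * g) ^ k)⁻¹ := by
    rw [eq_inv_iff_mul_eq_one, ← pow_two, ← pow_mul, ← pow_succ', ← hk, pow_orderOf_eq_one]
  rw [this]
  exact S.N.inv_mem (S.N.pow_mem (hs.mul_sw hs) k)

end Su

end Cfsg.Agent.L4C
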