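import Mathlib
import Cfsg.Agent.L4C.Basic

/-!
# `L₄(q)` from an involution centraliser, `q ≡ 3 mod 4`: matrix computations
-/

set_option autoImplicit false

namespace Cfsg.Agent.L4C

open Matrix

variable {F : Type*} [Field F] [Fintype F] {G : Type*} [Group G]

theorem Fq.exists_m3 (hF : Fq F) (h : ¬ IsSquare (-1 : F)) :
    ∃ m, Odd m ∧ Fintype.card F = 2 * m + 1 := by
  rw [FiniteField.isSquare_neg_one_iff, not_not] at h
  exact ⟨Fintype.card F / 2, Nat.odd_iff.2 (by omega), by omega⟩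

omit [Fintype F] in
theorem sq_of_four3 (h : ¬ IsSquare (-1 : F)) {l : F} (h4 : l ^ 4 = 1) : l ^ 2 = 1 := by
  have : (l ^ 2 - 1) * (l ^ 2 + 1) = 0 := by linear_combination h4
  rcases mul_eq_zero.1 this with e | e
  · linear_combination e
  · exact absurd ⟨l, by linear_combination -e⟩ h

theorem Fq.exists_om3 (hF : Fq F) (h : ¬ IsSquare (-1 : F)) {m : ℕ} (hq : Fintype.card F = 2 * m + 1) :
    ∃ ω : F, ω ≠ 0 ∧ ω ^ m = 1 ∧ ω ^ 2 ≠ 1 := by
  obtain ⟨l, l0, l1⟩ := hF.exists_sq_ne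
  refine ⟨l ^ 2, pow_ne_zero _ l0, ?_, fun e => l1 (sq_of_four3 h (by linear_combination e))⟩
  have := FiniteField.pow_card_sub_one_eq_one l l0
  rwa [hq, Nat.add_sub_cancel, pow_mul] at this

omit [Fintype F] in
theorem comm_nn3 {A : M2 F} (h : A * (nn : S2 F).1 = (nn : S2 F).1 * A) :
    A = A 0 0 • (1 : M2 F) + A 0 1 • (nn : S2 F).1 := by
  simp only [nn_coe, eq2, mul2] at h ⊢
  simp at h ⊢
  grind

theorem scalar_of_pow3 (hF : Fq F) {m : ℕ} (hm : Odd m) (hq : Fintype.card F = 2 * m + 1) {A : M2 F}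
    (hA : A * (nn : S2 F).1 = (nn : S2 F).1 * A) {l : F} (h : A ^ m = l • (1 : M2 F)) (hl : l ^ 2 = 1) :
    ∃ a : F, A = a • (1 : M2 F) := by
  obtain ⟨p, hp⟩ := CharP.exists F
  obtain ⟨k, hpp, hk⟩ := FiniteField.card F p
  haveI := Fact.mk hpp
  have h1 : A ^ Fintype.card F = A := by
    rw [hq, pow_succ, mul_comm 2 m, pow_mul, h, smul_pow, hl, one_pow, one_smul, Matrix.one_mul]
  have n2 : (nn : S2 F).1 ^ 2 = -1 := by rw [sq]; exact congrArg Subtype.val nn_sq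
  have h2 : (nn : S2 F).1 ^ Fintype.card F = -(nn : S2 F).1 := by
    rw [hq, pow_succ, pow_mul, n2, hm.neg_one_pow, neg_one_mul]
  have e := comm_nn3 hA
  rw [e, hk, add_pow_char_pow_of_commute _ _ ((Commute.one_left _).smul_left _ |>.smul_right _), ← hk,
    smul_pow, smul_pow, FiniteField.pow_card, FiniteField.pow_card, one_pow, h2, add_right_inj] at h1
  have h3 := congrFun (congrFun h1 0) 1
  simp [nn_coe] at h3
  have h4 : A 0 1 = 0 := (mul_eq_zero.1 (show 2 * A 0 1 = 0 by linear_combination -h3)).resolve_left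
    hF.two_ne
  exact ⟨A 0 0, by rw [h4, zero_smul, add_zero] at e; exact e⟩

omit [Fintype F] in
theorem twist_eq_one3 {m : ℕ} (hm : Odd m) {A : M2 F} (hA : A.det ≠ 0) {μ l : F}
    (h : A * (nn : S2 F).1 = μ • ((nn : S2 F).1 * A)) (h' : A ^ m = l • (1 : M2 F)) : μ = 1 := by
  have h1 : μ ^ 2 = 1 := by
    have := congrArg det h
    rw [det_smul, det_mul, det_mul, nn.2, Fintype.card_fin, mul_one, one_mul] at this
    exact mul_right_cancel₀ hA (this.symm.trans (one_mul _).symm)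
  have h2 : ∀ k : ℕ, A ^ k * (nn : S2 F).1 = μ ^ k • ((nn : S2 F).1 * A ^ k) := fun k => by
    induction k with
    | zero => simp
    | succ k ih =>
      rw [pow_succ A, Matrix.mul_assoc, h, Matrix.mul_smul, ← Matrix.mul_assoc, ih, smul_mul_assoc,
        smul_smul, Matrix.mul_assoc, pow_succ' μ]
  have l0 : l ≠ 0 := by
    rintro rfl
    have := congrArg det h'
    rw [det_pow, zero_smul, det_zero] at this
    exact pow_ne_zero m hA this
  have h3 := congrFun (congrFun (h2 m) 0) 1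
  rw [h'] at h3
  simp [nn_coe, l0] at h3
  rcases sq_eq_one_iff.1 h1 with e | e
  · exact e
  · rw [e, hm.neg_one_pow] at h3
    rw [e, h3]

theorem exists_M3 : ∃ M : S2 F, M * M = -1 ∧ M * nn = -(nn * M) ∧
    ∀ A : S2 F, A * nn = nn * A → A * M * (A * M) = -1 := by
  obtain ⟨p, hp⟩ := CharP.exists F
  haveI : NeZero p := ⟨CharP.char_ne_zero_of_finite F p⟩
  obtain ⟨a, b, hab⟩ := CharP.sq_add_sq F p (-1)
  push_cast at hab
  generalize (a : F) = α at hab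
  generalize (b : F) = β at hab
  obtain ⟨M, hM⟩ : ∃ M : S2 F, M.1 = !![α, β; β, -α] :=
    ⟨⟨_, by rw [det_fin_two_of]; linear_combination -hab⟩, rfl⟩
  refine ⟨M, s2_ext ?_, s2_ext ?_, fun A hA => s2_ext ?_⟩
  · simp only [s2_mul, s2_neg, s2_one, eq2, mul2, hM]
    simp
    refine ⟨?_, ?_, ?_, ?_⟩ <;> first | linear_combination hab | ring
  · simp only [s2_mul, s2_neg, nn_coe, eq2, mul2, hM]
    simp
  · have h1 := s2_det A
    have h2 := congrArg Subtype.val hA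
    simp only [s2_mul, nn_coe, eq2, mul2] at h2
    simp at h2
    obtain ⟨h2, h3, -, -⟩ := h2
    simp only [s2_mul, s2_neg, s2_one, eq2, mul2, hM]
    simp
    rw [← h3, ← h2] at h1 ⊢
    refine ⟨?_, ?_, ?_, ?_⟩ <;>
      first | linear_combination (A.1 0 0 ^ 2 + A.1 0 1 ^ 2) * hab - h1 | ring

namespace Su

variable (S : Su F G)

theorem a_N3 : S.a ∈ S.N := S.K_le_N S.a_mem_K
theorem a_t3 : Commute S.a S.t := S.mem_C_iff.1 (S.N_le_C S.a_N3)
theorem a_ne3 : S.a ≠ S.t := fun e => S.a_not_mem_T (e ▸ S.Z_le_T S.t_mem_Z)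
theorem t'_N3 : S.t' ∈ S.N := S.T_le_N S.t'_mem_T
theorem t'_t3 : Commute S.t' S.t := S.mem_C_iff.1 (S.N_le_C S.t'_N3)

/-- the odd part of `C(t, a)` of exponent `(q - 1) / 2` lies in `Z` -/
theorem mem_Z_of_pow3 (hF : Fq F) (h : ¬ IsSquare (-1 : F)) {m : ℕ} (hm : Odd m)
    (hq : Fintype.card F = 2 * m + 1) {x : G} (hx : x ∈ S.C) (ha : Commute x S.a) (h1 : x ^ m = 1) :
    x ∈ S.Z := by
  obtain ⟨y, rfl⟩ := S.mem_N_of_odd hx (hm.of_dvd_nat (orderOf_dvd_of_pow_eq_one h1))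
  have e := ha.eq
  rw [a, f12, ← map_mul, ← map_mul, eq_iff] at e
  obtain ⟨μ, e1, e2⟩ := e
  rw [← map_pow, S.ker] at h1
  obtain ⟨l, k1, k2⟩ := h1
  rw [Dl.pow_A] at k1
  rw [Dl.pow_B] at k2
  obtain rfl : μ = 1 := twist_eq_one3 hm y.detA_ne e1 k1
  rw [one_smul] at e1 e2
  have hl : l ^ 2 = 1 := by
    refine sq_of_four3 h ?_
    have d := congrArg (· ^ m) y.h
    simp only [mul_pow, ← det_pow, k1, k2, det_smul, det_one, Fintype.card_fin, one_pow] at d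
    linear_combination d
  obtain ⟨α, hα⟩ := scalar_of_pow3 hF hm hq e1 k1 hl
  obtain ⟨β, hβ⟩ := scalar_of_pow3 hF hm hq e2 k2 hl
  exact ⟨y, ⟨α, β, hα, hβ⟩, rfl⟩

theorem conj_Z3 {c z : G} (hc : c ∈ S.C) (hz : z ∈ S.Z) : c * z * c⁻¹ = z ∨ c * z * c⁻¹ = z⁻¹ :=
  (S.mem_C.1 hc).imp (fun h => by rw [(comm_Z h hz).eq, mul_inv_cancel_right]) fun h => h.inv_Z hz

theorem mem_N_iff3 {c z : G} (hc : c ∈ S.C) (hz : z ∈ S.Z) (h2 : z * z ≠ 1) :
    c ∈ S.N ↔ Commute c z := by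
  refine ⟨fun h => comm_Z h hz, fun h => (S.mem_C.1 hc).resolve_right fun hs => h2 ?_⟩
  have := hs.inv_Z hz
  rw [h.eq, mul_inv_cancel_right] at this
  nth_rw 1 [this]
  exact inv_mul_cancel z

theorem exists_z3 (hF : Fq F) (h : ¬ IsSquare (-1 : F)) {m : ℕ} (hq : Fintype.card F = 2 * m + 1) :
    ∃ z ∈ S.Z, z ^ m = 1 ∧ z * z ≠ 1 := by
  obtain ⟨ω, h0, h1, h2⟩ := hF.exists_om3 h hq
  let y : Dl F := ⟨ω • 1, ω⁻¹ • 1, by simp [det_smul, ← mul_pow, h0]⟩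
  refine ⟨S.κ y, ⟨y, ⟨ω, ω⁻¹, rfl, rfl⟩, rfl⟩, ?_, fun e => h2 (sq_of_four3 h ?_)⟩
  · rw [← map_pow, S.ker]
    exact ⟨1, by simp [Dl.pow_A, y, smul_pow, h1], by simp [Dl.pow_B, y, smul_pow, h1]⟩
  · rw [← map_mul, S.ker] at e
    obtain ⟨l, e1, e2⟩ := e
    have k1 := congrFun (congrFun e1 0) 0
    have k2 := congrFun (congrFun e2 0) 0
    simp [Dl.mul_A, Dl.mul_B, y] at k1 k2
    field_simp at k2
    linear_combination ω ^ 2 * k1 - k2

theorem exists_x3 (hF : Fq F) (h : ¬ IsSquare (-1 : F)) {m : ℕ} (hq : Fintype.card F = 2 * m + 1) :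
    ∃ x ∈ S.T, x ^ m = 1 ∧ S.w * x * S.w⁻¹ ≠ x ∧ S.w * x * S.w⁻¹ ≠ x⁻¹ := by
  obtain ⟨ω, h0, h1, h2⟩ := hF.exists_om3 h hq
  have hn : hd ω h0 ≠ 1 ∧ hd ω h0 ≠ -1 := by
    constructor <;> intro e <;> refine h2 ?_
    · rw [show ω = 1 by simpa [hd_coe, s2_one] using congrArg (fun X : S2 F => X.1 0 0) e]; ring
    · rw [show ω = -1 by simpa [hd_coe, s2_one, s2_neg] using congrArg (fun X : S2 F => X.1 0 0) e]; ring
  refine ⟨S.f1 (hd ω h0), S.κ_mem_T.2 (by simp [Dl.mem_Diag, Dl.inl_A, Dl.inl_B, hd_coe]), ?_, ?_, ?_⟩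
  · rw [← map_pow, ← map_one S.f1]
    refine congrArg _ (s2_ext ?_)
    rw [Matrix.SpecialLinearGroup.coe_pow, hd_coe, show !![ω, 0; 0, ω⁻¹] = diagonal ![ω, ω⁻¹] by
      simp [eq2], diagonal_pow]
    simp only [eq2, s2_one, diagonal_apply, Pi.pow_apply]
    simp [h1]
  · rw [w_inv, w_f1]
    exact fun e => (S.f1_eq_f2 e.symm).elim (fun k => hn.1 k.1) fun k => hn.2 k.1
  · rw [w_inv, w_f1, ← map_inv]
    exact fun e => (S.f1_eq_f2 e.symm).elim (fun k => hn.1 k.2) fun k => hn.2 k.2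

end Su

end Cfsg.Agent.L4C
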