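import Mathlib
import Cfsg.Agent.L4C.Basic
import Cfsg.Agent.Holt.Grp
import Cfsg.Agent.GT.TransferCocycle

/-!
# `L₄(q)` from an involution centraliser: involutions and `p`-elements of the centraliser
-/

set_option autoImplicit false

namespace Cfsg.Agent.L4C

open Matrix

variable {F : Type*} [Field F] [Fintype F] {G : Type*} [Group G]

theorem exists_sq_sub (hF : Fq F) {l : F} (hl : l ≠ 0) (d : F) : ∃ a b : F, a ^ 2 - l * b ^ 2 = d := by
  obtain ⟨a, b, h⟩ := FiniteField.exists_root_sum_quadratic (f := Polynomial.X ^ 2 - Polynomial.C d)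
    (g := Polynomial.C (-l) * Polynomial.X ^ 2) (Polynomial.degree_X_pow_sub_C two_pos d)
    (by rw [Polynomial.degree_C_mul_X_pow _ (neg_ne_zero.2 hl)]; rfl) (Nat.odd_iff.1 hF.odd)
  exact ⟨a, b, by simp at h; linear_combination h⟩

omit [Fintype F] in
theorem det_of_sq {A : M2 F} {l : F} (h : A * A = l • (1 : M2 F)) (hA : ¬ ∃ m : F, A = m • (1 : M2 F)) :
    A 1 1 = -A 0 0 ∧ A.det = -l := by
  simp only [eq2, mul2, Matrix.smul_apply] at h
  simp at h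
  have : A 1 1 = -A 0 0 := by
    by_contra hc
    refine hA ⟨A 0 0, ?_⟩
    simp only [eq2, Matrix.smul_apply]
    simp
    grind
  exact ⟨this, by rw [det_fin_two, this]; linear_combination -h.1⟩

theorem exists_comp (hF : Fq F) {A : M2 F} {l : F} (hl : l ≠ 0) (h : A * A = l • (1 : M2 F))
    (hA : ¬ ∃ m : F, A = m • (1 : M2 F)) {d : F} :
    ∃ P : M2 F, P.det = d ∧ A * P = P * !![0, l; 1, 0] := by
  obtain ⟨h1, h2⟩ := det_of_sq h hA
  rw [det_fin_two, h1] at h2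
  obtain ⟨P, hP, e⟩ : ∃ P : M2 F, P.det ≠ 0 ∧ A * P = P * !![0, l; 1, 0] := by
    by_cases k1 : A 1 0 = 0
    · by_cases k2 : A 0 1 = 0
      · refine ⟨!![1, A 0 0; 1, A 1 1], ?_, ?_⟩
        · rw [det_fin_two]
          intro hc
          refine hA ⟨A 0 0, ?_⟩
          simp only [eq2, Matrix.smul_apply]
          simp at hc ⊢
          grind
        · simp only [eq2, mul2]; simp; grind
      · exact ⟨!![0, A 0 1; 1, A 1 1], by simpa [det_fin_two] using k2, by simp only [eq2, mul2]; simp; grind⟩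
    · exact ⟨!![1, A 0 0; 0, A 1 0], by simpa [det_fin_two] using k1, by simp only [eq2, mul2]; simp; grind⟩
  obtain ⟨a, b, hab⟩ := exists_sq_sub hF hl (d / P.det)
  refine ⟨P * !![a, l * b; b, a], ?_, ?_⟩
  · rw [det_mul, det_fin_two (!![a, l * b; b, a])]
    simp
    field_simp at hab
    linear_combination hab
  · rw [← Matrix.mul_assoc, e, Matrix.mul_assoc, Matrix.mul_assoc]
    congr 1
    simp [eq2, mul_comm]

/-- the companion pair -/
def cmp (l : F) (h : l * l = 1) : Dl F := ⟨!![0, l; 1, 0], !![0, l; 1, 0], by simpa [det_fin_two] using h⟩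

namespace Su

variable (S : Su F G)

theorem conj_cmp (hF : Fq F) {y : Dl F} {l : F} (h1 : y.A * y.A = l • (1 : M2 F)) (h2 : y.B * y.B = l • (1 : M2 F))
    (hA : ¬ ∃ m : F, y.A = m • (1 : M2 F)) (hB : ¬ ∃ m : F, y.B = m • (1 : M2 F)) :
    ∃ h : l * l = 1, ∃ c ∈ S.K, c * S.κ y * c⁻¹ = S.κ (cmp l h) := by
  have hl : l * l = 1 := by
    have := y.h
    rw [(det_of_sq h1 hA).2, (det_of_sq h2 hB).2] at this
    linear_combination this
  have hl0 : l ≠ 0 := left_ne_zero_of_mul_eq_one hl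
  obtain ⟨P, hP, e⟩ := exists_comp hF hl0 h1 hA (d := 1)
  obtain ⟨Q, hQ, e'⟩ := exists_comp hF hl0 h2 hB (d := 1)
  let c : Dl F := ⟨P, Q, by rw [hP, hQ, one_mul]⟩
  refine ⟨hl, (S.κ c)⁻¹, S.K.inv_mem ⟨c, hP, rfl⟩, ?_⟩
  rw [inv_inv, mul_assoc, inv_mul_eq_iff_eq_mul, ← map_mul, ← map_mul]
  exact congrArg _ (Dl.ext e e')

theorem t'_conj (hF : Fq F) : ∃ c ∈ S.K, c * S.t' * c⁻¹ = S.κ (cmp 1 (by ring)) := by
  have h2 := neg_one_ne hF.two_ne
  obtain ⟨_, h⟩ := S.conj_cmp hF (y := Dl.dg (-1) 1 (-1) 1 (by ring)) (l := 1) (by simp [Dl.dg_A, eq2])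
    (by simp [Dl.dg_B, eq2]) (by simp [Dl.dg_A, eq2]; grind) (by simp [Dl.dg_B, eq2]; grind)
  exact h
theorem a_conj (hF : Fq F) : ∃ c ∈ S.K, c * S.a * c⁻¹ = S.κ (cmp (-1) (by ring)) := by
  obtain ⟨_, h⟩ := S.conj_cmp hF (y := ⟨(nn : S2 F).1, (nn : S2 F).1, by simp⟩) (l := -1) (by simp [nn_coe, eq2])
    (by simp [nn_coe, eq2]) (by simp [nn_coe, eq2]) (by simp [nn_coe, eq2])
  rwa [a, f12]
theorem conj_trans {H : Subgroup G} {x y z : G} (h1 : ∃ c ∈ H, c * x * c⁻¹ = z) (h2 : ∃ c ∈ H, c * y * c⁻¹ = z) :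
    ∃ c ∈ H, c * x * c⁻¹ = y := by
  obtain ⟨c, hc, rfl⟩ := h1
  obtain ⟨d, hd, e⟩ := h2
  exact ⟨d⁻¹ * c, H.mul_mem (H.inv_mem hd) hc, by rw [_root_.mul_inv_rev, inv_inv, mul_assoc, mul_assoc,
    ← mul_assoc x, ← mul_assoc c, ← mul_assoc c, ← e]; group⟩
theorem conj_t'_of_sq (hF : Fq F) {y : Dl F} (h1 : y.A * y.A = 1) (h2 : y.B * y.B = 1)
    (hA : ¬ ∃ m : F, y.A = m • (1 : M2 F)) (hB : ¬ ∃ m : F, y.B = m • (1 : M2 F)) :
    ∃ c ∈ S.K, c * S.κ y * c⁻¹ = S.t' := by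
  obtain ⟨_, h⟩ := S.conj_cmp hF (l := 1) (by simpa using h1) (by simpa using h2) hA hB
  exact conj_trans h (S.t'_conj hF)
theorem conj_a_of_sq (hF : Fq F) {y : Dl F} (h1 : y.A * y.A = -1) (h2 : y.B * y.B = -1)
    (hA : ¬ ∃ m : F, y.A = m • (1 : M2 F)) (hB : ¬ ∃ m : F, y.B = m • (1 : M2 F)) :
    ∃ c ∈ S.K, c * S.κ y * c⁻¹ = S.a := by
  obtain ⟨_, h⟩ := S.conj_cmp hF (l := -1) (by simpa using h1) (by simpa using h2) hA hB
  exact conj_trans h (S.a_conj hF)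
omit [Fintype F] in
theorem conj_N {x y : G} (h : ∃ c ∈ S.K, c * x * c⁻¹ = y) : ∃ c ∈ S.N, c * x * c⁻¹ = y :=
  let ⟨c, hc, e⟩ := h; ⟨c, S.K_le_N hc, e⟩

/-- `p`-elements of `C` -/
theorem pelt (hF : Fq F) (p : ℕ) [Fact p.Prime] [CharP F p] {g : G} (hg : g ∈ S.C) {k : ℕ} (h : g ^ p ^ k = 1) :
    ∃ U V, Un U ∧ Un V ∧ g = S.f1 U * S.f2 V := by
  have hp : Odd p := (Fact.out : p.Prime).odd_of_ne_two (hF.char_ne_two p)
  obtain ⟨y, rfl⟩ := S.mem_N_of_odd hg (Odd.of_dvd_nat hp.pow (orderOf_dvd_of_pow_eq_one h))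
  rw [← map_pow, S.ker] at h
  obtain ⟨l, h1, h2⟩ := h
  rw [Dl.pow_A] at h1
  rw [Dl.pow_B] at h2
  have inj : Function.Injective (fun x : F => x ^ p ^ k) := (iterateFrobenius F p k).injective
  obtain ⟨m, rfl⟩ := Finite.injective_iff_surjective.1 inj l
  have hm : m ≠ 0 := by
    rintro rfl
    have := congrArg det h1
    simp [det_pow, zero_pow (pow_ne_zero k (Fact.out : p.Prime).ne_zero), y.detA_ne] at this
  have key : ∀ A : M2 F, A ^ p ^ k = m ^ p ^ k • (1 : M2 F) → ∃ U : S2 F, Un U ∧ A = m • U.1 := fun A hA => by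
    have e : (m⁻¹ • A) ^ p ^ k = 1 := by rw [smul_pow, hA, smul_smul, ← mul_pow, inv_mul_cancel₀ hm]; simp
    have d : (m⁻¹ • A).det = 1 := inj (by simpa [det_pow] using congrArg det e)
    exact ⟨⟨m⁻¹ • A, d⟩, un_of_pow p (k := k) (s2_ext e), by simp [smul_smul, hm]⟩
  obtain ⟨U, hU, e1⟩ := key _ h1
  obtain ⟨V, hV, e2⟩ := key _ h2
  exact ⟨U, V, hU, hV, by rw [f12, eq_iff]; exact ⟨m, e1, e2⟩⟩
theorem range_le_K (hF : Fq F) (ψ : S2 F →* G) (h : ∀ X, ψ X ∈ S.C) (X : S2 F) : ψ X ∈ S.K := by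
  obtain ⟨p, hp⟩ := CharP.exists F
  haveI : Fact p.Prime := ⟨CharP.char_is_prime F p⟩
  have key : ∀ U : S2 F, Un U → U ∈ S.K.comap ψ := fun U hU => by
    obtain ⟨A, B, -, -, e⟩ := S.pelt hF p (h U) (k := 1) (by rw [pow_one, ← map_pow, hU.pow_char p, map_one])
    exact S.mem_K.2 ⟨A, B, e⟩
  have := sl2_eq_top (S.K.comap ψ) (fun a => key _ (un_xu a)) fun a => key _ (by
    rw [← neg_neg a, ← nn_xu]; exact (un_xu _).conj _)
  exact (this ▸ Subgroup.mem_top X : X ∈ S.K.comap ψ)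
/-- the involutions of `C` -/
theorem inv_class (hF : Fq F) {x : G} (hx : x ∈ S.C) (h2 : x * x = 1) (h1 : x ≠ 1) (ht : x ≠ S.t) :
    S.Sw x ∨ ((∃ α : F, α ^ 4 = -1) ∧ ((∀ X, Commute x (S.f1 X)) ∨ ∀ X, Commute x (S.f2 X))) ∨
      (∃ c ∈ S.N, c * x * c⁻¹ = S.t') ∨ ∃ c ∈ S.N, c * x * c⁻¹ = S.a := by
  rcases S.mem_C.1 hx with ⟨y, rfl⟩ | h
  swap
  · exact Or.inl h
  right
  have h3 := h2
  rw [← map_mul, S.ker] at h3
  obtain ⟨l, k1, k2⟩ := h3
  rw [Dl.mul_A] at k1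
  rw [Dl.mul_B] at k2
  by_cases hA : ∃ m : F, y.A = m • (1 : M2 F) <;> by_cases hB : ∃ m : F, y.B = m • (1 : M2 F)
  · obtain ⟨a, ha⟩ := hA
    obtain ⟨b, hb⟩ := hB
    rcases S.eq_t_of_mem_Z ⟨y, ⟨a, b, ha, hb⟩, rfl⟩ h2 with h | h
    exacts [absurd h h1, absurd h ht]
  · obtain ⟨a, ha⟩ := hA
    refine Or.inl ⟨⟨a, ?_⟩, Or.inl fun X => S.comm_f1_iff.2 (by simp [ha])⟩
    have := y.h
    rw [(det_of_sq k2 hB).2, ha] at this
    simp [ha, eq2] at k1 this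
    rw [← k1] at this
    linear_combination -this
  · obtain ⟨a, ha⟩ := hB
    refine Or.inl ⟨⟨a, ?_⟩, Or.inr fun X => S.comm_f2_iff.2 (by simp [ha])⟩
    have := y.h
    rw [(det_of_sq k1 hA).2, ha] at this
    simp [ha, eq2] at k2 this
    rw [← k2] at this
    linear_combination -this
  · obtain ⟨hl, -⟩ := S.conj_cmp hF k1 k2 hA hB
    rcases mul_self_eq_one_iff.1 hl with rfl | rfl
    · exact Or.inr (Or.inl (S.conj_N (S.conj_t'_of_sq hF (by simpa using k1) (by simpa using k2) hA hB)))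
    · exact Or.inr (Or.inr (S.conj_N (S.conj_a_of_sq hF (by simpa using k1) (by simpa using k2) hA hB)))
theorem inv_class_K' (hF : Fq F) {x : G} (hx : x ∈ S.K) (h2 : x * x = 1) (h1 : x ≠ 1) (ht : x ≠ S.t) :
    ∃ c ∈ S.K, c * x * c⁻¹ = S.a := by
  obtain ⟨X, Y, rfl⟩ := S.mem_K.1 hx
  have e : S.f1 (X * X) * S.f2 (Y * Y) = S.f1 1 * S.f2 1 := by
    rw [map_mul, map_mul, map_one, map_one, one_mul, ← h2, (S.f1_comm X Y).mul_mul_mul_comm]
  have sq1 : ∀ X : S2 F, X * X = 1 → X = 1 ∨ X = -1 := fun X h => by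
    by_contra hc
    have := (det_of_sq (A := X.1) (l := 1) (by simpa using congrArg Subtype.val h) fun ⟨m, hm⟩ =>
      hc (eq_of_scalar hm)).2
    exact neg_one_ne hF.two_ne (this.symm.trans X.2)
  have ns : ∀ X : S2 F, X * X = -1 → ¬ ∃ m : F, X.1 = m • (1 : M2 F) := fun X h ⟨m, hm⟩ => by
    rcases eq_of_scalar hm with rfl | rfl <;>
      exact neg_one_ne hF.two_ne (by simpa using (congrArg (fun X : S2 F => X.1 0 0) h).symm)
  rcases S.f12_eq e with ⟨e1, e2⟩ | ⟨e1, e2⟩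
  · exfalso
    rcases sq1 X e1 with rfl | rfl <;> rcases sq1 Y e2 with rfl | rfl
    · exact h1 (by simp)
    · exact ht (by rw [t_eq]; simp)
    · exact ht (by rw [t]; simp)
    · exact h1 (by rw [← t_eq]; exact S.t_sq)
  · rw [f12]
    exact S.conj_a_of_sq hF (congrArg Subtype.val e1) (congrArg Subtype.val e2) (ns X e1) (ns Y e2)
theorem inv_class_K (hF : Fq F) {x : G} (hx : x ∈ S.K) (h2 : x * x = 1) (h1 : x ≠ 1) (ht : x ≠ S.t) :
    ∃ c ∈ S.N, c * x * c⁻¹ = S.a := S.conj_N (S.inv_class_K' hF hx h2 h1 ht)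
omit [Fintype F] in
theorem t'_mem_K (h : IsSquare (-1 : F)) : S.t' ∈ S.K := by
  obtain ⟨i, hi⟩ := h
  refine ⟨Dl.dg (-i) i (-i) i (by linear_combination (1 - i * i) * hi), ?_, (S.eq_iff _ _).2 ⟨i, ?_, ?_⟩⟩
  · simp [Dl.mem_Spec, Dl.dg_A, det_fin_two, ← hi]
  · simp [Dl.dg_A]
  · simp [Dl.dg_B]
theorem a_conj_t' (hF : Fq F) (h : IsSquare (-1 : F)) : ∃ c ∈ S.N, c * S.a * c⁻¹ = S.t' :=
  conj_trans ⟨1, S.N.one_mem, by simp⟩
    (S.inv_class_K hF (S.t'_mem_K h) S.t'_sq (S.t'_ne hF.two_ne) (S.t'_ne_t hF.two_ne))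
theorem at'_conj (hF : Fq F) : ∃ c ∈ S.N, c * (S.a * S.t') * c⁻¹ = S.t' := by
  rw [a, f12, t', ← map_mul]
  refine S.conj_N (S.conj_t'_of_sq hF ?_ ?_ ?_ ?_) <;> simp [Dl.mul_A, Dl.mul_B, Dl.dg_A, Dl.dg_B, nn_coe, eq2]
theorem att'_conj (hF : Fq F) : ∃ c ∈ S.N, c * (S.a * (S.t * S.t')) * c⁻¹ = S.t' := by
  rw [a, f12, tt'_eq, ← map_mul]
  refine S.conj_N (S.conj_t'_of_sq hF ?_ ?_ ?_ ?_) <;> simp [Dl.mul_A, Dl.mul_B, Dl.dg_A, Dl.dg_B, nn_coe, eq2]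
theorem at_conj (hF : Fq F) : ∃ c ∈ S.K, c * S.a * c⁻¹ = S.t * S.a := by
  have hc : Commute S.a S.t := S.mem_C_iff.1 (S.N_le_C (S.K_le_N S.a_mem_K))
  have ht := S.Z_le_T S.t_mem_Z
  refine conj_trans ⟨1, S.K.one_mem, by simp⟩ (S.inv_class_K' hF (S.K.mul_mem S.t_mem_K S.a_mem_K) ?_
    (fun h => S.a_not_mem_T ?_) fun h => S.a_not_mem_T ?_)
  · rw [mul_assoc, ← mul_assoc S.a, hc.eq, mul_assoc, a_sq, mul_one, t_sq]
  · rw [eq_inv_of_mul_eq_one_right h]; exact S.T.inv_mem ht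
  · rw [mul_eq_left.1 h]; exact S.T.one_mem
omit [Fintype F] in
theorem comm_sign {U V : S2 F} {y : Dl F} (h : Commute (S.f1 U * S.f2 V) (S.κ y)) :
    ∃ l : F, (l = 1 ∨ l = -1) ∧ U.1 * y.A = l • (y.A * U.1) ∧ V.1 * y.B = l • (y.B * V.1) := by
  have := h.eq
  rw [f12, ← map_mul, ← map_mul, eq_iff] at this
  obtain ⟨l, h1, h2⟩ := this
  refine ⟨l, ?_, h1, h2⟩
  have := congrArg det h1
  rw [det_smul, Dl.mul_A, Dl.mul_A, det_mul, det_mul, U.2, Fintype.card_fin, one_mul, mul_one] at this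
  exact sq_eq_one_iff.1 (mul_right_cancel₀ y.detA_ne (by rw [one_mul]; exact this.symm))
theorem no_pelt_t' (hF : Fq F) (p : ℕ) [Fact p.Prime] [CharP F p] {g : G} (hg : g ∈ S.C) {k : ℕ}
    (h : g ^ p ^ k = 1) (hc : Commute g S.t') : g = 1 := by
  obtain ⟨U, V, hU, hV, rfl⟩ := S.pelt hF p hg h
  obtain ⟨l, hl, h1, h2⟩ := S.comm_sign hc
  have h3 := hF.two_ne
  have key : ∀ U : S2 F, Un U → U.1 * !![-1, 0; 0, 1] = l • (!![-1, 0; 0, 1] * U.1) → U = 1 := fun U hU e => by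
    have d := s2_det U
    rw [un_iff] at hU
    simp only [eq2, mul2, Matrix.smul_apply] at e
    obtain ⟨e1, e2, e3, e4⟩ := e
    simp only [smul_eq_mul, of_apply, cons_val', cons_val_zero, cons_val_one, cons_val_fin_one] at e1 e2 e3 e4
    rcases hl with rfl | rfl
    · have k : U.1 1 0 = 0 := mul_left_cancel₀ h3 (by linear_combination -e3)
      have k' : U.1 0 1 = 0 := mul_left_cancel₀ h3 (by linear_combination e2)
      rw [(un_iff.2 hU).eq_xu k, k', xu_zero]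
    · exact absurd (mul_left_cancel₀ h3 (by linear_combination -2 * hU - e1 + e4 : (2 : F) * 2 = 2 * 0)) h3
  rw [key U hU h1, key V hV h2]; simp
theorem no_pelt_a (hF : Fq F) (p : ℕ) [Fact p.Prime] [CharP F p] {g : G} (hg : g ∈ S.C) {k : ℕ}
    (h : g ^ p ^ k = 1) (hc : Commute g S.a) : g = 1 := by
  obtain ⟨U, V, hU, hV, rfl⟩ := S.pelt hF p hg h
  rw [a, S.f12 nn nn] at hc
  obtain ⟨l, hl, h1, h2⟩ := S.comm_sign hc
  have h3 := hF.two_ne
  have key : ∀ U : S2 F, Un U → U.1 * !![0, 1; -1, 0] = l • (!![0, 1; -1, 0] * U.1) → U = 1 := fun U hU e => by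
    have d := s2_det U
    rw [un_iff] at hU
    simp only [eq2, mul2, Matrix.smul_apply] at e
    obtain ⟨e1, e2, e3, e4⟩ := e
    simp only [smul_eq_mul, of_apply, cons_val', cons_val_zero, cons_val_one, cons_val_fin_one] at e1 e2 e3 e4
    rcases hl with rfl | rfl
    · have k0 : U.1 0 0 = 1 := mul_left_cancel₀ h3 (by linear_combination hU + e2)
      have k1 : U.1 1 1 = 1 := by linear_combination hU - k0
      have k : U.1 1 0 = 0 := by
        rw [k0, k1] at d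
        exact mul_self_eq_zero.1 (by linear_combination d - U.1 1 0 * e1)
      have k' : U.1 0 1 = 0 := by linear_combination -e1 - k
      rw [(un_iff.2 hU).eq_xu k, k', xu_zero]
    · exact absurd (by linear_combination e2 - hU) h3
  rw [key U hU h1, key V hV h2]; simp
omit [Fintype F] in
theorem no_pelt_conj {x c y g : G} (hc : c ∈ S.N) (e : c * x * c⁻¹ = y) (hg : g ∈ S.C) {n : ℕ} (h : g ^ n = 1)
    (hx : Commute g x) (H : ∀ g ∈ S.C, g ^ n = 1 → Commute g y → g = 1) : g = 1 := by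
  have := H (c * g * c⁻¹) (S.C.mul_mem (S.C.mul_mem (S.N_le_C hc) hg) (S.C.inv_mem (S.N_le_C hc)))
    (by rw [conj_pow, h]; simp) (by rw [← e]; exact hx.conj c)
  exact conj_eq_one_iff.1 this
theorem not_conj_aux (hF : Fq F) {x : G} (ht : x ≠ S.t) (ψ : S2 F →* G) (hψ : Function.Injective ψ)
    (hm : ψ (-1) = S.t) (h : ∀ X, Commute x (ψ X)) : ¬ IsConj S.t x := by
  intro hc
  obtain ⟨g, hg⟩ := isConj_iff.1 hc.symm
  obtain ⟨p, hp⟩ := CharP.exists F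
  haveI : Fact p.Prime := ⟨CharP.char_is_prime F p⟩
  let φ : S2 F →* G := (MulAut.conj g).toMonoidHom.comp ψ
  have hC : ∀ X, φ X ∈ S.C := fun X => S.mem_C_iff.2 (by rw [← hg]; exact ((h X).symm.conj g))
  have hφ : Function.Injective φ := (MulAut.conj g).injective.comp hψ
  obtain ⟨c, hc, e⟩ := S.inv_class_K hF (S.range_le_K hF φ hC (-1)) (by rw [← map_mul]; simp)
    (fun e => S.t_ne hF.two_ne (by rw [← hm, hφ (e.trans (map_one φ).symm), map_one]))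
    (fun e => ht ((MulAut.conj g).injective (hg.trans (e.symm.trans (congrArg (MulAut.conj g) hm)))))
  have := S.no_pelt_conj hc e (hC (xu 1)) (n := p ^ 1) (by rw [pow_one, ← map_pow, (un_xu 1).pow_char p, map_one])
    (Commute.map (by simp) φ) fun g hg h1 h2 => S.no_pelt_a hF p hg h1 h2
  exact (xu_ne one_ne_zero).1 (hφ (this.trans (map_one φ).symm))
theorem not_conj_u (hF : Fq F) {x : G} (ht : x ≠ S.t)
    (h : (∀ X, Commute x (S.f1 X)) ∨ ∀ X, Commute x (S.f2 X)) : ¬ IsConj S.t x := by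
  rcases h with h | h
  · exact S.not_conj_aux hF ht S.f1 S.f1_inj rfl h
  · exact S.not_conj_aux hF ht S.f2 S.f2_inj S.t_eq.symm h
omit [Fintype F] in
theorem sq_of_conj {x : G} (h : IsConj S.t x) : x * x = 1 := by
  obtain ⟨g, rfl⟩ := isConj_iff.1 h
  rw [conj_mul, t_sq]; simp
theorem ne_one_of_conj (hF : Fq F) {x : G} (h : IsConj S.t x) : x ≠ 1 := by
  rintro rfl
  exact S.t_ne hF.two_ne (isConj_one_left.1 h)
/-- conjugates of `t` in `C` -/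
theorem conj_class (hF : Fq F) {x : G} (hx : x ∈ S.C) (h : IsConj S.t x) (ht : x ≠ S.t) :
    S.Sw x ∨ (∃ c ∈ S.N, c * x * c⁻¹ = S.t') ∨ ∃ c ∈ S.N, c * x * c⁻¹ = S.a := by
  rcases S.inv_class hF hx (S.sq_of_conj h) (S.ne_one_of_conj hF h) ht with h1 | h1 | h1
  exacts [Or.inl h1, absurd h (S.not_conj_u hF ht h1.2), Or.inr h1]

/-- the diagonal copy of `SL₂` -/
def dJ : S2 F →* G := MonoidHom.mk' (fun X => S.f1 X * S.f2 X) fun X Y => by
  rw [map_mul, map_mul, mul_assoc, mul_assoc, ← mul_assoc (S.f1 Y), (S.f1_comm Y X).eq, mul_assoc]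
omit [Fintype F] in
theorem dJ_apply (X : S2 F) : S.dJ X = S.f1 X * S.f2 X := rfl
omit [Fintype F] in
theorem dJ_comm_w (X : S2 F) : Commute (S.dJ X) S.w := by
  change _ * _ = _ * _
  rw [dJ_apply, f12, κw]; rfl
omit [Fintype F] in
theorem dJ_mem_K (X : S2 F) : S.dJ X ∈ S.K := S.mem_K.2 ⟨X, X, rfl⟩
omit [Fintype F] in
theorem dJ_eq_one {X : S2 F} (h : S.dJ X = 1) : X = 1 ∨ X = -1 := by
  rcases S.f12_eq (h.trans (by simp : (1 : G) = S.f1 1 * S.f2 1)) with h | h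
  exacts [Or.inl h.1, Or.inr h.1]
omit [Fintype F] in
theorem t_of_f1 {S' : Su F G} (h : S'.f1 = S.f1) : S'.t = S.t := by rw [t, h]; rfl
omit [Fintype F] in
theorem C_of_f1 {S' : Su F G} (h : S'.f1 = S.f1) : S'.C = S.C := by rw [C, S.t_of_f1 h]; rfl

/-- being a swap is a symmetric relation between commuting conjugates of `t` -/
theorem pair (hF : Fq F) {x y g h : G} (hg : g * x * g⁻¹ = S.t) (hh : h * y * h⁻¹ = S.t) (hc : Commute x y)
    (hs : S.Sw (g * y * g⁻¹)) : S.Sw (h * x * h⁻¹) := by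
  obtain ⟨p, hp⟩ := CharP.exists F
  haveI : Fact p.Prime := ⟨CharP.char_is_prime F p⟩
  have cx : IsConj S.t x := (isConj_iff.2 ⟨g, hg⟩).symm
  have cy : IsConj S.t y := (isConj_iff.2 ⟨h, hh⟩).symm
  obtain ⟨S', e1, e2, -, e4, -⟩ := S.rebase hs (by rw [conj_mul, S.sq_of_conj cy]; simp)
  let u := (h * g⁻¹) * S'.dJ (xu 1) * (h * g⁻¹)⁻¹
  have u1 : u ≠ 1 := fun e => by
    rcases S'.dJ_eq_one (conj_eq_one_iff.1 e) with e | e
    exacts [(xu_ne one_ne_zero).1 e, (xu_ne one_ne_zero).2 e]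
  have up : u ^ p ^ 1 = 1 := by rw [pow_one, conj_pow, ← map_pow, (un_xu 1).pow_char p, map_one]; simp
  have uC : u ∈ S.C := S.mem_C_iff.2 (by
    have := (S'.dJ_comm_w (xu 1)).conj (h * g⁻¹)
    rwa [e1, show h * g⁻¹ * (g * y * g⁻¹) * (h * g⁻¹)⁻¹ = h * y * h⁻¹ by group, hh] at this)
  have ux : Commute u (h * x * h⁻¹) := by
    have := (S'.mem_C_iff.1 (S'.N_le_C (S'.K_le_N (S'.dJ_mem_K (xu 1))))).conj (h * g⁻¹)
    rwa [S.t_of_f1 e2, ← hg, show h * g⁻¹ * (g * x * g⁻¹) * (h * g⁻¹)⁻¹ = h * x * h⁻¹ by group] at this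
  have hne : h * x * h⁻¹ ≠ S.t := fun e => by
    obtain rfl : x = y := (MulAut.conj h).injective (e.trans hh.symm)
    exact hs.not_mem_N (hg ▸ S.K_le_N S.t_mem_K)
  rcases S.conj_class hF (x := h * x * h⁻¹) (S.mem_C_iff.2 (hh ▸ hc.conj h))
    (cx.trans (isConj_iff.2 ⟨h, rfl⟩)) hne with h1 | ⟨c, hc, e⟩ | ⟨c, hc, e⟩
  · exact h1
  · exact absurd (S.no_pelt_conj hc e uC up ux fun g hg h1 h2 => S.no_pelt_t' hF p hg h1 h2) u1
  · exact absurd (S.no_pelt_conj hc e uC up ux fun g hg h1 h2 => S.no_pelt_a hF p hg h1 h2) u1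
theorem sw_conj_a (hF : Fq F) {s : G} (hs : S.Sw s) (h : IsConj S.t s) : IsConj S.a (S.t * s) := by
  obtain ⟨S', rfl, e2, -, e4, -⟩ := S.rebase hs (S.sq_of_conj h)
  obtain ⟨g, hg⟩ := isConj_iff.1 h.symm
  have et := S.t_of_f1 e2
  let φ : S2 F →* G := (MulAut.conj g).toMonoidHom.comp S'.dJ
  have hC : ∀ X, φ X ∈ S.C := fun X => S.mem_C_iff.2 (by rw [← hg]; exact ((S'.dJ_comm_w X).conj g))
  have hw : Commute S'.w S'.t := S'.mem_C_iff.1 S'.w_mem_C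
  have e : S'.f1 nn * (S'.t * S'.w) * (S'.f1 nn)⁻¹ = S'.dJ nn * S'.w := by
    have h1 : (S'.f1 nn)⁻¹ = S'.t * S'.f1 nn := by
      rw [inv_eq_iff_mul_eq_one, t, ← map_mul, ← map_mul, ← mul_assoc, mul_neg_one, neg_mul, nn_sq]; simp
    rw [h1, dJ_apply, ← w_f1, ← hw.eq]
    calc _ = S'.f1 nn * S'.w * (S'.t * S'.t) * S'.f1 nn * (S'.w * S'.w) := by rw [S'.ww]; group
      _ = _ := by rw [S'.t_sq]; group
  have e' : g * (S'.dJ nn * S'.w) * g⁻¹ = φ nn * S.t := by rw [← hg, ← conj_mul]; rfl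
  obtain ⟨c, -, hc⟩ := S.inv_class_K hF (S.K.mul_mem (S.range_le_K hF φ hC nn) S.t_mem_K)
    (by rw [← e', conj_mul, ← e, conj_mul, hw.mul_mul_mul_comm, S'.ww, S'.t_sq]; simp)
    (fun h => by
      rw [← e', conj_eq_one_iff] at h
      exact (S'.sw_w.N_mul (S'.K_le_N (S'.dJ_mem_K nn))).not_mem_N (h ▸ S'.N.one_mem))
    (fun h => by
      rcases S'.dJ_eq_one (conj_eq_one_iff.1 (mul_eq_right.1 h)) with h | h <;>
        simpa [nn_coe] using congrArg (fun X : S2 F => X.1 0 1) h)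
  rw [← et]
  exact (isConj_iff.2 ⟨c * g * S'.f1 nn, by rw [← hc, ← e', ← e]; group⟩).symm
omit [Fintype F] in
theorem sw_conj_ts (h : IsSquare (-1 : F)) {s : G} (hs : S.Sw s) (h2 : s * s = 1) :
    ∃ c ∈ S.N, c * s * c⁻¹ = S.t * s := by
  obtain ⟨S', rfl, e2, -, e4, -⟩ := S.rebase hs h2
  obtain ⟨i, hi⟩ := h
  have hd : 1 * -i * (i * 1) = 1 := by linear_combination hi
  refine ⟨S'.κ (Dl.dg 1 (-i) i 1 hd), e4 ▸ S'.κ_mem_N _, ?_⟩
  rw [← S.t_of_f1 e2, mul_inv_eq_iff_eq_mul, mul_assoc, S'.wκ, ← mul_assoc]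
  congr 1
  change _ = S'.κ _ * _
  rw [← map_mul, eq_iff]
  exact ⟨i, by simp [Dl.mul_A, Dl.dg_A, Dl.dg_B, Dl.inl_A, Dl.swap_A, eq2, ← hi],
    by simp [Dl.mul_B, Dl.dg_A, Dl.dg_B, Dl.inl_B, Dl.swap_B, eq2, ← hi]⟩
omit [Fintype F] in
theorem sw_conj_diag {s : G} (hs : S.Sw s) (h2 : s * s = 1) : ∃ c ∈ S.N, ∃ τ ∈ S.T, c * s * c⁻¹ = τ * S.w := by
  obtain ⟨x, rfl⟩ := hs
  obtain ⟨l, h1, h3⟩ := S.sw_sq h2
  let c : Dl F := ⟨!![x.A.det, 0; 0, 1] * x⁻¹.A, 1, by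
    rw [det_mul, det_one, mul_one, det_fin_two (!![x.A.det, 0; 0, 1])]; simp [← det_mul, x.A_mul_inv]⟩
  refine ⟨S.κ c, S.κ_mem_N _, S.κ (c * x * (Dl.swap c)⁻¹), S.κ_mem_T.2 ?_, by
    rw [← map_inv, mul_assoc, mul_assoc, S.wκ]; simp only [map_mul, map_inv, mul_assoc]⟩
  have e1 : (c * x * (Dl.swap c)⁻¹).A = !![x.A.det, 0; 0, 1] := by
    have : (Dl.swap c)⁻¹.A = 1 := by simpa [Dl.swap_A, c] using (Dl.swap c).A_mul_inv
    rw [Dl.mul_A, Dl.mul_A, this, Matrix.mul_one, Matrix.mul_assoc, x.inv_mul_A, Matrix.mul_one]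
  have e2 : (c * x * (Dl.swap c)⁻¹).B * !![x.A.det, 0; 0, 1] = l • (1 : M2 F) := by
    have : (Dl.swap c)⁻¹.B * !![x.A.det, 0; 0, 1] = x.A := by
      have := congrArg (· * x.A) (Dl.swap c).inv_mul_B
      simpa [Dl.swap_B, c, Matrix.mul_assoc, x.inv_mul_A] using this
    rw [Dl.mul_B, Matrix.mul_assoc, this, Dl.mul_B, h3]
    simp [c, x.inv_mul_A]
  have hA := x.detA_ne
  simp only [eq2, mul2, Matrix.smul_apply] at e2
  simp [hA] at e2
  exact ⟨by simp [e1], by simp [e1], e2.2.1, e2.2.2.1⟩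
omit [Fintype F] in
theorem isP_zpowers {x : G} {k : ℕ} (h : x ^ 2 ^ k = 1) : IsPGroup 2 (Subgroup.zpowers x) := by
  rintro ⟨_, n, rfl⟩
  exact ⟨k, Subtype.ext (show (x ^ n) ^ 2 ^ k = 1 by
    rw [← _root_.zpow_natCast, ← _root_.zpow_mul, mul_comm, _root_.zpow_mul, _root_.zpow_natCast, h, _root_.one_zpow])⟩
theorem smul_mk_eq {L H U : Subgroup G} (u : U.subgroupOf L) (g : L) :
    u • (QuotientGroup.mk g : L ⧸ H.subgroupOf L) = QuotientGroup.mk g ↔ (g : G)⁻¹ * u.1.1 * g ∈ H := by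
  change (QuotientGroup.mk (u.1 * g) : L ⧸ H.subgroupOf L) = _ ↔ _
  rw [eq_comm, QuotientGroup.eq, Subgroup.mem_subgroupOf, mul_assoc]; rfl
/-- a criterion for `C_L(t)` to have odd index in `L` -/
theorem odd_relIndex [Finite G] {L Q : Subgroup G} {t : G} (ht : t ∈ L) (hQ : IsPGroup 2 Q)
    (hQL : Q ≤ L ⊓ Subgroup.centralizer {t}) (htt : t * t = 1)
    (h : ∀ g ∈ L, Commute (g * t * g⁻¹) t → (∀ x ∈ Q, Commute (g * t * g⁻¹) x) → g * t * g⁻¹ = t) :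
    Odd ((Subgroup.centralizer {t}).relIndex L) := by
  have hU : IsPGroup 2 (Q ⊔ Subgroup.zpowers t : Subgroup G) := hQ.to_sup_of_normal_left'
    (Holt.isPGroup_zpowers_of_sq htt) (Subgroup.zpowers_le.2 (Subgroup.centralizer_le_normalizer _
      fun x hx => Subgroup.mem_centralizer_singleton_iff.1 (hQL hx).2))
  have hC : Q ⊔ Subgroup.zpowers t ≤ Subgroup.centralizer {t} := sup_le (fun x hx => (hQL hx).2)
    (Subgroup.zpowers_le.2 (Subgroup.mem_centralizer_singleton_iff.2 rfl))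
  have hL : Q ⊔ Subgroup.zpowers t ≤ L := sup_le (fun x hx => (hQL hx).1) (Subgroup.zpowers_le.2 ht)
  have := (hU.comap_subtype (K := L)).card_modEq_card_fixedPoints (L ⧸ (Subgroup.centralizer {t}).subgroupOf L)
  rw [show Nat.card (MulAction.fixedPoints _ (L ⧸ (Subgroup.centralizer {t}).subgroupOf L)) = 1 from ?_] at this
  · exact Nat.odd_iff.2 this
  rw [Nat.card_eq_one_iff_exists]
  refine ⟨⟨QuotientGroup.mk 1, fun u => (smul_mk_eq u 1).2 (by simpa using hC u.2)⟩, ?_⟩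
  rintro ⟨q, hq⟩
  obtain ⟨g, rfl⟩ := QuotientGroup.mk_surjective q
  have key : ∀ x ∈ Q ⊔ Subgroup.zpowers t, Commute (g * t * (g : G)⁻¹) x := fun x hx => by
    have := Subgroup.mem_centralizer_singleton_iff.1 ((smul_mk_eq (U := Q ⊔ Subgroup.zpowers t) ⟨⟨x, hL hx⟩, hx⟩ g).1 (hq _))
    have := (show Commute ((g : G)⁻¹ * x * g) t from this).symm.conj g
    simpa [mul_assoc] using this
  have e := h g g.2 (key _ (Subgroup.mem_sup_right (Subgroup.mem_zpowers t))) fun x hx =>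
    key x (Subgroup.mem_sup_left hx)
  refine Subtype.ext ((QuotientGroup.eq.2 ?_).symm)
  rw [inv_one, one_mul, Subgroup.mem_subgroupOf, Subgroup.mem_centralizer_singleton_iff]
  exact mul_inv_eq_iff_eq_mul.1 e
theorem exists_conj_le [Finite G] {L H U : Subgroup G} (h : Odd (H.relIndex L)) (hU : IsPGroup 2 U) (hUL : U ≤ L) :
    ∃ g ∈ L, ∀ u ∈ U, g * u * g⁻¹ ∈ H := by
  obtain ⟨q, hq⟩ := (hU.comap_subtype (K := L)).nonempty_fixed_point_of_prime_not_dvd_card (L ⧸ H.subgroupOf L)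
    (by rw [← even_iff_two_dvd, Nat.not_even_iff_odd]; exact h)
  obtain ⟨g, rfl⟩ := QuotientGroup.mk_surjective q
  exact ⟨(g : G)⁻¹, L.inv_mem g.2, fun u hu => by
    rw [inv_inv]; exact (smul_mk_eq ⟨⟨u, hUL hu⟩, hu⟩ g).1 (hq _)⟩
theorem exists_q8 (hF : Fq F) : ∃ m : S2 F, m * m = -1 ∧ m * nn = -(nn * m) ∧
    ∀ A : M2 F, A * (nn : S2 F).1 = (nn : S2 F).1 * A → A * m.1 = m.1 * A → ∃ l : F, A = l • (1 : M2 F) := by
  obtain ⟨a, b, hab⟩ := exists_sq_sub hF (l := -1) (by simp) (-1)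
  obtain ⟨m, hm⟩ : ∃ m : S2 F, m.1 = !![a, b; b, -a] :=
    ⟨⟨!![a, b; b, -a], by rw [det_fin_two_of]; linear_combination -hab⟩, rfl⟩
  refine ⟨m, s2_ext ?_, s2_ext ?_, fun A h1 h2 => ⟨A 0 0, ?_⟩⟩
  · rw [s2_mul, s2_neg, s2_one, hm]
    simp only [eq2, mul2]; simp
    exact ⟨by linear_combination hab, by ring, by ring, by linear_combination hab⟩
  · rw [s2_mul, s2_neg, s2_mul, hm]
    simp [nn_coe, eq2]
  · simp only [hm, eq2, mul2, nn_coe, of_apply, cons_val', cons_val_zero, cons_val_one, cons_val_fin_one] at h1 h2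
    obtain ⟨e1, e2, -, -⟩ := h1
    obtain ⟨k1, k2, -, -⟩ := h2
    have k : A 0 1 = 0 := mul_left_cancel₀ hF.two_ne (by
      linear_combination 2 * A 0 1 * hab - b * k1 + a * k2 + b * b * e1 - a * b * e2)
    simp only [eq2, Matrix.smul_apply]
    simp [k]
    exact ⟨by linear_combination -e1 - k, by linear_combination -e2⟩
theorem odd_index_C [Finite G] (hF : Fq F) : Odd S.C.index := by
  obtain ⟨m, h1, h2, h3⟩ := exists_q8 hF
  have p4 : ∀ X : S2 F, X * X = -1 → S.f1 X ^ 2 ^ 2 = 1 := fun X h => by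
    rw [← map_pow, show X ^ 2 ^ 2 = X * X * (X * X) by simp [pow_succ, mul_assoc], h]; simp
  have hQ : IsPGroup 2 (Subgroup.zpowers (S.f1 nn) ⊔ Subgroup.zpowers (S.f1 m) : Subgroup G) :=
    (isP_zpowers (p4 _ nn_sq)).to_sup_of_normal_left' (isP_zpowers (p4 _ h1)) (Subgroup.zpowers_le.2 (by
      have : S.f1 m * S.f1 nn * (S.f1 m)⁻¹ = (S.f1 nn)⁻¹ := by
        rw [← map_inv, ← map_mul, ← map_mul, h2, eq_inv_iff_mul_eq_one, ← map_mul, neg_mul, mul_inv_cancel_right,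
          neg_mul, nn_sq]; simp
      refine Subgroup.mem_normalizer_fintype ?_
      rintro _ ⟨k, rfl⟩
      rw [← conj_zpow, this]
      exact Subgroup.zpow_mem _ (Subgroup.inv_mem _ (Subgroup.mem_zpowers _)) k))
  have := odd_relIndex (L := ⊤) (t := S.t) trivial hQ (le_inf le_top (sup_le
    (Subgroup.zpowers_le.2 (S.N_le_C (S.K_le_N (S.f1_mem_K _))))
    (Subgroup.zpowers_le.2 (S.N_le_C (S.K_le_N (S.f1_mem_K _)))))) S.t_sq fun g _ hc hx => by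
      have c1 := hx _ (Subgroup.mem_sup_left (Subgroup.mem_zpowers _))
      have c2 := hx _ (Subgroup.mem_sup_right (Subgroup.mem_zpowers _))
      obtain ⟨y, hy⟩ := S.mem_N_of_comm (S.mem_C_iff.2 hc) (X := nn) (by
        constructor <;> intro h <;> simpa [nn_coe] using congrArg (fun X : S2 F => X.1 0 1) h) c1
      rw [← hy] at c1 c2
      obtain ⟨l, hl⟩ := h3 _ (S.comm_f1_iff.1 c1) (S.comm_f1_iff.1 c2)
      by_contra hne
      exact S.not_conj_u hF hne (Or.inl fun X => hy ▸ S.comm_f1_iff.2 (by simp [hl])) (isConj_iff.2 ⟨g, rfl⟩)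
  rwa [Subgroup.relIndex_top_right] at this
omit [Fintype F] in
theorem N_or_mul_w {c : G} (hc : c ∈ S.C) : c * S.w ∈ S.N ∨ c ∈ S.N :=
  (S.mem_C.1 hc).symm.imp_left fun h => h.mul_sw S.sw_w
theorem exists_fused [Finite G] (hF : Fq F) (hG : ∀ H : Subgroup G, H.index ≠ 2) :
    ∃ x ∈ S.C, x ≠ S.t ∧ IsConj S.t x := by
  by_contra hc
  push Not at hc
  have hz := Holt.zstar (Y := ⊤) (S.order_t hF.two_ne) trivial fun y _ h => by
    by_contra hne
    exact hc _ (S.mem_C_iff.2 h.symm) hne (isConj_iff.2 ⟨y, rfl⟩)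
  haveI : (Holt.OO (⊤ : Subgroup G)).Normal :=
    Subgroup.normalizer_eq_top_iff.1 (top_le_iff.1 (GT.le_normalizer_pPrimeCoreOf _))
  refine hG (Holt.OO ⊤ ⊔ S.N) (Subgroup.index_eq_two_iff_exists_notMem_and.2 ⟨S.w, fun h => ?_, fun b => ?_⟩)
  · obtain ⟨o, ho, n, hn, e⟩ := Subgroup.mem_sup_of_normal_left.1 h
    have hs : S.Sw o := by rw [eq_mul_inv_of_mul_eq e]; exact S.sw_w.mul_N (S.N.inv_mem hn)
    exact hs.not_mem_N (S.mem_N_of_odd hs.mem_C (Holt.odd_order_OO ho))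
  · obtain ⟨o, ho, e⟩ := Holt.adj_left (fun o ho => Holt.odd_order_OO ho) S.t_sq (g := b)
      (by have := hz b trivial; rwa [commutatorElement_def, Holt.inv_eq_of_sq S.t_sq] at this)
    refine (S.N_or_mul_w (S.mem_C_iff.2 e)).imp (fun h => ?_) fun h => ?_
    · simpa [mul_assoc] using Subgroup.mul_mem_sup ((Holt.OO ⊤).inv_mem ho) h
    · simpa [mul_assoc] using Subgroup.mul_mem_sup ((Holt.OO ⊤).inv_mem ho) h
omit [Fintype F] in
theorem relIndex_N : S.N.relIndex S.C = 2 :=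
  Subgroup.relIndex_eq_two_iff_exists_notMem_and.2 ⟨S.w, S.w_mem_C, S.sw_w.not_mem_N, fun _ => S.N_or_mul_w⟩
theorem sw_fused [Finite G] (hF : Fq F) (hG : ∀ H : Subgroup G, H.index ≠ 2) {s : G} (h2 : s * s = 1) :
    ∃ g, g * s * g⁻¹ ∈ S.N := by
  rcases GT.Tr.thompson_transfer_index_two (H := S.C)
    (by rw [← even_iff_two_dvd, Nat.not_even_iff_odd]; exact S.odd_index_C hF) S.relIndex_N
    (u := s) (by rw [pow_two, h2]) with ⟨M, -, h, -⟩ | h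
  exacts [absurd h (hG M), h]

end Su

end Cfsg.Agent.L4C
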