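import Mathlib
import Cfsg.Agent.L4C.Invol
import Cfsg.Agent.L4C.Fus3a
import Cfsg.Agent.Cl.PSL2Finite
import Cfsg.Agent.GT.TransferCocycle

/-!
# `L₄(q)` from an involution centraliser, `q ≡ 3 mod 4`: fusion of involutions
-/

set_option autoImplicit false

namespace Cfsg.Agent.L4C

open Matrix

variable {F : Type*} [Field F] [Fintype F] {G : Type*} [Group G] [Finite G]

omit [Finite G] in
theorem cj3 {x y : G} (h : Commute x y) (g : G) : Commute (g * x * g⁻¹) (g * y * g⁻¹) :=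
  (Commute.conj_iff g).2 h

omit [Finite G] in
theorem cj3' {x y y' g : G} (h : Commute x y) (e : g * y' * g⁻¹ = y) : Commute (g⁻¹ * x * g) y' := by
  have := cj3 h g⁻¹
  rwa [inv_inv, ← e, show g⁻¹ * (g * y' * g⁻¹) * g = y' by group] at this

omit [Finite G] in
theorem ic3 {x y g : G} (e : g * x * g⁻¹ = y) : IsConj x y := isConj_iff.2 ⟨g, e⟩

/-- PLAN, step A: an element exchanging `t` and `a` preserves `N` in `C(t, a)` -/
theorem Su.exists_swap3 (S : Su F G) (hF : Fq F) (h : ¬ IsSquare (-1 : F)) (ha : IsConj S.t S.a) :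
    ∃ g, g * S.a * g⁻¹ = S.t ∧ g * S.t * g⁻¹ = S.a ∧ ∀ c, Commute c S.t → Commute c S.a →
      (c ∈ S.N ↔ g * c * g⁻¹ ∈ S.N) := by
  obtain ⟨m, hm, hq⟩ := hF.exists_m3 h
  obtain ⟨g, hg⟩ := isConj_iff.1 ha.symm
  have hy : g * S.t * g⁻¹ ∈ S.C := S.mem_C_iff.2 (hg ▸ cj3 S.a_t3.symm g)
  have adj : ∀ c ∈ S.N, c * g * S.a * (c * g)⁻¹ = S.t := fun c hc => by
    calc _ = c * (g * S.a * g⁻¹) * c⁻¹ := by group
      _ = _ := by rw [hg, (S.mem_C_iff.1 (S.N_le_C hc)).eq, mul_inv_cancel_right]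
  rcases S.conj_class hF hy (ic3 rfl) (fun e => S.a_ne3
    (mul_left_cancel (mul_right_cancel (hg.trans e.symm)))) with hs | ⟨c, hc, e⟩ | ⟨c, hc, e⟩
  · have := S.pair hF (h := 1) hg (by group) S.a_t3 hs
    rw [one_mul, inv_one, mul_one] at this
    exact absurd S.a_N3 this.not_mem_N
  · exfalso
    have e1 := adj c hc
    have e2 : c * g * S.t * (c * g)⁻¹ = S.t' := by rw [← e]; group
    generalize c * g = k at e1 e2
    obtain ⟨x, hx, x1, x2, x3⟩ := S.exists_x3 hF h hq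
    have hz : k⁻¹ * x * k ∈ S.Z := S.mem_Z_of_pow3 hF h hm hq
      (S.mem_C_iff.2 (cj3' (Su.comm_T hx S.t'_mem_T) e2))
      (cj3' (Su.comm_T hx (S.Z_le_T S.t_mem_Z)) e1) (by
        rw [← inv_inv k, inv_inv k⁻¹, conj_pow, x1]; group)
    rcases S.conj_Z3 (S.mem_C_iff.2 (cj3' S.t'_comm_w.symm e2)) hz with e | e
    · refine x2 ?_
      calc _ = k * (k⁻¹ * S.w * k * (k⁻¹ * x * k) * (k⁻¹ * S.w * k)⁻¹) * k⁻¹ := by group
        _ = _ := by rw [e]; group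
    · refine x3 ?_
      calc _ = k * (k⁻¹ * S.w * k * (k⁻¹ * x * k) * (k⁻¹ * S.w * k)⁻¹) * k⁻¹ := by group
        _ = _ := by rw [e]; group
  · have e1 := adj c hc
    have e2 : c * g * S.t * (c * g)⁻¹ = S.a := by rw [← e]; group
    generalize c * g = k at e1 e2
    refine ⟨k, e1, e2, fun d d1 d2 => ?_⟩
    obtain ⟨z, hz, z1, z2⟩ := S.exists_z3 hF h hq
    have hz' : k⁻¹ * z * k ∈ S.Z := S.mem_Z_of_pow3 hF h hm hq
      (S.mem_C_iff.2 (cj3' (Su.comm_Z S.a_N3 hz).symm e2))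
      (cj3' (Su.comm_T (S.Z_le_T hz) (S.Z_le_T S.t_mem_Z)) e1) (by
        rw [← inv_inv k, inv_inv k⁻¹, conj_pow, z1]; group)
    rw [S.mem_N_iff3 (S.mem_C_iff.2 d1) hz' (fun e => z2 (by
        calc _ = k * (k⁻¹ * z * k * (k⁻¹ * z * k)) * k⁻¹ := by group
          _ = _ := by rw [e]; group)),
      S.mem_N_iff3 (S.mem_C_iff.2 (e1 ▸ cj3 d2 k)) hz z2, ← Commute.conj_iff k,
      show k * (k⁻¹ * z * k) * k⁻¹ = z by group]

/-- `q ≡ 3 mod 4`: the involution `a` is not fused to `t` (PLAN, step A) -/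
theorem Su.not_conj_a (S : Su F G) (hF : Fq F) (hG : ∀ H : Subgroup G, H.index ≠ 2) (h : ¬ IsSquare (-1 : F)) :
    ¬ IsConj S.t S.a := by
  intro ha
  obtain ⟨g, g1, g2, hN⟩ := S.exists_swap3 hF h ha
  have hsw : ∀ {c}, S.Sw c → Commute c S.a → S.Sw (g * c * g⁻¹) := fun {c} hc h1 =>
    (S.mem_C.1 (S.mem_C_iff.2 (g1 ▸ cj3 h1 g))).resolve_left fun e =>
      hc.not_mem_N ((hN c (S.mem_C_iff.1 hc.mem_C) h1).2 e)
  by_cases ht' : IsConj S.t S.t'
  · have hw : IsConj S.t S.w := by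
      obtain ⟨k, hk⟩ := S.sw_fused hF hG S.ww
      refine IsConj.trans ?_ (ic3 (rfl : k * S.w * k⁻¹ = _)).symm
      by_cases e : k * S.w * k⁻¹ = S.t
      · rw [e]
      rcases S.inv_class hF (S.N_le_C hk) (by rw [conj_mul, S.ww]; group) (fun e1 =>
        S.sw_w.not_mem_N (conj_eq_one_iff.1 e1 ▸ S.N.one_mem)) e with
        hs | ⟨⟨α, hα⟩, -⟩ | ⟨c, -, e⟩ | ⟨c, -, e⟩
      · exact absurd hk hs.not_mem_N
      · exact absurd ⟨α ^ 2, by linear_combination -hα⟩ h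
      · exact ht'.trans (ic3 e).symm
      · exact ha.trans (ic3 e).symm
    obtain ⟨k, hk⟩ := isConj_iff.1 hw.symm
    have wt : Commute S.t S.w := (S.mem_C_iff.1 S.w_mem_C).symm
    have s1 := S.pair hF (g := 1) (by group) hk wt (by simpa using S.sw_w)
    have s2 := S.pair hF g1 hk S.a_comm_w (hsw S.sw_w S.a_comm_w.symm)
    obtain ⟨c, hc, e⟩ := S.at_conj hF
    have s3 := S.pair hF (g := g * c⁻¹) (x := S.t * S.a) (by rw [← e, ← g1]; group) hk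
      (wt.mul_left S.a_comm_w) (by
        have := hsw (S.sw_w.conj (S.C.inv_mem (S.N_le_C (S.K_le_N hc))))
          (by rw [inv_inv]; exact cj3' (wt.mul_left S.a_comm_w).symm e)
        rwa [show g * (c⁻¹ * S.w * c⁻¹⁻¹) * g⁻¹ = g * c⁻¹ * S.w * (g * c⁻¹)⁻¹ by group] at this)
    rw [← conj_mul] at s3
    exact s3.not_mem_N (s1.mul_sw s2)
  have hK : ∀ f ∈ S.N, IsConj S.t f → f ∈ S.K := fun f hf h1 => by
    by_cases e : f = S.t
    · rw [e]; exact S.t_mem_K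
    rcases S.conj_class hF (S.N_le_C hf) h1 e with hs | ⟨c, -, e⟩ | ⟨c, hc, e⟩
    · exact absurd hf hs.not_mem_N
    · exact absurd (h1.trans (ic3 e)) ht'
    · have := Su.conj_mem_K S.a_mem_K (S.C.inv_mem (S.N_le_C hc))
      rwa [← e, show c⁻¹ * (c * f * c⁻¹) * c⁻¹⁻¹ = f by group] at this
  obtain ⟨M, M1, M2, M3⟩ := exists_M3 (F := F)
  have neg1 : (-1 : S2 F) ≠ 1 := fun e => S.t_ne hF.two_ne (by rw [Su.t, e, map_one])
  have mul12 : ∀ X Y X' Y' : S2 F, S.f1 X * S.f2 Y * (S.f1 X' * S.f2 Y') =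
      S.f1 (X * X') * S.f2 (Y * Y') := fun X Y X' Y' => by
    rw [map_mul, map_mul, mul_assoc, ← mul_assoc (S.f2 Y), ← (S.f1_comm X' Y).eq]; group
  have tt : S.f1 (-1) * S.f2 (-1) = 1 := by rw [← S.t_eq]; exact S.t_sq
  have hb : ∀ A : S2 F, A * nn = nn * A → g * (S.f1 (A * M) * S.f2 M) * g⁻¹ ∈ S.K := fun A hA => by
    have bK : S.f1 (A * M) * S.f2 M ∈ S.K := S.mem_K.2 ⟨_, _, rfl⟩
    have ne : ∀ X : S2 F, S.f1 (A * M) * S.f2 M ≠ S.f1 X * S.f2 1 := fun X e => by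
      rcases S.f12_eq e with ⟨-, e⟩ | ⟨-, e⟩ <;> rw [e] at M1 <;> exact neg1 (by simpa using M1.symm)
    obtain ⟨c, -, e⟩ := S.inv_class_K hF bK (by rw [mul12, M3 A hA, M1, tt])
      (fun e => ne 1 (by simpa using e)) (fun e => ne (-1) (by rw [e, map_one, mul_one]; rfl))
    refine hK _ ((hN _ (S.mem_C_iff.1 (S.N_le_C (S.K_le_N bK))) ?_).1 (S.K_le_N bK))
      ((ha.trans (ic3 e).symm).trans (ic3 rfl))
    change _ * _ = _ * _
    rw [Su.a, mul12, mul12, mul_assoc A, M2, mul_neg, ← mul_assoc A, hA, mul_assoc nn,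
      ← one_mul (S.f1 (nn * (A * M)) * _), ← tt, mul12]
    simp
  have hf : ∀ A : S2 F, A * nn = nn * A → g * S.f1 A * g⁻¹ ∈ S.K := fun A hA => by
    have := S.K.mul_mem (hb A hA) (S.K.inv_mem (hb 1 (by simp)))
    rwa [map_mul, one_mul, show g * (S.f1 A * S.f1 M * S.f2 M) * g⁻¹ * (g * (S.f1 M * S.f2 M) * g⁻¹)⁻¹ =
      g * S.f1 A * g⁻¹ by group] at this
  have ind : ∀ k, ∃ A : S2 F, A * nn = nn * A ∧ S.f1 A ^ 2 ^ (k + 1) = S.t := fun k => by
    induction k with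
    | zero => exact ⟨nn, rfl, by rw [zero_add, pow_one, sq, ← map_mul, nn_sq]; rfl⟩
    | succ k ih =>
      obtain ⟨A, hA, e⟩ := ih
      obtain ⟨X, Y, e1⟩ := S.mem_K.1 (hf A hA)
      have e2 : S.f1 (X ^ 2 ^ (k + 1)) * S.f2 (Y ^ 2 ^ (k + 1)) = S.f1 nn * S.f2 nn := by
        rw [map_pow, map_pow, ← (S.f1_comm X Y).mul_pow, ← e1, conj_pow, e, g2, Su.a]
      have c := (Commute.self_pow X (2 ^ (k + 1))).eq
      refine ⟨X, ?_, ?_⟩
      · rcases S.f12_eq e2 with ⟨e, -⟩ | ⟨e, -⟩ <;> rw [e] at c <;> simpa using c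
      · rw [← map_pow, pow_succ 2 (k + 1), pow_mul, sq]
        rcases S.f12_eq e2 with ⟨e, -⟩ | ⟨e, -⟩ <;> rw [e]
        · rw [nn_sq]; rfl
        · rw [neg_mul_neg, nn_sq]; rfl
  obtain ⟨k, u, hu, e⟩ := Nat.exists_eq_two_pow_mul_odd (Nat.card_pos (α := G)).ne'
  obtain ⟨A, -, hA⟩ := ind k
  have : S.t ^ u = 1 := by
    rw [← hA, ← pow_mul, pow_succ' 2, mul_assoc, ← e, mul_comm, pow_mul, pow_card_eq_one', one_pow]
  have := orderOf_dvd_of_pow_eq_one this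
  rw [S.order_t hF.two_ne] at this
  exact (Nat.not_even_iff_odd.2 hu) (even_iff_two_dvd.2 this)

/-- elements whose first block has square determinant -/
def Su.Msq (S : Su F G) : Subgroup G where
  carrier := {g | ∃ x : Dl F, IsSquare x.A.det ∧ (g = S.κ x ∨ g = S.κ x * S.w)}
  one_mem' := ⟨1, by simp [Dl.one_A], Or.inl (map_one _).symm⟩
  mul_mem' := by
    have hs : ∀ y : Dl F, IsSquare y.A.det → IsSquare (Dl.swap y).A.det := fun y hy => by
      rw [Dl.swap_A, eq_inv_of_mul_eq_one_right y.h]; exact hy.inv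
    have hm : ∀ {x y : Dl F}, IsSquare x.A.det → IsSquare y.A.det → IsSquare (x * y).A.det :=
      fun hx hy => by rw [Dl.mul_A, det_mul]; exact hx.mul hy
    rintro _ _ ⟨x, hx, rfl | rfl⟩ ⟨y, hy, rfl | rfl⟩
    · exact ⟨x * y, hm hx hy, Or.inl (map_mul _ _ _).symm⟩
    · exact ⟨x * y, hm hx hy, Or.inr (by rw [map_mul, mul_assoc])⟩
    · exact ⟨x * Dl.swap y, hm hx (hs y hy), Or.inr (by rw [map_mul, mul_assoc, S.wκ, mul_assoc])⟩
    · exact ⟨x * Dl.swap y, hm hx (hs y hy), Or.inl (by rw [map_mul, ← S.wκw]; group)⟩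
  inv_mem' := by
    have hi : ∀ y : Dl F, IsSquare y.A.det → IsSquare y⁻¹.A.det := fun y hy => by
      have := congrArg det y.A_mul_inv
      rw [det_mul, det_one] at this
      rw [eq_inv_of_mul_eq_one_right this]; exact hy.inv
    rintro _ ⟨x, hx, rfl | rfl⟩
    · exact ⟨x⁻¹, hi x hx, Or.inl (map_inv _ _).symm⟩
    · refine ⟨Dl.swap x⁻¹, ?_, Or.inr (by rw [_root_.mul_inv_rev, S.w_inv, ← map_inv, S.wκ])⟩
      rw [Dl.swap_A, eq_inv_of_mul_eq_one_right x⁻¹.h]; exact (hi x hx).inv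

omit [Finite G] [Fintype F] in
theorem Su.κ_mem_Msq (S : Su F G) {x : Dl F} : S.κ x ∈ S.Msq ↔ IsSquare x.A.det := by
  refine ⟨?_, fun h => ⟨x, h, Or.inl rfl⟩⟩
  rintro ⟨y, hy, e | e⟩
  · obtain ⟨l, e, -⟩ := (S.eq_iff _ _).1 e
    rw [e, det_smul, Fintype.card_fin]
    exact (IsSquare.sq l).mul hy
  · exact absurd (S.κ_mem_N x) (Su.Sw.not_mem_N ⟨y, e⟩)

omit [Finite G] [Fintype F] in
theorem Su.w_mem_Msq (S : Su F G) : S.w ∈ S.Msq := ⟨1, by simp [Dl.one_A], Or.inr (by simp)⟩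

omit [Finite G] in
theorem Su.relIndex_Msq (S : Su F G) (h : ¬ IsSquare (-1 : F)) : S.Msq.relIndex S.C = 2 := by
  have key : ∀ x : Dl F, Xor (S.κ x * S.t' ∈ S.Msq) (S.κ x ∈ S.Msq) := fun x => by
    rw [Su.t', ← map_mul, S.κ_mem_Msq, S.κ_mem_Msq, Dl.mul_A, det_mul, Dl.dg_A, det_fin_two_of,
      show (-1 : F) * 1 - 0 * 0 = -1 by ring]
    by_cases e : IsSquare x.A.det
    · refine Or.inr ⟨e, fun e' => h ?_⟩
      have := e'.mul e.inv
      rwa [mul_right_comm, mul_inv_cancel₀ x.detA_ne, one_mul] at this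
    · exact Or.inl ⟨Cl.L2.isSquare_mul_of_not e h, e⟩
  refine Subgroup.relIndex_eq_two_iff.2 ⟨S.t', S.N_le_C S.t'_N3, fun b hb => ?_⟩
  rcases S.mem_C.1 hb with ⟨x, rfl⟩ | ⟨x, rfl⟩
  · exact key x
  · rw [mul_assoc, ← S.t'_comm_w.eq, ← mul_assoc, S.Msq.mul_mem_cancel_right S.w_mem_Msq,
      S.Msq.mul_mem_cancel_right S.w_mem_Msq]
    exact key x

omit [Finite G] [Fintype F] in
theorem Su.sw_Msq (S : Su F G) {x : Dl F} (hx : IsSquare x.A.det) (h : S.κ x * S.w * (S.κ x * S.w) = 1) :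
    IsConj (S.κ x * S.w) S.w ∨ IsConj (S.κ x * S.w) (S.t * S.w) := by
  obtain ⟨l, h1, h2⟩ := S.sw_sq h
  obtain ⟨μ, hμ⟩ := hx
  have hl : l ^ 2 = 1 := by
    have := congrArg det h1
    rwa [det_mul, x.h, det_smul, det_one, Fintype.card_fin, mul_one, eq_comm] at this
  have hi : x.A.det * x⁻¹.A.det = 1 := by rw [← det_mul, x.A_mul_inv, det_one]
  let y : Dl F := ⟨!![μ, 0; 0, 1] * x⁻¹.A, !![μ, 0; 0, 1], by
    rw [det_mul, det_fin_two_of]; rw [hμ] at hi; linear_combination hi⟩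
  let z : Dl F := ⟨1, l • 1, by rw [det_smul, det_one, Fintype.card_fin, hl]; simp⟩
  have e : S.κ y * (S.κ x * S.w) * (S.κ y)⁻¹ = S.κ z * S.w := by
    rw [mul_inv_eq_iff_eq_mul, mul_assoc (S.κ z), S.wκ, ← mul_assoc, ← mul_assoc, ← map_mul, ← map_mul]
    refine congrArg (fun u => S.κ u * S.w) (Dl.ext ?_ ?_)
    · change !![μ, 0; 0, 1] * x⁻¹.A * x.A = 1 * !![μ, 0; 0, 1]
      rw [Matrix.mul_assoc, x.inv_mul_A, Matrix.mul_one, Matrix.one_mul]
    · change !![μ, 0; 0, 1] * x.B = l • 1 * (!![μ, 0; 0, 1] * x⁻¹.A)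
      rw [h2]
      simp
  rcases sq_eq_one_iff.1 hl with rfl | rfl
  · refine Or.inl (ic3 (e.trans ?_))
    rw [show z = 1 from Dl.ext rfl (one_smul _ _), map_one, one_mul]
  · refine Or.inr (ic3 (e.trans ?_))
    rw [S.t_eq, show z = Dl.inr (-1) from Dl.ext rfl (by simp [z, Dl.inr_B])]
    rfl

theorem Su.conj_t'_of_w (S : Su F G) (hF : Fq F) (hG : ∀ H : Subgroup G, H.index ≠ 2)
    (h : ¬ IsSquare (-1 : F)) (hw : IsConj S.t S.w) : IsConj S.t S.t' := by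
  by_contra ht'
  have ha := S.not_conj_a hF hG h
  have sw : ∀ {x}, x ∈ S.C → IsConj S.t x → x ≠ S.t → S.Sw x := fun hx h1 h2 => by
    rcases S.conj_class hF hx h1 h2 with hs | ⟨c, -, e⟩ | ⟨c, -, e⟩
    · exact hs
    · exact absurd (h1.trans (ic3 e)) ht'
    · exact absurd (h1.trans (ic3 e)) ha
  have t'M : S.t' ∉ S.Msq := fun e => h (by simpa [Dl.dg_A, det_fin_two] using S.κ_mem_Msq.1 e)
  have h1 : IsConj S.t' S.a := by
    obtain ⟨M, -, hM, -⟩ | ⟨g, hg⟩ := GT.Tr.thompson_transfer_index_two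
      (fun e => Nat.not_even_iff_odd.2 (S.odd_index_C hF) (even_iff_two_dvd.2 e))
      (S.relIndex_Msq h) (u := S.t') (by rw [sq, S.t'_sq])
    · exact absurd hM (hG M)
    have u2 : g * S.t' * g⁻¹ * (g * S.t' * g⁻¹) = 1 := by rw [conj_mul, S.t'_sq]; group
    obtain ⟨x, hx, e | e⟩ := id hg
    · have uN : g * S.t' * g⁻¹ ∈ S.N := e ▸ S.κ_mem_N x
      rcases S.inv_class hF (S.N_le_C uN) u2 (fun e1 => S.t'_ne hF.two_ne (conj_eq_one_iff.1 e1))
        (fun e1 => ht' (ic3 e1).symm) with hs | ⟨⟨α, hα⟩, -⟩ | ⟨c, ⟨y, rfl⟩, e1⟩ | ⟨c, -, e1⟩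
      · exact absurd uN hs.not_mem_N
      · exact absurd ⟨α ^ 2, by linear_combination -hα⟩ h
      · refine absurd ?_ t'M
        have d := congrArg det y.A_mul_inv
        rw [det_mul, det_one] at d
        rw [← e1, e, ← map_inv, ← map_mul, ← map_mul, S.κ_mem_Msq, Dl.mul_A, Dl.mul_A, det_mul, det_mul,
          mul_right_comm, d, one_mul]
        exact hx
      · exact (ic3 rfl).trans (ic3 e1)
    · rw [e] at u2
      rcases S.sw_Msq hx u2 with e1 | e1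
      · exact absurd (hw.trans ((ic3 e).trans e1).symm) ht'
      · exact ((ic3 e).trans e1).trans (S.sw_conj_a hF S.sw_w hw).symm
  have nn1 : (nn : S2 F) ≠ 1 ∧ (nn : S2 F) ≠ -1 := by
    constructor <;> intro e <;>
      simpa [nn_coe, s2_neg, s2_one] using congrArg (fun X : S2 F => X.1 0 1) e
  have odd : Odd ((Subgroup.centralizer {S.t}).relIndex (Subgroup.centralizer {S.a})) := by
    refine Su.odd_relIndex (Q := Subgroup.zpowers (S.f1 nn))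
      (Subgroup.mem_centralizer_singleton_iff.2 S.a_t3.symm) ?_ (Subgroup.zpowers_le.2 ⟨?_, ?_⟩)
      S.t_sq fun g _ c1 c2 => ?_
    · refine IsPGroup.of_card_dvd_pow (n := 2) ?_
      rw [Nat.card_zpowers]
      refine orderOf_dvd_of_pow_eq_one ?_
      rw [sq 2, pow_mul, sq (S.f1 nn), ← map_mul, nn_sq, sq]
      exact S.t_sq
    · exact Subgroup.mem_centralizer_singleton_iff.2 ((Commute.refl _).mul_right (S.f1_comm _ _))
    · exact S.N_le_C (S.K_le_N (S.f1_mem_K _))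
    · by_contra e
      exact (sw (S.mem_C_iff.2 c1) (ic3 rfl) e).not_mem_N
        (S.mem_N_of_comm (S.mem_C_iff.2 c1) nn1 (c2 _ (Subgroup.mem_zpowers _)))
  obtain ⟨g, g1, g2⟩ : ∃ g, g * S.t' * g⁻¹ = S.a ∧ g * S.t * g⁻¹ ∈ S.C := by
    obtain ⟨g, hg⟩ := isConj_iff.1 h1
    obtain ⟨k, hk, e⟩ := Su.exists_conj_le odd (U := Subgroup.zpowers (g * S.t * g⁻¹))
      (IsPGroup.of_card_dvd_pow (n := 1) (by
        rw [Nat.card_zpowers]
        exact orderOf_dvd_of_pow_eq_one (by rw [pow_one, sq, conj_mul, S.t_sq]; group)))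
      (Subgroup.zpowers_le.2 (Subgroup.mem_centralizer_singleton_iff.2 (hg ▸ cj3 S.t'_t3.symm g)))
    refine ⟨k * g, ?_, ?_⟩
    · calc _ = k * (g * S.t' * g⁻¹) * k⁻¹ := by group
        _ = _ := by rw [hg, Subgroup.mem_centralizer_singleton_iff.1 hk, mul_inv_cancel_right]
    · have := e _ (Subgroup.mem_zpowers _)
      rwa [show k * (g * S.t * g⁻¹) * k⁻¹ = k * g * S.t * (k * g)⁻¹ by group] at this
  have yt := S.mem_C_iff.1 g2
  have t'e : S.t' = g⁻¹ * S.a * g := by rw [← g1]; group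
  have es : S.Sw (g⁻¹ * S.t * g⁻¹⁻¹) := by
    refine sw (S.mem_C_iff.2 (by rw [inv_inv]; exact cj3' yt.symm rfl)) (ic3 rfl) fun e => ?_
    have := Su.conj_mem_K S.a_mem_K (S.mem_C_iff.2 (mul_inv_eq_iff_eq_mul.1 e))
    rw [inv_inv, ← t'e] at this
    exact S.t'_not_mem_K h this
  have ys := S.pair hF (g := g⁻¹) (h := 1) (by group) (by group) yt es
  rw [one_mul, inv_one, mul_one] at ys
  obtain ⟨S', w', f', -, -, K', -⟩ := S.rebase ys (by rw [conj_mul, S.t_sq]; group)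
  have tt : S'.t = S.t := by rw [Su.t, Su.t, f']
  let ψ : S2 F →* G := MonoidHom.mk' (fun X => g⁻¹ * (S'.f1 X * S'.f2 X) * g) fun X Y => by
    rw [map_mul, map_mul, mul_assoc (S'.f1 X), ← mul_assoc (S'.f1 Y), (S'.f1_comm Y X).eq]; group
  have hψ := S.range_le_K hF ψ fun X => S.mem_C_iff.2 (cj3' (y := S'.w) (by
    change _ * _ = _ * _
    rw [S'.f12, S'.κw]; rfl) w'.symm)
  obtain ⟨X, e | e⟩ := S'.cent_K_w (K' ▸ S.a_mem_K) (by rw [w', ← g1]; exact cj3 S.t'_t3 g)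
  · exact S.t'_not_mem_K h (by rw [t'e, e]; exact hψ X)
  · refine (es.N_mul (S.K_le_N (hψ X))).not_mem_N ?_
    change g⁻¹ * (S'.f1 X * S'.f2 X) * g * _ ∈ _
    rw [show g⁻¹ * (S'.f1 X * S'.f2 X) * g * (g⁻¹ * S.t * g⁻¹⁻¹) =
      g⁻¹ * (S'.f1 X * S'.f2 X * S.t) * g by group, ← tt, ← e, ← t'e]
    exact S.t'_N3

/-- `q ≡ 3 mod 4`: `t'` is fused to `t` (PLAN, step B) -/
theorem Su.conj_t'_three (S : Su F G) (hF : Fq F) (hG : ∀ H : Subgroup G, H.index ≠ 2) (h : ¬ IsSquare (-1 : F)) :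
    IsConj S.t S.t' := by
  obtain ⟨s, hs, s1, s2⟩ := S.exists_fused hF hG
  rcases S.conj_class hF hs s2 s1 with sw | ⟨c, -, e⟩ | ⟨c, -, e⟩
  · obtain ⟨g, hg⟩ := isConj_iff.1 s2
    obtain ⟨S', w', f', -, N', K', -⟩ := S.rebase sw (by rw [← hg, conj_mul, S.t_sq]; group)
    have tt : S'.t = S.t := by rw [Su.t, Su.t, f']
    have h1 := S'.conj_t'_of_w hF hG h (by rw [tt, w']; exact s2)
    rw [tt] at h1
    have hN : S'.t' ∈ S.N := N' ▸ S'.t'_N3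
    rcases S.conj_class hF (S.N_le_C hN) h1 (tt ▸ S'.t'_ne_t hF.two_ne) with
      sw | ⟨c, -, e⟩ | ⟨c, -, e⟩
    · exact absurd hN sw.not_mem_N
    · exact h1.trans (ic3 e)
    · exact absurd (h1.trans (ic3 e)) (S.not_conj_a hF hG h)
  · exact s2.trans (ic3 e)
  · exact absurd (s2.trans (ic3 e)) (S.not_conj_a hF hG h)

end Cfsg.Agent.L4C
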