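import Mathlib
import Cfsg.Agent.L4C.Fus3
import Cfsg.Agent.Sym.Present

/-!
# `L₄(q)` from an involution centraliser: fusion of involutions and the Weyl group
-/

set_option autoImplicit false

namespace Cfsg.Agent.L4C

open Matrix

variable {F : Type*} [Field F] [Fintype F] {G : Type*} [Group G]

namespace Su

variable (S : Su F G)

omit [Fintype F] in
theorem dg_mul (a b c d : F) (h : a * b * (c * d) = 1) (a' b' c' d' : F) (h' : a' * b' * (c' * d') = 1) :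
    S.κ (Dl.dg a b c d h) * S.κ (Dl.dg a' b' c' d' h') =
      S.κ (Dl.dg (a * a') (b * b') (c * c') (d * d') (by linear_combination a' * b' * (c' * d') * h + h')) := by
  rw [← map_mul]
  exact congrArg _ (Dl.ext (by simp [Dl.mul_A, Dl.dg_A]) (by simp [Dl.mul_B, Dl.dg_B]))
omit [Fintype F] in
theorem dg_eq {a b c d : F} {h : a * b * (c * d) = 1} {a' b' c' d' : F} {h' : a' * b' * (c' * d') = 1} :
    S.κ (Dl.dg a b c d h) = S.κ (Dl.dg a' b' c' d' h') ↔ ∃ l, a = l * a' ∧ b = l * b' ∧ c = l * c' ∧ d = l * d' := by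
  rw [eq_iff]
  simp [Dl.dg_A, Dl.dg_B, eq2, and_assoc]
omit [Fintype F] in
theorem one_dg : (1 : G) = S.κ (Dl.dg 1 1 1 1 (by ring)) := by
  rw [eq_comm, S.ker]; exact ⟨1, by simp [Dl.dg_A, eq2], by simp [Dl.dg_B, eq2]⟩
omit [Fintype F] in
theorem t_dg : S.t = S.κ (Dl.dg (-1) (-1) 1 1 (by ring)) :=
  congrArg S.κ (Dl.ext (by simp [Dl.inl_A, Dl.dg_A, eq2]) (by simp [Dl.inl_B, Dl.dg_B, eq2]))
omit [Fintype F] in
theorem hd_dg (μ : F) (hμ : μ ≠ 0) : S.f1 (hd μ hμ) = S.κ (Dl.dg μ μ⁻¹ 1 1 (by simp [hμ])) :=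
  congrArg S.κ (Dl.ext rfl (by simp [Dl.inl_B, Dl.dg_B, eq2]))
omit [Fintype F] in
theorem hd_mem_T (μ : F) (hμ : μ ≠ 0) : S.f1 (hd μ hμ) ∈ S.T := by rw [hd_dg]; exact S.κ_mem_T.2 (Dl.dg_mem ..)

/-- the centraliser of the four-group `⟨t, t'⟩` -/
def Q : Subgroup G := S.C ⊓ Subgroup.centralizer {S.t'}

omit [Fintype F] in
theorem mem_Q {g : G} : g ∈ S.Q ↔ Commute g S.t ∧ Commute g S.t' :=
  and_congr S.mem_C_iff Subgroup.mem_centralizer_singleton_iff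
omit [Fintype F] in
theorem T_le_Q : S.T ≤ S.Q := fun _ h => S.mem_Q.2 ⟨comm_T h (S.Z_le_T S.t_mem_Z), comm_T h S.t'_mem_T⟩
omit [Fintype F] in
theorem a_mem_Q : S.a ∈ S.Q := ⟨S.N_le_C (S.K_le_N S.a_mem_K), (S.mem_Q.2 ⟨S.mem_C_iff.1
  (S.N_le_C (S.K_le_N S.a_mem_K)), S.a_comm_t'⟩).2⟩
omit [Fintype F] in
theorem w_mem_Q : S.w ∈ S.Q := S.mem_Q.2 ⟨S.mem_C_iff.1 S.w_mem_C, S.t'_comm_w.symm⟩
omit [Fintype F] in
theorem a_mem_normalizer : S.a ∈ Subgroup.normalizer (S.T : Set G) :=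
  Subgroup.mul_mem _ S.n1_mem_normalizer S.n2_mem_normalizer
omit [Fintype F] in
theorem conj_T {g τ : G} (hg : g ∈ Subgroup.normalizer (S.T : Set G)) (hτ : τ ∈ S.T) : g * τ * g⁻¹ ∈ S.T :=
  (Subgroup.mem_normalizer_iff.1 hg τ).1 hτ
omit [Fintype F] in
theorem sq_mem_T (h2 : (2 : F) ≠ 0) {g : G} (hg : g ∈ S.Q) : g * g ∈ S.T := by
  have key : ∀ τ ∈ S.T, ∀ x ∈ Subgroup.normalizer (S.T : Set G), x * x = 1 → τ * x * (τ * x) ∈ S.T :=
    fun τ hτ x hx h => by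
      have := S.T.mul_mem hτ (S.conj_T hx hτ)
      rwa [inv_eq_of_mul_eq_one_right h, ← mul_assoc, ← mul_assoc, mul_assoc (τ * x)] at this
  obtain ⟨τ, hτ, rfl | rfl | rfl | rfl⟩ := S.mem_CV h2 hg.1 (S.mem_Q.1 hg).2
  · exact S.T.mul_mem hτ hτ
  · exact key τ hτ _ S.a_mem_normalizer S.a_sq
  · exact key τ hτ _ S.w_mem_normalizer S.ww
  · rw [mul_assoc τ]
    exact key τ hτ _ (Subgroup.mul_mem _ S.a_mem_normalizer S.w_mem_normalizer)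
      (by rw [S.a_comm_w.symm.mul_mul_mul_comm, a_sq, S.ww, mul_one])
omit [Fintype F] in
theorem mem_T_of_comm (h2 : (2 : F) ≠ 0) {μ : F} (hμ : μ ≠ 0) (h : μ ^ 2 ≠ 1) {g : G} (hg : g ∈ S.Q)
    (hc : Commute g (S.f1 (hd μ hμ))) : g ∈ S.T := by
  have hn : g ∈ S.N := S.mem_N_of_comm hg.1 (by
    constructor <;> intro e <;> have := congrArg (fun X : S2 F => X.1 0 0) e <;>
      simp [hd_coe] at this <;> simp [this] at h) hc
  obtain ⟨τ, hτ, rfl | rfl⟩ := S.mem_NV h2 hn (S.mem_Q.1 hg).2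
  · exact hτ
  · have := (comm_T (S.T.inv_mem hτ) (S.hd_mem_T μ hμ)).mul_left hc
    rw [inv_mul_cancel_left] at this
    have e := mul_inv_eq_iff_eq_mul.2 this.eq
    rw [hd_dg, a_dg, dg_eq] at e
    obtain ⟨l, -, e1, e2, -⟩ := e
    rw [mul_one] at e2
    rw [← e2, one_mul] at e1
    exact absurd (by rw [pow_two]; nth_rw 2 [e1]; exact mul_inv_cancel₀ hμ) h
omit [Fintype F] in
theorem conj_Q {g x : G} (h1 : g * S.t * g⁻¹ = S.t') (h2 : g * S.t' * g⁻¹ = S.t) (hx : x ∈ S.Q) :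
    g * x * g⁻¹ ∈ S.Q := S.mem_Q.2 ⟨h2 ▸ (S.mem_Q.1 hx).2.conj g, h1 ▸ (S.mem_Q.1 hx).1.conj g⟩
omit [Fintype F] in
theorem inv_swap {g x y : G} (h : g * x * g⁻¹ = y) : g⁻¹ * y * g⁻¹⁻¹ = x := by rw [← h]; group
omit [Fintype F] in
theorem n1_t : S.f1 nn * S.t * (S.f1 nn)⁻¹ = S.t :=
  mul_inv_eq_iff_eq_mul.2 (S.mem_C_iff.1 (S.N_le_C (S.K_le_N (S.f1_mem_K nn)))).eq
omit [Fintype F] in
theorem n2_t : S.f2 nn * S.t * (S.f2 nn)⁻¹ = S.t :=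
  mul_inv_eq_iff_eq_mul.2 (S.mem_C_iff.1 (S.N_le_C (S.K_le_N (S.f2_mem_K nn)))).eq
omit [Fintype F] in
theorem norm_T_of [Finite G] (h0 : (2 : F) ≠ 0) {g : G} (h1 : g * S.t * g⁻¹ = S.t') (h2 : g * S.t' * g⁻¹ = S.t)
    {μ : F} (hμ : μ ≠ 0) (h : μ ^ 2 ≠ 1) (hy : g * S.f1 (hd μ hμ) * g⁻¹ ∈ S.T) :
    g ∈ Subgroup.normalizer (S.T : Set G) := by
  rw [← inv_mem_iff]
  refine Subgroup.mem_normalizer_fintype fun τ hτ => S.mem_T_of_comm h0 hμ h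
    (S.conj_Q (inv_swap h2) (inv_swap h1) (S.T_le_Q hτ)) ?_
  simpa [mul_assoc] using (comm_T hτ hy).conj g⁻¹
omit [Fintype F] in
theorem norm_T_of_four [Finite G] (h0 : (2 : F) ≠ 0) {g : G} (h1 : g * S.t * g⁻¹ = S.t') (h2 : g * S.t' * g⁻¹ = S.t)
    {l : F} (hl : l ≠ 0) (h : l ^ 4 ≠ 1) : g ∈ Subgroup.normalizer (S.T : Set G) := by
  refine S.norm_T_of h0 h1 h2 (mul_ne_zero hl hl) (fun e => h (by linear_combination e)) ?_
  have := S.sq_mem_T h0 (S.conj_Q h1 h2 (S.T_le_Q (S.hd_mem_T l hl)))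
  rwa [conj_mul, ← map_mul, show hd l hl * hd l hl = hd (l * l) (mul_ne_zero hl hl) from
    s2_ext (by rw [s2_mul]; simp [hd_coe])] at this
omit [Fintype F] in
theorem inv_T (h4 : ¬ ∃ α : F, α ^ 4 = -1) {τ : G} (hτ : τ ∈ S.T) (h : τ * τ = 1) :
    τ = 1 ∨ τ = S.t ∨ τ = S.t' ∨ τ = S.t * S.t' := by
  obtain ⟨a, b, c, d, e, rfl⟩ := S.mem_T.1 hτ
  rw [dg_mul, S.one_dg, dg_eq] at h
  obtain ⟨l, h1, h2, h3, h5⟩ := h
  rw [S.one_dg, tt'_eq, t_dg, t', dg_eq, dg_eq, dg_eq, dg_eq]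
  rcases mul_self_eq_mul_self_iff.1 (h2.trans h1.symm) with rfl | rfl <;>
    rcases mul_self_eq_mul_self_iff.1 (h3.trans h1.symm) with rfl | rfl <;>
      rcases mul_self_eq_mul_self_iff.1 (h5.trans h1.symm) with k | k
  · exact Or.inl ⟨d, by simp [k]⟩
  · exact absurd ⟨c, by rw [k] at e; linear_combination -e⟩ h4
  · exact absurd ⟨b, by rw [k] at e; linear_combination -e⟩ h4
  · exact Or.inr (Or.inl ⟨d, by simp [k]⟩)
  · exact absurd ⟨c, by rw [k] at e; linear_combination -e⟩ h4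
  · exact Or.inr (Or.inr (Or.inl ⟨d, by simp [k]⟩))
  · exact Or.inr (Or.inr (Or.inr ⟨d, by simp [k]⟩))
  · exact absurd ⟨a, by rw [k] at e; linear_combination -e⟩ h4

theorem nsw_symm (hF : Fq F) {x y g h : G} (hg : g * x * g⁻¹ = S.t) (hh : h * y * h⁻¹ = S.t) (hc : Commute x y)
    (hs : g * y * g⁻¹ ∈ S.N) : h * x * h⁻¹ ∈ S.N :=
  (S.mem_C.1 (S.mem_C_iff.2 (hh ▸ hc.conj h))).resolve_right fun k => (S.pair hF hh hg hc.symm k).not_mem_N hs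

variable [Finite G]

theorem conj_t' (hF : Fq F) (hG : ∀ H : Subgroup G, H.index ≠ 2) : IsConj S.t S.t' := by
  by_cases h : IsSquare (-1 : F)
  swap
  · exact S.conj_t'_three hF hG h
  obtain ⟨c, -, hc⟩ := S.a_conj_t' hF h
  have ha : IsConj S.a S.t' := isConj_iff.2 ⟨c, hc⟩
  obtain ⟨x, hx, hne, hx'⟩ := S.exists_fused hF hG
  rcases S.conj_class hF hx hx' hne with hs | ⟨d, -, e⟩ | ⟨d, -, e⟩
  · obtain ⟨d, -, e⟩ := S.sw_conj_ts h hs (S.sq_of_conj hx')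
    exact (hx'.trans (isConj_iff.2 ⟨d, e⟩)).trans ((S.sw_conj_a hF hs hx').symm.trans ha)
  · exact hx'.trans (isConj_iff.2 ⟨d, e⟩)
  · exact hx'.trans ((isConj_iff.2 ⟨d, e⟩).trans ha)
theorem exists_swap (hF : Fq F) (hG : ∀ H : Subgroup G, H.index ≠ 2) :
    ∃ g, g * S.t * g⁻¹ = S.t' ∧ g * S.t' * g⁻¹ = S.t := by
  obtain ⟨h, hh⟩ := isConj_iff.1 (S.conj_t' hF hG).symm
  have hc : Commute S.t S.t' := comm_T (S.Z_le_T S.t_mem_Z) S.t'_mem_T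
  have hN : h * S.t * h⁻¹ ∈ S.N := S.nsw_symm hF (g := 1) (by simp) hh hc (by simpa using S.T_le_N S.t'_mem_T)
  obtain ⟨c, hc, e⟩ : ∃ c ∈ S.N, c * (h * S.t * h⁻¹) * c⁻¹ = S.t' := by
    rcases S.conj_class hF (S.N_le_C hN) (isConj_iff.2 ⟨h, rfl⟩) (fun e => S.t'_ne_t hF.two_ne
      ((MulAut.conj h).injective (hh.trans e.symm))) with k | k | k
    · exact absurd hN k.not_mem_N
    · exact k
    · by_cases h : IsSquare (-1 : F)
      · exact conj_trans k (conj_trans ⟨1, S.N.one_mem, by simp⟩ (S.a_conj_t' hF h))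
      · obtain ⟨c, -, e⟩ := k
        exact absurd ((isConj_iff.2 ⟨_, rfl⟩).trans (isConj_iff.2 ⟨c, e⟩)) (S.not_conj_a hF hG h)
  refine ⟨c * h, by rw [← e]; group, ?_⟩
  rw [← mul_inv_eq_iff_eq_mul.2 (S.mem_C_iff.1 (S.N_le_C hc)).eq]
  nth_rw 1 [← hh]; group
theorem conj_of_five (hF : Fq F) (hG : ∀ H : Subgroup G, H.index ≠ 2) (h : IsSquare (-1 : F))
    (h4 : ¬ ∃ α : F, α ^ 4 = -1) {x : G} (h2 : x * x = 1) (h1 : x ≠ 1) : ∃ k, k * x * k⁻¹ = S.t := by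
  obtain ⟨g, hg⟩ := S.sw_fused hF hG h2
  have h' := (S.conj_t' hF hG).symm
  refine isConj_iff.1 ((isConj_iff.2 ⟨g, rfl⟩).trans ?_)
  by_cases ht : g * x * g⁻¹ = S.t
  · rw [ht]
  rcases S.inv_class hF (S.N_le_C hg) (Holt.conj_sq_one h2 g) (fun e => h1 (conj_eq_one_iff.1 e)) ht with
    k | k | ⟨c, -, e⟩ | ⟨c, -, e⟩
  · exact absurd hg k.not_mem_N
  · exact absurd k.1 h4
  · exact (isConj_iff.2 ⟨c, e⟩).trans h'
  · obtain ⟨d, -, e'⟩ := S.a_conj_t' hF h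
    exact (isConj_iff.2 ⟨c, e⟩).trans ((isConj_iff.2 ⟨d, e'⟩).trans h')
omit [Fintype F] [Finite G] in
theorem exists_sw_comm {τ : G} (hτ : τ ∈ S.T) (h : τ * S.a * (τ * S.a) = 1) :
    ∃ s ∈ S.Q, S.Sw s ∧ s * s = 1 ∧ Commute (τ * S.a) s := by
  obtain ⟨a, b, c, d, e, rfl⟩ := S.mem_T.1 hτ
  have ha : a ≠ 0 := by rintro rfl; simp at e
  have hc : c ≠ 0 := by rintro rfl; simp at e
  have e1 : a * b = c * d := by
    have := S.a_dg a b c d e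
    rw [inv_eq_of_mul_eq_one_right S.a_sq] at this
    rw [mul_assoc, ← mul_assoc S.a, this, dg_mul, S.one_dg, dg_eq] at h
    obtain ⟨l, h1, -, h2, -⟩ := h
    exact h1.trans h2.symm
  have e2 : a / c * 1 * (c / a * 1) = 1 := by field_simp
  refine ⟨S.κ (Dl.dg (a / c) 1 (c / a) 1 e2) * S.w, S.Q.mul_mem (S.T_le_Q (S.κ_mem_T.2 (Dl.dg_mem ..))) S.w_mem_Q,
    ⟨_, rfl⟩, ?_, ?_⟩
  · have := S.w_dg _ _ _ _ e2
    rw [w_inv] at this
    rw [mul_assoc, ← mul_assoc S.w, this, dg_mul, S.one_dg, dg_eq]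
    exact ⟨1, by field_simp, by ring, by field_simp, by ring⟩
  · have k1 := mul_inv_eq_iff_eq_mul.1 (S.a_dg _ _ _ _ e2)
    have k2 := mul_inv_eq_iff_eq_mul.1 (S.w_dg _ _ _ _ e)
    change _ * _ = _ * _
    rw [mul_assoc, ← mul_assoc S.a, k1, mul_assoc _ S.w, ← mul_assoc S.w, k2, mul_assoc _ S.a, mul_assoc _ S.w,
      ← mul_assoc _ _ (S.a * S.w), ← mul_assoc _ _ (S.w * S.a), dg_mul, dg_mul, S.a_comm_w.eq]
    congr 1
    rw [dg_eq]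
    exact ⟨1, by field_simp, by field_simp; linear_combination e1, by field_simp,
      by field_simp; linear_combination -e1⟩
omit [Fintype F] [Finite G] in
theorem rank_three (h0 : (2 : F) ≠ 0) (h4 : ¬ ∃ α : F, α ^ 4 = -1) {m x y : G}
    (hm : ∀ v, v = S.t ∨ v = S.t' → m⁻¹ * v * m ∈ S.T ∧ Commute (m⁻¹ * v * m) x ∧ Commute (m⁻¹ * v * m) y)
    (hx : m * x * m⁻¹ ∈ S.N) (hy : m * y * m⁻¹ ∈ S.N) (xx : x * x = 1) (yy : y * y = 1) (xy : Commute x y) :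
    x ∈ S.T ∨ y ∈ S.T ∨ x * y ∈ S.T := by
  have key : ∀ z : G, z * z = 1 → m * z * m⁻¹ ∈ S.T → z ∈ S.T := fun z hz h => by
    have e : z = m⁻¹ * (m * z * m⁻¹) * m := by group
    rcases S.inv_T h4 h (Holt.conj_sq_one hz m) with k | k | k | k <;> rw [e, k]
    · simp
    · exact (hm _ (Or.inl rfl)).1
    · exact (hm _ (Or.inr rfl)).1
    · simpa [mul_assoc] using S.T.mul_mem (hm _ (Or.inl rfl)).1 (hm _ (Or.inr rfl)).1
  obtain ⟨τ, hτ, e | e⟩ := S.mem_NV h0 hx (by simpa [mul_assoc] using (hm _ (Or.inr rfl)).2.1.symm.conj m)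
  · exact Or.inl (key x xx (e ▸ hτ))
  obtain ⟨σ, hσ, e' | e'⟩ := S.mem_NV h0 hy (by simpa [mul_assoc] using (hm _ (Or.inr rfl)).2.2.symm.conj m)
  · exact Or.inr (Or.inl (key y yy (e' ▸ hσ)))
  refine Or.inr (Or.inr (key _ (by rw [xy.symm.mul_mul_mul_comm, xx, yy, mul_one]) ?_))
  rw [← conj_mul, e, e']
  have := S.T.mul_mem hτ (S.conj_T S.a_mem_normalizer hσ)
  rwa [inv_eq_of_mul_eq_one_right S.a_sq, ← mul_assoc, ← mul_assoc, mul_assoc (τ * S.a)] at this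
/-- `q ≡ 5 mod 8`: an involution of `a T` is a swap in `C(t')` -/
theorem five_key (hF : Fq F) (hG : ∀ H : Subgroup G, H.index ≠ 2) (h : IsSquare (-1 : F))
    (h4 : ¬ ∃ α : F, α ^ 4 = -1) {g : G} (h1 : g * S.t * g⁻¹ = S.t') (h2 : g * S.t' * g⁻¹ = S.t) {τ : G}
    (hτ : τ ∈ S.T) (hf : τ * S.a * (τ * S.a) = 1) : g * (τ * S.a) * g⁻¹ ∉ S.N := fun hN => by
  obtain ⟨s, hsQ, hs, hss, hc⟩ := S.exists_sw_comm hτ hf
  have fN : τ * S.a ∈ S.N := S.N.mul_mem (S.T_le_N hτ) (S.K_le_N S.a_mem_K)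
  have fT : τ * S.a ∉ S.T := fun k => S.a_not_mem_T ((S.T.mul_mem_cancel_left hτ).1 k)
  have fQ := S.mem_Q.1 (S.Q.mul_mem (S.T_le_Q hτ) S.a_mem_Q)
  have sQ := S.mem_Q.1 hsQ
  generalize τ * S.a = f at *
  obtain ⟨k, hk⟩ := S.conj_of_five hF hG h h4 hss fun e => hs.not_mem_N (e ▸ S.N.one_mem)
  obtain ⟨j, hj⟩ := S.conj_of_five hF hG h h4 hf fun e => fT (e ▸ S.T.one_mem)
  have ht := S.Z_le_T S.t_mem_Z
  have fin : ¬ (f ∈ S.T ∨ s ∈ S.T ∨ f * s ∈ S.T) := by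
    rintro (k | k | k)
    exacts [fT k, hs.not_mem_N (S.T_le_N k), (hs.N_mul fN).not_mem_N (S.T_le_N k)]
  have st : S.Sw (k * S.t * k⁻¹) := S.pair hF (g := 1) (by simp) hk sQ.1.symm (by simpa using hs)
  rcases S.mem_C.1 (S.mem_C_iff.2 (hk ▸ sQ.2.symm.conj k)) with k1 | k1
  · refine fin (S.rank_three hF.two_ne h4 (m := g) ?_ hN (S.nsw_symm hF hk h2 sQ.2 k1) hf hss hc)
    rintro v (rfl | rfl)
    · rw [show g⁻¹ * S.t * g = S.t' by simpa using inv_swap h2]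
      exact ⟨S.t'_mem_T, fQ.2.symm, sQ.2.symm⟩
    · rw [show g⁻¹ * S.t' * g = S.t by simpa using inv_swap h1]
      exact ⟨ht, fQ.1.symm, sQ.1.symm⟩
  · have e : g * (S.f1 nn)⁻¹ * (S.t * S.t') * (g * (S.f1 nn)⁻¹)⁻¹ = S.t := by rw [← S.n1_t', ← h2]; group
    have j1 : j * S.t * j⁻¹ ∈ S.N := S.nsw_symm hF (g := 1) (by simp) hj fQ.1.symm (by simpa using fN)
    have j2 : j * S.t' * j⁻¹ ∈ S.N := S.nsw_symm hF h2 hj fQ.2.symm hN
    refine fin (S.rank_three hF.two_ne h4 (m := g * (S.f1 nn)⁻¹) ?_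
      (S.nsw_symm hF hj e (fQ.1.mul_right fQ.2) (by rw [← conj_mul]; exact S.N.mul_mem j1 j2))
      (S.nsw_symm hF hk e (sQ.1.mul_right sQ.2) (by rw [← conj_mul]; exact st.mul_sw k1)) hf hss hc)
    rintro v (rfl | rfl)
    · rw [show (g * (S.f1 nn)⁻¹)⁻¹ * S.t * (g * (S.f1 nn)⁻¹) = S.t * S.t' by simpa using inv_swap e]
      exact ⟨S.T.mul_mem ht S.t'_mem_T, fQ.1.symm.mul_left fQ.2.symm, sQ.1.symm.mul_left sQ.2.symm⟩
    · rw [show (g * (S.f1 nn)⁻¹)⁻¹ * S.t' * (g * (S.f1 nn)⁻¹) = S.t by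
        rw [← h1]; nth_rw 2 [← S.n1_t]; group]
      exact ⟨ht, fQ.1.symm, sQ.1.symm⟩

/-- any element exchanging `t` and `t'` will do -/
theorem fu_of_swap (hF : Fq F) (hG : ∀ H : Subgroup G, H.index ≠ 2) {g : G} (h1 : g * S.t * g⁻¹ = S.t')
    (h2 : g * S.t' * g⁻¹ = S.t) : S.Fu g := by
  have h0 := hF.two_ne
  have aN := S.K_le_N S.a_mem_K
  suffices h : g ∈ Subgroup.normalizer (S.T : Set G) ∧ g * S.a * g⁻¹ ∉ S.N from
    ⟨h1, h2, h.1, (S.mem_C.1 (S.conj_Q h1 h2 S.a_mem_Q).1).resolve_left h.2, S.not_conj_a hF hG⟩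
  by_cases h : IsSquare (-1 : F)
  · by_cases h4 : ∃ α : F, α ^ 4 = -1
    · obtain ⟨α, hα⟩ := h4
      have α0 : α ≠ 0 := by rintro rfl; simp at hα
      have hn := S.norm_T_of_four h0 h1 h2 α0 (hα ▸ neg_one_ne h0)
      refine ⟨hn, fun hN => ?_⟩
      have e : α * α * (α⁻¹ * α⁻¹) = 1 := by field_simp
      have hc : Commute S.a (S.κ (Dl.dg α α α⁻¹ α⁻¹ e)) := mul_inv_eq_iff_eq_mul.1 (S.a_dg _ _ _ _ e)
      have hsq : S.κ (Dl.dg α α α⁻¹ α⁻¹ e) * S.κ (Dl.dg α α α⁻¹ α⁻¹ e) = S.t := by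
        rw [dg_mul, t_dg, dg_eq]
        refine ⟨-(α * α), by ring, by ring, ?_, ?_⟩ <;> field_simp <;> linear_combination hα
      have hT := S.conj_T hn (S.κ_mem_T.2 (Dl.dg_mem _ _ _ _ e))
      have hc' := hc.conj g
      obtain ⟨τ, hτ, k | k⟩ := S.mem_NV h0 hN (S.mem_Q.1 (S.conj_Q h1 h2 S.a_mem_Q)).2
      · exact S.a_not_mem_T ((Subgroup.mem_normalizer_iff.1 hn _).2 (k ▸ hτ))
      have hc'' := (comm_T (S.T.inv_mem hτ) hT).mul_left (k ▸ hc')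
      rw [inv_mul_cancel_left] at hc''
      have hsq' := congrArg (fun x => g * x * g⁻¹) hsq
      simp only [← conj_mul, h1] at hsq'
      obtain ⟨a, b, c, d, e', k'⟩ := S.mem_T.1 hT
      rw [k'] at hc'' hsq'
      have := mul_inv_eq_iff_eq_mul.2 hc''.eq
      rw [a_dg, dg_eq] at this
      rw [dg_mul, t', dg_eq] at hsq'
      obtain ⟨l, l1, l2, -⟩ := this
      obtain ⟨m, m1, m2, -⟩ := hsq'
      have : 2 * (a * a) = 0 := by linear_combination m1 + m2 + a * l2 - b * l1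
      have ha : a = 0 := by simpa [h0] using this
      simp [ha] at e'
    · have key : ∀ τ ∈ S.T, τ * S.a * (τ * S.a) = 1 → S.Sw (g * (τ * S.a) * g⁻¹) := fun τ hτ hf =>
        (S.mem_C.1 (S.conj_Q h1 h2 (S.Q.mul_mem (S.T_le_Q hτ) S.a_mem_Q)).1).resolve_left
          (S.five_key hF hG h h4 h1 h2 hτ hf)
      have k1 := key 1 S.T.one_mem (by simpa using S.a_sq)
      rw [one_mul] at k1
      refine ⟨?_, k1.not_mem_N⟩
      obtain ⟨i, hi⟩ := h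
      have i0 : i ≠ 0 := by rintro rfl; simp at hi
      have hT := S.hd_mem_T i i0
      have k2 := key _ hT (by
        have := S.a_dg i i⁻¹ 1 1 (by simp [i0])
        rw [inv_eq_of_mul_eq_one_right S.a_sq] at this
        rw [mul_assoc, ← mul_assoc S.a, hd_dg, this, dg_mul, S.one_dg, dg_eq]
        exact ⟨1, by simp [i0]⟩)
      have k3 := k2.mul_sw k1
      rw [conj_mul, mul_assoc _ S.a, a_sq, mul_one] at k3
      refine S.norm_T_of h0 h1 h2 i0 (fun e => neg_one_ne h0 (by linear_combination e + hi)) ?_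
      obtain ⟨τ, hτ, k | k⟩ := S.mem_NV h0 k3 (S.mem_Q.1 (S.conj_Q h1 h2 (S.T_le_Q hT))).2
      · exact k ▸ hτ
      · exfalso
        have e : g * S.f1 (hd i i0) * g⁻¹ * (g * S.f1 (hd i i0) * g⁻¹) = S.t' := by
          rw [conj_mul, ← h1, ← map_mul]
          refine congrArg (fun X => g * S.f1 X * g⁻¹) (s2_ext ?_)
          rw [s2_mul]; simp [hd_coe, eq2, ← hi]; field_simp; linear_combination -hi
        obtain ⟨a, b, c, d, e', rfl⟩ := S.mem_T.1 hτ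
        have := S.a_dg a b c d e'
        rw [inv_eq_of_mul_eq_one_right S.a_sq] at this
        rw [k, mul_assoc, ← mul_assoc S.a, this, dg_mul, t', dg_eq] at e
        obtain ⟨l, l1, l2, -⟩ := e
        have : 2 * (a * b) = 0 := by linear_combination l1 + l2
        have ha : a * b = 0 := by simpa only [h0, mul_eq_zero, false_or] using this
        simp [ha] at e'
  · obtain ⟨l, hl, hl'⟩ := hF.exists_sq_ne
    refine ⟨S.norm_T_of_four h0 h1 h2 hl fun e => ?_, fun hN => S.t'_not_mem_K h ?_⟩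
    · rcases mul_self_eq_one_iff.1 (show l ^ 2 * l ^ 2 = 1 by linear_combination e) with k | k
      exacts [hl' k, h ⟨l, by linear_combination -k⟩]
    have na := S.not_conj_a hF hG h
    have key : ∀ x ∈ S.N, IsConj S.a x → x ∈ S.K := fun x hx hc => by
      obtain ⟨c, rfl⟩ := isConj_iff.1 hc
      rcases S.inv_class hF (S.N_le_C hx) (Holt.conj_sq_one S.a_sq c)
        (fun e => S.a_not_mem_T (conj_eq_one_iff.1 e ▸ S.T.one_mem)) (fun e => na (e ▸ hc.symm)) with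
        k | ⟨⟨α, k⟩, -⟩ | ⟨d, -, e⟩ | ⟨d, hd, e⟩
      · exact absurd hx k.not_mem_N
      · exact absurd ⟨α ^ 2, by linear_combination -k⟩ h
      · exact absurd ((isConj_iff.2 ⟨g, h1⟩).trans (hc.trans (isConj_iff.2 ⟨d, e⟩)).symm) na
      · have := conj_mem_K S.a_mem_K (S.N_le_C (S.N.inv_mem hd))
        rwa [inv_swap e] at this
    obtain ⟨c, -, e⟩ := S.at_conj hF
    have k1 := key _ hN (isConj_iff.2 ⟨g, rfl⟩)
    have k2 := key _ (S.N.mul_mem (S.T_le_N S.t'_mem_T) hN)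
      ((isConj_iff.2 ⟨c, e⟩).trans (isConj_iff.2 ⟨g, by rw [← conj_mul, h1]⟩))
    exact (S.K.mul_mem_cancel_right k1).1 k2

theorem conj_conj' {W : Type*} [Group W] (u n x : W) :
    u * n * u⁻¹ * (u * x * u⁻¹) * (u * n * u⁻¹)⁻¹ = u * (n * x * n⁻¹) * u⁻¹ := by group
theorem weyl_aux {W : Type*} [Group W] {A B M V X : W} (hA : A * A = 1) (h1 : M * A * M⁻¹ = A)
    (h2 : M * B * M⁻¹ = A * B) (h3 : V * A * V⁻¹ = B) (h4 : V * B * V⁻¹ = A) (hc : Commute A B) (A1 : A ≠ 1)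
    (B1 : B ≠ 1) (hX : M * (V * X * V⁻¹) * M⁻¹ = X) (h : X = 1 ∨ X = A ∨ X = B ∨ X = A * B) : X = 1 := by
  rcases h with h | rfl | rfl | rfl
  · exact h
  · rw [h3, h2] at hX
    exact absurd (mul_eq_left.1 hX) B1
  · rw [h4, h1] at hX
    rw [← hX, h1] at h2
    exact absurd (h2.trans hA) A1
  · rw [show V * (A * B) * V⁻¹ = B * A by rw [← conj_mul, h3, h4], ← conj_mul, h1, h2, hc.eq, mul_assoc, hA,
      mul_one] at hX
    exact absurd (mul_eq_left.1 hX.symm) A1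

/-- the Weyl group -/
abbrev Wl := Subgroup.normalizer (S.T : Set G) ⧸ S.T.subgroupOf (Subgroup.normalizer (S.T : Set G))
/-- the image in the Weyl group -/
def wl (g : G) (hg : g ∈ Subgroup.normalizer (S.T : Set G)) : S.Wl := QuotientGroup.mk ⟨g, hg⟩

omit [Fintype F] [Finite G] in
theorem wl_mul {g h : G} (hg : g ∈ Subgroup.normalizer (S.T : Set G)) (hh : h ∈ Subgroup.normalizer (S.T : Set G)) :
    S.wl g hg * S.wl h hh = S.wl (g * h) (Subgroup.mul_mem _ hg hh) := rfl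
omit [Fintype F] [Finite G] in
theorem wl_inv {g : G} (hg : g ∈ Subgroup.normalizer (S.T : Set G)) :
    (S.wl g hg)⁻¹ = S.wl g⁻¹ (Subgroup.inv_mem _ hg) := rfl
omit [Fintype F] [Finite G] in
theorem wl_eq {g h : G} {hg : g ∈ Subgroup.normalizer (S.T : Set G)} {hh : h ∈ Subgroup.normalizer (S.T : Set G)} :
    S.wl g hg = S.wl h hh ↔ g⁻¹ * h ∈ S.T := QuotientGroup.eq
omit [Fintype F] [Finite G] in
theorem wl_eq_one {g : G} {hg : g ∈ Subgroup.normalizer (S.T : Set G)} : S.wl g hg = 1 ↔ g ∈ S.T :=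
  QuotientGroup.eq_one_iff _
omit [Fintype F] [Finite G] in
theorem wl_congr {g h : G} {hg : g ∈ Subgroup.normalizer (S.T : Set G)} (hh : h ∈ Subgroup.normalizer (S.T : Set G))
    {τ : G} (hτ : τ ∈ S.T) (e : g = τ * h) : S.wl g hg = S.wl h hh := by
  subst e
  rw [← S.wl_mul (Subgroup.le_normalizer hτ) hh, S.wl_eq_one.2 hτ, one_mul]
omit [Fintype F] [Finite G] in
theorem braid (h0 : (2 : F) ≠ 0) {ν m : G} (hν : S.Fu ν) (hνν : ν * ν ∈ S.T)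
    (hm : m ∈ Subgroup.normalizer (S.T : Set G)) (hmm : m * m ∈ S.T) (m1 : m * S.t * m⁻¹ = S.t)
    (m2 : m * S.t' * m⁻¹ = S.t * S.t') (m3 : m * S.a * m⁻¹ = S.a) (m4 : m * S.w * m⁻¹ = S.t * (S.a * S.w)) :
    S.wl m hm * S.wl ν hν.nT * S.wl m hm = S.wl ν hν.nT * S.wl m hm * S.wl ν hν.nT := by
  have na := S.a_mem_normalizer
  have nw := S.w_mem_normalizer
  have hM : S.wl m hm * S.wl m hm = 1 := S.wl_eq_one.2 hmm
  have hV : S.wl ν hν.nT * S.wl ν hν.nT = 1 := S.wl_eq_one.2 hνν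
  have hA : S.wl _ na * S.wl _ na = 1 := S.wl_eq_one.2 (S.a_sq ▸ S.T.one_mem)
  have hc : Commute (S.wl _ na) (S.wl _ nw) := S.wl_congr _ S.T.one_mem (by rw [one_mul, S.a_comm_w.eq])
  have k1 : S.wl m hm * S.wl _ na * (S.wl m hm)⁻¹ = S.wl _ na := S.wl_congr _ S.T.one_mem (m3.trans (one_mul _).symm)
  have k2 : S.wl m hm * S.wl _ nw * (S.wl m hm)⁻¹ = S.wl _ na * S.wl _ nw := S.wl_congr _ (S.Z_le_T S.t_mem_Z) m4
  have cl : ∀ x (hx : x ∈ Subgroup.normalizer (S.T : Set G)), x ∈ S.Q → S.wl x hx = 1 ∨ S.wl x hx = S.wl _ na ∨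
      S.wl x hx = S.wl _ nw ∨ S.wl x hx = S.wl _ na * S.wl _ nw := fun x hx hQ => by
    obtain ⟨τ, hτ, e | e | e | e⟩ := S.mem_CV h0 hQ.1 (S.mem_Q.1 hQ).2
    exacts [Or.inl (S.wl_eq_one.2 (e ▸ hτ)), Or.inr (Or.inl (S.wl_congr _ hτ e)),
      Or.inr (Or.inr (Or.inl (S.wl_congr _ hτ e))), Or.inr (Or.inr (Or.inr (S.wl_congr _ hτ (e.trans (mul_assoc ..)))))]
  have ct : Commute S.t S.t' := comm_T (S.Z_le_T S.t_mem_Z) S.t'_mem_T
  have u1 : m * ν * S.t * (m * ν)⁻¹ = S.t * S.t' := by rw [← m2, ← hν.tt]; group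
  have u2 : m * ν * S.t' * (m * ν)⁻¹ = S.t := by rw [← m1]; nth_rw 1 [← hν.tt']; group
  have u3 : m * ν * (S.t * S.t') * (m * ν)⁻¹ = S.t' := by
    rw [← conj_mul, u1, u2, ct.eq, mul_assoc, t_sq, mul_one]
  have hQ : m * ν * (m * ν) * (m * ν) ∈ S.Q := S.mem_Q.2 ⟨mul_inv_eq_iff_eq_mul.1 (by
      nth_rw 2 [← u2]; rw [← u3, ← u1]; group), mul_inv_eq_iff_eq_mul.1 (by nth_rw 2 [← u3]; rw [← u1, ← u2]; group)⟩
  have hB := cl _ (Subgroup.mul_mem _ (Subgroup.mul_mem _ hν.nT na) (Subgroup.inv_mem _ hν.nT))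
    (S.conj_Q hν.tt hν.tt' S.a_mem_Q)
  have hX := cl _ (Subgroup.mul_mem _ (Subgroup.mul_mem _ (Subgroup.mul_mem _ hm hν.nT)
    (Subgroup.mul_mem _ hm hν.nT)) (Subgroup.mul_mem _ hm hν.nT)) hQ
  have B1 : S.wl ν hν.nT * S.wl _ na * (S.wl ν hν.nT)⁻¹ ≠ 1 := fun e => hν.sw.not_mem_N (S.T_le_N (S.wl_eq_one.1 e))
  have B2 : S.wl ν hν.nT * S.wl _ na * (S.wl ν hν.nT)⁻¹ ≠ S.wl _ na := fun e => hν.sw.not_mem_N
    ((S.N.inv_mem_iff).1 ((S.N.mul_mem_cancel_right (S.K_le_N S.a_mem_K)).1 (S.T_le_N (S.wl_eq.1 e))))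
  have A1 : S.wl _ na ≠ 1 := fun e => S.a_not_mem_T (S.wl_eq_one.1 e)
  rw [← S.wl_mul (Subgroup.mul_mem _ hν.nT na) (Subgroup.inv_mem _ hν.nT), ← S.wl_mul hν.nT na,
    ← S.wl_inv hν.nT] at hB
  rw [← S.wl_mul (Subgroup.mul_mem _ (Subgroup.mul_mem _ hm hν.nT) (Subgroup.mul_mem _ hm hν.nT))
    (Subgroup.mul_mem _ hm hν.nT), ← S.wl_mul (Subgroup.mul_mem _ hm hν.nT) (Subgroup.mul_mem _ hm hν.nT),
    ← S.wl_mul hm hν.nT] at hX
  generalize S.wl m hm = M at *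
  generalize S.wl ν hν.nT = V at *
  generalize S.wl _ na = A at *
  generalize S.wl _ nw = W at *
  have h4 : V * (V * A * V⁻¹) * V⁻¹ = A := by
    rw [inv_eq_of_mul_eq_one_right hV, ← mul_assoc, ← mul_assoc, hV, one_mul, mul_assoc, hV, mul_one]
  have : M * V * (M * V) * (M * V) = 1 := by
    rcases hB with e | e | e | e
    exacts [absurd e B1, absurd e B2, weyl_aux hA k1 k2 e (e ▸ h4) hc A1 (e ▸ B1) (by group) hX,
      weyl_aux (B := A * W) hA k1 (by rw [← conj_mul, k1, k2]) e (e ▸ h4) ((Commute.refl A).mul_right hc) A1 (e ▸ B1)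
        (by group) (by rwa [← mul_assoc A A, hA, one_mul, or_comm (a := _ = A * W)])]
  calc _ = M * V * M * (V * M * V) * (V * M * V)⁻¹ := by group
    _ = (V * M * V)⁻¹ := by rw [show M * V * M * (V * M * V) = 1 by simpa only [mul_assoc] using this, one_mul]
    _ = _ := by simp only [_root_.mul_inv_rev, inv_eq_of_mul_eq_one_right hV, inv_eq_of_mul_eq_one_right hM, mul_assoc]

end Su

theorem Su.exists_fu [Finite G] (S : Su F G) (hF : Fq F) (hG : ∀ H : Subgroup G, H.index ≠ 2) : ∃ ν, S.Fu ν :=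
  let ⟨g, h1, h2⟩ := S.exists_swap hF hG
  ⟨g, S.fu_of_swap hF hG h1 h2⟩

theorem Su.exists_fr [Finite G] (S : Su F G) (hF : Fq F) (hG : ∀ H : Subgroup G, H.index ≠ 2) : Nonempty S.Fr := by
  obtain ⟨g, h1, h2⟩ := S.exists_swap hF hG
  have ht := S.Z_le_T S.t_mem_Z
  have ct : Commute S.t S.t' := Su.comm_T ht S.t'_mem_T
  have n3 : S.f1 nn * (S.t * S.t') * (S.f1 nn)⁻¹ = S.t' := by
    rw [← conj_mul, S.n1_t, S.n1_t', ← mul_assoc, S.t_sq, one_mul]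
  have u1 : S.f1 nn * g * S.t * (S.f1 nn * g)⁻¹ = S.t * S.t' := by rw [← S.n1_t', ← h1]; group
  have u2 : S.f1 nn * g * S.t' * (S.f1 nn * g)⁻¹ = S.t := by rw [← S.n1_t]; nth_rw 1 [← h2]; group
  have u3 : S.f1 nn * g * (S.t * S.t') * (S.f1 nn * g)⁻¹ = S.t' := by
    rw [← conj_mul, u1, u2, ct.eq, mul_assoc, S.t_sq, mul_one]
  generalize S.f1 nn * g = u at u1 u2 u3
  have hν : S.Fu (u * S.f1 nn * u⁻¹) := S.fu_of_swap hF hG
    (by nth_rw 1 [← u2]; rw [Su.conj_conj', S.n1_t', u3]) (by nth_rw 1 [← u3]; rw [Su.conj_conj', n3, u2])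
  have hνν : u * S.f1 nn * u⁻¹ * (u * S.f1 nn * u⁻¹) ∈ S.T := by
    rw [conj_mul, ← map_mul, nn_sq]
    exact u1 ▸ S.T.mul_mem ht S.t'_mem_T
  generalize u * S.f1 nn * u⁻¹ = ν at hν hνν
  have s1 : S.f1 nn * S.f1 nn = S.t := by rw [← map_mul, nn_sq]; rfl
  have s2 : S.f2 nn * S.f2 nn = S.t := by rw [← map_mul, nn_sq, ← S.t_eq]
  have i0 : (nn : S2 F)⁻¹ = -1 * nn := by rw [inv_eq_iff_mul_eq_one, neg_one_mul, mul_neg, nn_sq, neg_neg]
  have w1 : ∀ X, S.w * S.f1 X = S.f2 X * S.w := fun X => by rw [← S.w_f1, mul_assoc _ S.w, S.ww, mul_one]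
  have w2 : ∀ X, S.w * S.f2 X = S.f1 X * S.w := fun X => by rw [← S.w_f2, mul_assoc _ S.w, S.ww, mul_one]
  have b1 := S.braid hF.two_ne hν hνν S.n1_mem_normalizer (s1 ▸ ht) S.n1_t S.n1_t'
    (mul_inv_eq_iff_eq_mul.2 ((Commute.refl _).mul_right (S.f1_comm _ _)).eq) (by
      rw [← map_inv, mul_assoc, w1, i0, map_mul, ← S.t_eq, ← mul_assoc, ← mul_assoc, mul_inv_eq_iff_eq_mul.1 S.n1_t,
        Su.a]; group)
  have b2 := S.braid hF.two_ne hν hνν S.n2_mem_normalizer (s2 ▸ ht) S.n2_t S.n2_t'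
    (mul_inv_eq_iff_eq_mul.2 ((S.f1_comm _ _).symm.mul_right (Commute.refl _)).eq) (by
      rw [← map_inv, mul_assoc, w2, i0, map_mul, ← mul_assoc, ← mul_assoc, show S.f1 (-1) = S.t from rfl,
        mul_inv_eq_iff_eq_mul.1 S.n2_t, Su.a, (S.f1_comm _ _).eq]; group)
  obtain ⟨φ, hφ⟩ := Sym.exists_hom_of_coxeter 3
    ![S.wl _ S.n1_mem_normalizer, S.wl _ hν.nT, S.wl _ S.n2_mem_normalizer]
    (fun i => by fin_cases i; exacts [S.wl_eq_one.2 (s1 ▸ ht), S.wl_eq_one.2 hνν, S.wl_eq_one.2 (s2 ▸ ht)])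
    (fun i j h => by fin_cases i <;> fin_cases j <;> simp at h; exacts [b1, b2.symm])
    (fun i j h => by
      fin_cases i <;> fin_cases j <;> simp at h
      exact S.wl_congr _ S.T.one_mem (by rw [one_mul, (S.f1_comm _ _).eq]))
  have hs : ∀ σ, ∃ x hx, S.wl x hx = φ σ := fun σ => by
    obtain ⟨x, hx⟩ := QuotientGroup.mk_surjective (φ σ)
    exact ⟨x.1, x.2, hx⟩
  choose r hr e using hs
  have e1 : ν⁻¹ * r (Equiv.swap 1 2) ∈ S.T := S.wl_eq.1 ((hφ 1).symm.trans (e _).symm)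
  refine ⟨⟨r, hr, fun σ ρ => S.wl_eq.1 (by rw [← S.wl_mul (hr σ) (hr ρ), e, e, e, map_mul]),
    S.wl_eq.1 ((hφ 0).symm.trans (e _).symm), S.wl_eq.1 ((hφ 2).symm.trans (e _).symm),
    S.fu_of_swap hF hG ?_ ?_⟩⟩
  · rw [← hν.tt]; nth_rw 2 [← mul_inv_eq_iff_eq_mul.2 (Su.comm_T e1 ht).eq]; group
  · rw [← hν.tt']; nth_rw 2 [← mul_inv_eq_iff_eq_mul.2 (Su.comm_T e1 S.t'_mem_T).eq]; group

end Cfsg.Agent.L4C
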