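import Mathlib
import Cfsg.Agent.L4C.Invol

/-!
# The results of `L4C/Invol` for all finite fields of odd order (the proofs are the same)
-/

set_option autoImplicit false

namespace Cfsg.Agent.L4C

open Matrix

variable {F : Type*} [Field F] [Fintype F] {G : Type*} [Group G]

/-- finite fields of odd order -/
structure Fo (F : Type*) [Field F] [Fintype F] : Prop where
  odd : Odd (Fintype.card F)

theorem Fo.char_ne_two (hF : Fo F) (p : ℕ) [CharP F p] : p ≠ 2 := by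
  rintro rfl
  have := FiniteField.even_card_of_char_two (F := F) (ringChar.eq F 2)
  have := Nat.odd_iff.1 hF.odd
  omega
theorem Fo.two_ne (hF : Fo F) : (2 : F) ≠ 0 := Ring.two_ne_zero (hF.char_ne_two (ringChar F))

theorem exists_sq_subO (hF : Fo F) {l : F} (hl : l ≠ 0) (d : F) : ∃ a b : F, a ^ 2 - l * b ^ 2 = d := by
  obtain ⟨a, b, h⟩ := FiniteField.exists_root_sum_quadratic (f := Polynomial.X ^ 2 - Polynomial.C d)
    (g := Polynomial.C (-l) * Polynomial.X ^ 2) (Polynomial.degree_X_pow_sub_C two_pos d)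
    (by rw [Polynomial.degree_C_mul_X_pow _ (neg_ne_zero.2 hl)]; rfl) (Nat.odd_iff.1 hF.odd)
  exact ⟨a, b, by simp at h; linear_combination h⟩

theorem exists_compO (hF : Fo F) {A : M2 F} {l : F} (hl : l ≠ 0) (h : A * A = l • (1 : M2 F))
    (hA : ¬ ∃ m : F, A = m • (1 : M2 F)) {d : F} :
    ∃ P : M2 F, P.det = d ∧ A * P = P * !![0, l; 1, 0] := by
  obtain ⟨h1, h2⟩ := det_of_sq h hA
  rw [det_fin_two, h1] at h2
  obtain ⟨P, hP, e⟩ : ∃ P : M2 F, P.det ≠ 0 ∧ A * P = P * !![0, l; 1, 0] := by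
    by_cases k1 : A 1 0 = 0
    · by_cases k2 : A 0 1 = 0
      · refine ⟨!![1, A 0 0; 1, A 1 1], ?_, ?_⟩
        · rw [det_fin_two]
          intro hc
          refine hA ⟨A 0 0, ?_⟩
          simp only [eq2, Matrix.smul_apply]
          simp at hc ⊢
          grind
        · simp only [eq2, mul2]; simp; grind
      · exact ⟨!![0, A 0 1; 1, A 1 1], by simpa [det_fin_two] using k2, by simp only [eq2, mul2]; simp; grind⟩
    · exact ⟨!![1, A 0 0; 0, A 1 0], by simpa [det_fin_two] using k1, by simp only [eq2, mul2]; simp; grind⟩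
  obtain ⟨a, b, hab⟩ := exists_sq_subO hF hl (d / P.det)
  refine ⟨P * !![a, l * b; b, a], ?_, ?_⟩
  · rw [det_mul, det_fin_two (!![a, l * b; b, a])]
    simp
    field_simp at hab
    linear_combination hab
  · rw [← Matrix.mul_assoc, e, Matrix.mul_assoc, Matrix.mul_assoc]
    congr 1
    simp [eq2, mul_comm]

namespace Su

variable (S : Su F G)

theorem conj_cmpO (hF : Fo F) {y : Dl F} {l : F} (h1 : y.A * y.A = l • (1 : M2 F)) (h2 : y.B * y.B = l • (1 : M2 F))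
    (hA : ¬ ∃ m : F, y.A = m • (1 : M2 F)) (hB : ¬ ∃ m : F, y.B = m • (1 : M2 F)) :
    ∃ h : l * l = 1, ∃ c ∈ S.K, c * S.κ y * c⁻¹ = S.κ (cmp l h) := by
  have hl : l * l = 1 := by
    have := y.h
    rw [(det_of_sq h1 hA).2, (det_of_sq h2 hB).2] at this
    linear_combination this
  have hl0 : l ≠ 0 := left_ne_zero_of_mul_eq_one hl
  obtain ⟨P, hP, e⟩ := exists_compO hF hl0 h1 hA (d := 1)
  obtain ⟨Q, hQ, e'⟩ := exists_compO hF hl0 h2 hB (d := 1)
  let c : Dl F := ⟨P, Q, by rw [hP, hQ, one_mul]⟩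
  refine ⟨hl, (S.κ c)⁻¹, S.K.inv_mem ⟨c, hP, rfl⟩, ?_⟩
  rw [inv_inv, mul_assoc, inv_mul_eq_iff_eq_mul, ← map_mul, ← map_mul]
  exact congrArg _ (Dl.ext e e')

theorem t'_conjO (hF : Fo F) : ∃ c ∈ S.K, c * S.t' * c⁻¹ = S.κ (cmp 1 (by ring)) := by
  have h2 := neg_one_ne hF.two_ne
  obtain ⟨_, h⟩ := S.conj_cmpO hF (y := Dl.dg (-1) 1 (-1) 1 (by ring)) (l := 1) (by simp [Dl.dg_A, eq2])
    (by simp [Dl.dg_B, eq2]) (by simp [Dl.dg_A, eq2]; grind) (by simp [Dl.dg_B, eq2]; grind)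
  exact h
theorem a_conjO (hF : Fo F) : ∃ c ∈ S.K, c * S.a * c⁻¹ = S.κ (cmp (-1) (by ring)) := by
  obtain ⟨_, h⟩ := S.conj_cmpO hF (y := ⟨(nn : S2 F).1, (nn : S2 F).1, by simp⟩) (l := -1) (by simp [nn_coe, eq2])
    (by simp [nn_coe, eq2]) (by simp [nn_coe, eq2]) (by simp [nn_coe, eq2])
  rwa [a, f12]
theorem conj_t'_of_sqO (hF : Fo F) {y : Dl F} (h1 : y.A * y.A = 1) (h2 : y.B * y.B = 1)
    (hA : ¬ ∃ m : F, y.A = m • (1 : M2 F)) (hB : ¬ ∃ m : F, y.B = m • (1 : M2 F)) :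
    ∃ c ∈ S.K, c * S.κ y * c⁻¹ = S.t' := by
  obtain ⟨_, h⟩ := S.conj_cmpO hF (l := 1) (by simpa using h1) (by simpa using h2) hA hB
  exact conj_trans h (S.t'_conjO hF)
theorem conj_a_of_sqO (hF : Fo F) {y : Dl F} (h1 : y.A * y.A = -1) (h2 : y.B * y.B = -1)
    (hA : ¬ ∃ m : F, y.A = m • (1 : M2 F)) (hB : ¬ ∃ m : F, y.B = m • (1 : M2 F)) :
    ∃ c ∈ S.K, c * S.κ y * c⁻¹ = S.a := by
  obtain ⟨_, h⟩ := S.conj_cmpO hF (l := -1) (by simpa using h1) (by simpa using h2) hA hB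
  exact conj_trans h (S.a_conjO hF)
/-- `p`-elements of `C` -/
theorem peltO (hF : Fo F) (p : ℕ) [Fact p.Prime] [CharP F p] {g : G} (hg : g ∈ S.C) {k : ℕ} (h : g ^ p ^ k = 1) :
    ∃ U V, Un U ∧ Un V ∧ g = S.f1 U * S.f2 V := by
  have hp : Odd p := (Fact.out : p.Prime).odd_of_ne_two (hF.char_ne_two p)
  obtain ⟨y, rfl⟩ := S.mem_N_of_odd hg (Odd.of_dvd_nat hp.pow (orderOf_dvd_of_pow_eq_one h))
  rw [← map_pow, S.ker] at h
  obtain ⟨l, h1, h2⟩ := h
  rw [Dl.pow_A] at h1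
  rw [Dl.pow_B] at h2
  have inj : Function.Injective (fun x : F => x ^ p ^ k) := (iterateFrobenius F p k).injective
  obtain ⟨m, rfl⟩ := Finite.injective_iff_surjective.1 inj l
  have hm : m ≠ 0 := by
    rintro rfl
    have := congrArg det h1
    simp [det_pow, zero_pow (pow_ne_zero k (Fact.out : p.Prime).ne_zero), y.detA_ne] at this
  have key : ∀ A : M2 F, A ^ p ^ k = m ^ p ^ k • (1 : M2 F) → ∃ U : S2 F, Un U ∧ A = m • U.1 := fun A hA => by
    have e : (m⁻¹ • A) ^ p ^ k = 1 := by rw [smul_pow, hA, smul_smul, ← mul_pow, inv_mul_cancel₀ hm]; simp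
    have d : (m⁻¹ • A).det = 1 := inj (by simpa [det_pow] using congrArg det e)
    exact ⟨⟨m⁻¹ • A, d⟩, un_of_pow p (k := k) (s2_ext e), by simp [smul_smul, hm]⟩
  obtain ⟨U, hU, e1⟩ := key _ h1
  obtain ⟨V, hV, e2⟩ := key _ h2
  exact ⟨U, V, hU, hV, by rw [f12, eq_iff]; exact ⟨m, e1, e2⟩⟩
theorem range_le_KO (hF : Fo F) (ψ : S2 F →* G) (h : ∀ X, ψ X ∈ S.C) (X : S2 F) : ψ X ∈ S.K := by
  obtain ⟨p, hp⟩ := CharP.exists F
  haveI : Fact p.Prime := ⟨CharP.char_is_prime F p⟩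
  have key : ∀ U : S2 F, Un U → U ∈ S.K.comap ψ := fun U hU => by
    obtain ⟨A, B, -, -, e⟩ := S.peltO hF p (h U) (k := 1) (by rw [pow_one, ← map_pow, hU.pow_char p, map_one])
    exact S.mem_K.2 ⟨A, B, e⟩
  have := sl2_eq_top (S.K.comap ψ) (fun a => key _ (un_xu a)) fun a => key _ (by
    rw [← neg_neg a, ← nn_xu]; exact (un_xu _).conj _)
  exact (this ▸ Subgroup.mem_top X : X ∈ S.K.comap ψ)
/-- the involutions of `C` -/
theorem inv_classO (hF : Fo F) {x : G} (hx : x ∈ S.C) (h2 : x * x = 1) (h1 : x ≠ 1) (ht : x ≠ S.t) :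
    S.Sw x ∨ ((∃ α : F, α ^ 4 = -1) ∧ ((∀ X, Commute x (S.f1 X)) ∨ ∀ X, Commute x (S.f2 X))) ∨
      (∃ c ∈ S.N, c * x * c⁻¹ = S.t') ∨ ∃ c ∈ S.N, c * x * c⁻¹ = S.a := by
  rcases S.mem_C.1 hx with ⟨y, rfl⟩ | h
  swap
  · exact Or.inl h
  right
  have h3 := h2
  rw [← map_mul, S.ker] at h3
  obtain ⟨l, k1, k2⟩ := h3
  rw [Dl.mul_A] at k1
  rw [Dl.mul_B] at k2
  by_cases hA : ∃ m : F, y.A = m • (1 : M2 F) <;> by_cases hB : ∃ m : F, y.B = m • (1 : M2 F)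
  · obtain ⟨a, ha⟩ := hA
    obtain ⟨b, hb⟩ := hB
    rcases S.eq_t_of_mem_Z ⟨y, ⟨a, b, ha, hb⟩, rfl⟩ h2 with h | h
    exacts [absurd h h1, absurd h ht]
  · obtain ⟨a, ha⟩ := hA
    refine Or.inl ⟨⟨a, ?_⟩, Or.inl fun X => S.comm_f1_iff.2 (by simp [ha])⟩
    have := y.h
    rw [(det_of_sq k2 hB).2, ha] at this
    simp [ha, eq2] at k1 this
    rw [← k1] at this
    linear_combination -this
  · obtain ⟨a, ha⟩ := hB
    refine Or.inl ⟨⟨a, ?_⟩, Or.inr fun X => S.comm_f2_iff.2 (by simp [ha])⟩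
    have := y.h
    rw [(det_of_sq k1 hA).2, ha] at this
    simp [ha, eq2] at k2 this
    rw [← k2] at this
    linear_combination -this
  · obtain ⟨hl, -⟩ := S.conj_cmpO hF k1 k2 hA hB
    rcases mul_self_eq_one_iff.1 hl with rfl | rfl
    · exact Or.inr (Or.inl (S.conj_N (S.conj_t'_of_sqO hF (by simpa using k1) (by simpa using k2) hA hB)))
    · exact Or.inr (Or.inr (S.conj_N (S.conj_a_of_sqO hF (by simpa using k1) (by simpa using k2) hA hB)))
theorem inv_class_K'O (hF : Fo F) {x : G} (hx : x ∈ S.K) (h2 : x * x = 1) (h1 : x ≠ 1) (ht : x ≠ S.t) :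
    ∃ c ∈ S.K, c * x * c⁻¹ = S.a := by
  obtain ⟨X, Y, rfl⟩ := S.mem_K.1 hx
  have e : S.f1 (X * X) * S.f2 (Y * Y) = S.f1 1 * S.f2 1 := by
    rw [map_mul, map_mul, map_one, map_one, one_mul, ← h2, (S.f1_comm X Y).mul_mul_mul_comm]
  have sq1 : ∀ X : S2 F, X * X = 1 → X = 1 ∨ X = -1 := fun X h => by
    by_contra hc
    have := (det_of_sq (A := X.1) (l := 1) (by simpa using congrArg Subtype.val h) fun ⟨m, hm⟩ =>
      hc (eq_of_scalar hm)).2
    exact neg_one_ne hF.two_ne (this.symm.trans X.2)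
  have ns : ∀ X : S2 F, X * X = -1 → ¬ ∃ m : F, X.1 = m • (1 : M2 F) := fun X h ⟨m, hm⟩ => by
    rcases eq_of_scalar hm with rfl | rfl <;>
      exact neg_one_ne hF.two_ne (by simpa using (congrArg (fun X : S2 F => X.1 0 0) h).symm)
  rcases S.f12_eq e with ⟨e1, e2⟩ | ⟨e1, e2⟩
  · exfalso
    rcases sq1 X e1 with rfl | rfl <;> rcases sq1 Y e2 with rfl | rfl
    · exact h1 (by simp)
    · exact ht (by rw [t_eq]; simp)
    · exact ht (by rw [t]; simp)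
    · exact h1 (by rw [← t_eq]; exact S.t_sq)
  · rw [f12]
    exact S.conj_a_of_sqO hF (congrArg Subtype.val e1) (congrArg Subtype.val e2) (ns X e1) (ns Y e2)
theorem inv_class_KO (hF : Fo F) {x : G} (hx : x ∈ S.K) (h2 : x * x = 1) (h1 : x ≠ 1) (ht : x ≠ S.t) :
    ∃ c ∈ S.N, c * x * c⁻¹ = S.a := S.conj_N (S.inv_class_K'O hF hx h2 h1 ht)
theorem at'_conjO (hF : Fo F) : ∃ c ∈ S.N, c * (S.a * S.t') * c⁻¹ = S.t' := by
  rw [a, f12, t', ← map_mul]
  refine S.conj_N (S.conj_t'_of_sqO hF ?_ ?_ ?_ ?_) <;> simp [Dl.mul_A, Dl.mul_B, Dl.dg_A, Dl.dg_B, nn_coe, eq2]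
theorem at_conjO (hF : Fo F) : ∃ c ∈ S.K, c * S.a * c⁻¹ = S.t * S.a := by
  have hc : Commute S.a S.t := S.mem_C_iff.1 (S.N_le_C (S.K_le_N S.a_mem_K))
  have ht := S.Z_le_T S.t_mem_Z
  refine conj_trans ⟨1, S.K.one_mem, by simp⟩ (S.inv_class_K'O hF (S.K.mul_mem S.t_mem_K S.a_mem_K) ?_
    (fun h => S.a_not_mem_T ?_) fun h => S.a_not_mem_T ?_)
  · rw [mul_assoc, ← mul_assoc S.a, hc.eq, mul_assoc, a_sq, mul_one, t_sq]
  · rw [eq_inv_of_mul_eq_one_right h]; exact S.T.inv_mem ht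
  · rw [mul_eq_left.1 h]; exact S.T.one_mem
theorem no_pelt_t'O (hF : Fo F) (p : ℕ) [Fact p.Prime] [CharP F p] {g : G} (hg : g ∈ S.C) {k : ℕ}
    (h : g ^ p ^ k = 1) (hc : Commute g S.t') : g = 1 := by
  obtain ⟨U, V, hU, hV, rfl⟩ := S.peltO hF p hg h
  obtain ⟨l, hl, h1, h2⟩ := S.comm_sign hc
  have h3 := hF.two_ne
  have key : ∀ U : S2 F, Un U → U.1 * !![-1, 0; 0, 1] = l • (!![-1, 0; 0, 1] * U.1) → U = 1 := fun U hU e => by
    have d := s2_det U
    rw [un_iff] at hU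
    simp only [eq2, mul2, Matrix.smul_apply] at e
    obtain ⟨e1, e2, e3, e4⟩ := e
    simp only [smul_eq_mul, of_apply, cons_val', cons_val_zero, cons_val_one, cons_val_fin_one] at e1 e2 e3 e4
    rcases hl with rfl | rfl
    · have k : U.1 1 0 = 0 := mul_left_cancel₀ h3 (by linear_combination -e3)
      have k' : U.1 0 1 = 0 := mul_left_cancel₀ h3 (by linear_combination e2)
      rw [(un_iff.2 hU).eq_xu k, k', xu_zero]
    · exact absurd (mul_left_cancel₀ h3 (by linear_combination -2 * hU - e1 + e4 : (2 : F) * 2 = 2 * 0)) h3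
  rw [key U hU h1, key V hV h2]; simp
theorem no_pelt_aO (hF : Fo F) (p : ℕ) [Fact p.Prime] [CharP F p] {g : G} (hg : g ∈ S.C) {k : ℕ}
    (h : g ^ p ^ k = 1) (hc : Commute g S.a) : g = 1 := by
  obtain ⟨U, V, hU, hV, rfl⟩ := S.peltO hF p hg h
  rw [a, S.f12 nn nn] at hc
  obtain ⟨l, hl, h1, h2⟩ := S.comm_sign hc
  have h3 := hF.two_ne
  have key : ∀ U : S2 F, Un U → U.1 * !![0, 1; -1, 0] = l • (!![0, 1; -1, 0] * U.1) → U = 1 := fun U hU e => by
    have d := s2_det U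
    rw [un_iff] at hU
    simp only [eq2, mul2, Matrix.smul_apply] at e
    obtain ⟨e1, e2, e3, e4⟩ := e
    simp only [smul_eq_mul, of_apply, cons_val', cons_val_zero, cons_val_one, cons_val_fin_one] at e1 e2 e3 e4
    rcases hl with rfl | rfl
    · have k0 : U.1 0 0 = 1 := mul_left_cancel₀ h3 (by linear_combination hU + e2)
      have k1 : U.1 1 1 = 1 := by linear_combination hU - k0
      have k : U.1 1 0 = 0 := by
        rw [k0, k1] at d
        exact mul_self_eq_zero.1 (by linear_combination d - U.1 1 0 * e1)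
      have k' : U.1 0 1 = 0 := by linear_combination -e1 - k
      rw [(un_iff.2 hU).eq_xu k, k', xu_zero]
    · exact absurd (by linear_combination e2 - hU) h3
  rw [key U hU h1, key V hV h2]; simp
theorem not_conj_auxO (hF : Fo F) {x : G} (ht : x ≠ S.t) (ψ : S2 F →* G) (hψ : Function.Injective ψ)
    (hm : ψ (-1) = S.t) (h : ∀ X, Commute x (ψ X)) : ¬ IsConj S.t x := by
  intro hc
  obtain ⟨g, hg⟩ := isConj_iff.1 hc.symm
  obtain ⟨p, hp⟩ := CharP.exists F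
  haveI : Fact p.Prime := ⟨CharP.char_is_prime F p⟩
  let φ : S2 F →* G := (MulAut.conj g).toMonoidHom.comp ψ
  have hC : ∀ X, φ X ∈ S.C := fun X => S.mem_C_iff.2 (by rw [← hg]; exact ((h X).symm.conj g))
  have hφ : Function.Injective φ := (MulAut.conj g).injective.comp hψ
  obtain ⟨c, hc, e⟩ := S.inv_class_KO hF (S.range_le_KO hF φ hC (-1)) (by rw [← map_mul]; simp)
    (fun e => S.t_ne hF.two_ne (by rw [← hm, hφ (e.trans (map_one φ).symm), map_one]))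
    (fun e => ht ((MulAut.conj g).injective (hg.trans (e.symm.trans (congrArg (MulAut.conj g) hm)))))
  have := S.no_pelt_conj hc e (hC (xu 1)) (n := p ^ 1) (by rw [pow_one, ← map_pow, (un_xu 1).pow_char p, map_one])
    (Commute.map (by simp) φ) fun g hg h1 h2 => S.no_pelt_aO hF p hg h1 h2
  exact (xu_ne one_ne_zero).1 (hφ (this.trans (map_one φ).symm))
theorem not_conj_uO (hF : Fo F) {x : G} (ht : x ≠ S.t)
    (h : (∀ X, Commute x (S.f1 X)) ∨ ∀ X, Commute x (S.f2 X)) : ¬ IsConj S.t x := by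
  rcases h with h | h
  · exact S.not_conj_auxO hF ht S.f1 S.f1_inj rfl h
  · exact S.not_conj_auxO hF ht S.f2 S.f2_inj S.t_eq.symm h
theorem ne_one_of_conjO (hF : Fo F) {x : G} (h : IsConj S.t x) : x ≠ 1 := by
  rintro rfl
  exact S.t_ne hF.two_ne (isConj_one_left.1 h)
/-- conjugates of `t` in `C` -/
theorem conj_classO (hF : Fo F) {x : G} (hx : x ∈ S.C) (h : IsConj S.t x) (ht : x ≠ S.t) :
    S.Sw x ∨ (∃ c ∈ S.N, c * x * c⁻¹ = S.t') ∨ ∃ c ∈ S.N, c * x * c⁻¹ = S.a := by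
  rcases S.inv_classO hF hx (S.sq_of_conj h) (S.ne_one_of_conjO hF h) ht with h1 | h1 | h1
  exacts [Or.inl h1, absurd h (S.not_conj_uO hF ht h1.2), Or.inr h1]

/-- being a swap is a symmetric relation between commuting conjugates of `t` -/
theorem pairO (hF : Fo F) {x y g h : G} (hg : g * x * g⁻¹ = S.t) (hh : h * y * h⁻¹ = S.t) (hc : Commute x y)
    (hs : S.Sw (g * y * g⁻¹)) : S.Sw (h * x * h⁻¹) := by
  obtain ⟨p, hp⟩ := CharP.exists F
  haveI : Fact p.Prime := ⟨CharP.char_is_prime F p⟩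
  have cx : IsConj S.t x := (isConj_iff.2 ⟨g, hg⟩).symm
  have cy : IsConj S.t y := (isConj_iff.2 ⟨h, hh⟩).symm
  obtain ⟨S', e1, e2, -, e4, -⟩ := S.rebase hs (by rw [conj_mul, S.sq_of_conj cy]; simp)
  let u := (h * g⁻¹) * S'.dJ (xu 1) * (h * g⁻¹)⁻¹
  have u1 : u ≠ 1 := fun e => by
    rcases S'.dJ_eq_one (conj_eq_one_iff.1 e) with e | e
    exacts [(xu_ne one_ne_zero).1 e, (xu_ne one_ne_zero).2 e]
  have up : u ^ p ^ 1 = 1 := by rw [pow_one, conj_pow, ← map_pow, (un_xu 1).pow_char p, map_one]; simp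
  have uC : u ∈ S.C := S.mem_C_iff.2 (by
    have := (S'.dJ_comm_w (xu 1)).conj (h * g⁻¹)
    rwa [e1, show h * g⁻¹ * (g * y * g⁻¹) * (h * g⁻¹)⁻¹ = h * y * h⁻¹ by group, hh] at this)
  have ux : Commute u (h * x * h⁻¹) := by
    have := (S'.mem_C_iff.1 (S'.N_le_C (S'.K_le_N (S'.dJ_mem_K (xu 1))))).conj (h * g⁻¹)
    rwa [S.t_of_f1 e2, ← hg, show h * g⁻¹ * (g * x * g⁻¹) * (h * g⁻¹)⁻¹ = h * x * h⁻¹ by group] at this
  have hne : h * x * h⁻¹ ≠ S.t := fun e => by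
    obtain rfl : x = y := (MulAut.conj h).injective (e.trans hh.symm)
    exact hs.not_mem_N (hg ▸ S.K_le_N S.t_mem_K)
  rcases S.conj_classO hF (x := h * x * h⁻¹) (S.mem_C_iff.2 (hh ▸ hc.conj h))
    (cx.trans (isConj_iff.2 ⟨h, rfl⟩)) hne with h1 | ⟨c, hc, e⟩ | ⟨c, hc, e⟩
  · exact h1
  · exact absurd (S.no_pelt_conj hc e uC up ux fun g hg h1 h2 => S.no_pelt_t'O hF p hg h1 h2) u1
  · exact absurd (S.no_pelt_conj hc e uC up ux fun g hg h1 h2 => S.no_pelt_aO hF p hg h1 h2) u1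
theorem sw_conj_aO (hF : Fo F) {s : G} (hs : S.Sw s) (h : IsConj S.t s) : IsConj S.a (S.t * s) := by
  obtain ⟨S', rfl, e2, -, e4, -⟩ := S.rebase hs (S.sq_of_conj h)
  obtain ⟨g, hg⟩ := isConj_iff.1 h.symm
  have et := S.t_of_f1 e2
  let φ : S2 F →* G := (MulAut.conj g).toMonoidHom.comp S'.dJ
  have hC : ∀ X, φ X ∈ S.C := fun X => S.mem_C_iff.2 (by rw [← hg]; exact ((S'.dJ_comm_w X).conj g))
  have hw : Commute S'.w S'.t := S'.mem_C_iff.1 S'.w_mem_C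
  have e : S'.f1 nn * (S'.t * S'.w) * (S'.f1 nn)⁻¹ = S'.dJ nn * S'.w := by
    have h1 : (S'.f1 nn)⁻¹ = S'.t * S'.f1 nn := by
      rw [inv_eq_iff_mul_eq_one, t, ← map_mul, ← map_mul, ← mul_assoc, mul_neg_one, neg_mul, nn_sq]; simp
    rw [h1, dJ_apply, ← w_f1, ← hw.eq]
    calc _ = S'.f1 nn * S'.w * (S'.t * S'.t) * S'.f1 nn * (S'.w * S'.w) := by rw [S'.ww]; group
      _ = _ := by rw [S'.t_sq]; group
  have e' : g * (S'.dJ nn * S'.w) * g⁻¹ = φ nn * S.t := by rw [← hg, ← conj_mul]; rfl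
  obtain ⟨c, -, hc⟩ := S.inv_class_KO hF (S.K.mul_mem (S.range_le_KO hF φ hC nn) S.t_mem_K)
    (by rw [← e', conj_mul, ← e, conj_mul, hw.mul_mul_mul_comm, S'.ww, S'.t_sq]; simp)
    (fun h => by
      rw [← e', conj_eq_one_iff] at h
      exact (S'.sw_w.N_mul (S'.K_le_N (S'.dJ_mem_K nn))).not_mem_N (h ▸ S'.N.one_mem))
    (fun h => by
      rcases S'.dJ_eq_one (conj_eq_one_iff.1 (mul_eq_right.1 h)) with h | h <;>
        simpa [nn_coe] using congrArg (fun X : S2 F => X.1 0 1) h)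
  rw [← et]
  exact (isConj_iff.2 ⟨c * g * S'.f1 nn, by rw [← hc, ← e', ← e]; group⟩).symm
theorem exists_q8O (hF : Fo F) : ∃ m : S2 F, m * m = -1 ∧ m * nn = -(nn * m) ∧
    ∀ A : M2 F, A * (nn : S2 F).1 = (nn : S2 F).1 * A → A * m.1 = m.1 * A → ∃ l : F, A = l • (1 : M2 F) := by
  obtain ⟨a, b, hab⟩ := exists_sq_subO hF (l := -1) (by simp) (-1)
  obtain ⟨m, hm⟩ : ∃ m : S2 F, m.1 = !![a, b; b, -a] :=
    ⟨⟨!![a, b; b, -a], by rw [det_fin_two_of]; linear_combination -hab⟩, rfl⟩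
  refine ⟨m, s2_ext ?_, s2_ext ?_, fun A h1 h2 => ⟨A 0 0, ?_⟩⟩
  · rw [s2_mul, s2_neg, s2_one, hm]
    simp only [eq2, mul2]; simp
    exact ⟨by linear_combination hab, by ring, by ring, by linear_combination hab⟩
  · rw [s2_mul, s2_neg, s2_mul, hm]
    simp [nn_coe, eq2]
  · simp only [hm, eq2, mul2, nn_coe, of_apply, cons_val', cons_val_zero, cons_val_one, cons_val_fin_one] at h1 h2
    obtain ⟨e1, e2, -, -⟩ := h1
    obtain ⟨k1, k2, -, -⟩ := h2
    have k : A 0 1 = 0 := mul_left_cancel₀ hF.two_ne (by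
      linear_combination 2 * A 0 1 * hab - b * k1 + a * k2 + b * b * e1 - a * b * e2)
    simp only [eq2, Matrix.smul_apply]
    simp [k]
    exact ⟨by linear_combination -e1 - k, by linear_combination -e2⟩
theorem odd_index_CO [Finite G] (hF : Fo F) : Odd S.C.index := by
  obtain ⟨m, h1, h2, h3⟩ := exists_q8O hF
  have p4 : ∀ X : S2 F, X * X = -1 → S.f1 X ^ 2 ^ 2 = 1 := fun X h => by
    rw [← map_pow, show X ^ 2 ^ 2 = X * X * (X * X) by simp [pow_succ, mul_assoc], h]; simp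
  have hQ : IsPGroup 2 (Subgroup.zpowers (S.f1 nn) ⊔ Subgroup.zpowers (S.f1 m) : Subgroup G) :=
    (isP_zpowers (p4 _ nn_sq)).to_sup_of_normal_left' (isP_zpowers (p4 _ h1)) (Subgroup.zpowers_le.2 (by
      have : S.f1 m * S.f1 nn * (S.f1 m)⁻¹ = (S.f1 nn)⁻¹ := by
        rw [← map_inv, ← map_mul, ← map_mul, h2, eq_inv_iff_mul_eq_one, ← map_mul, neg_mul, mul_inv_cancel_right,
          neg_mul, nn_sq]; simp
      refine Subgroup.mem_normalizer_fintype ?_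
      rintro _ ⟨k, rfl⟩
      rw [← conj_zpow, this]
      exact Subgroup.zpow_mem _ (Subgroup.inv_mem _ (Subgroup.mem_zpowers _)) k))
  have := odd_relIndex (L := ⊤) (t := S.t) trivial hQ (le_inf le_top (sup_le
    (Subgroup.zpowers_le.2 (S.N_le_C (S.K_le_N (S.f1_mem_K _))))
    (Subgroup.zpowers_le.2 (S.N_le_C (S.K_le_N (S.f1_mem_K _)))))) S.t_sq fun g _ hc hx => by
      have c1 := hx _ (Subgroup.mem_sup_left (Subgroup.mem_zpowers _))
      have c2 := hx _ (Subgroup.mem_sup_right (Subgroup.mem_zpowers _))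
      obtain ⟨y, hy⟩ := S.mem_N_of_comm (S.mem_C_iff.2 hc) (X := nn) (by
        constructor <;> intro h <;> simpa [nn_coe] using congrArg (fun X : S2 F => X.1 0 1) h) c1
      rw [← hy] at c1 c2
      obtain ⟨l, hl⟩ := h3 _ (S.comm_f1_iff.1 c1) (S.comm_f1_iff.1 c2)
      by_contra hne
      exact S.not_conj_uO hF hne (Or.inl fun X => hy ▸ S.comm_f1_iff.2 (by simp [hl])) (isConj_iff.2 ⟨g, rfl⟩)
  rwa [Subgroup.relIndex_top_right] at this
theorem exists_fusedO [Finite G] (hF : Fo F) (hG : ∀ H : Subgroup G, H.index ≠ 2) :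
    ∃ x ∈ S.C, x ≠ S.t ∧ IsConj S.t x := by
  by_contra hc
  push Not at hc
  have hz := Holt.zstar (Y := ⊤) (S.order_t hF.two_ne) trivial fun y _ h => by
    by_contra hne
    exact hc _ (S.mem_C_iff.2 h.symm) hne (isConj_iff.2 ⟨y, rfl⟩)
  haveI : (Holt.OO (⊤ : Subgroup G)).Normal :=
    Subgroup.normalizer_eq_top_iff.1 (top_le_iff.1 (GT.le_normalizer_pPrimeCoreOf _))
  refine hG (Holt.OO ⊤ ⊔ S.N) (Subgroup.index_eq_two_iff_exists_notMem_and.2 ⟨S.w, fun h => ?_, fun b => ?_⟩)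
  · obtain ⟨o, ho, n, hn, e⟩ := Subgroup.mem_sup_of_normal_left.1 h
    have hs : S.Sw o := by rw [eq_mul_inv_of_mul_eq e]; exact S.sw_w.mul_N (S.N.inv_mem hn)
    exact hs.not_mem_N (S.mem_N_of_odd hs.mem_C (Holt.odd_order_OO ho))
  · obtain ⟨o, ho, e⟩ := Holt.adj_left (fun o ho => Holt.odd_order_OO ho) S.t_sq (g := b)
      (by have := hz b trivial; rwa [commutatorElement_def, Holt.inv_eq_of_sq S.t_sq] at this)
    refine (S.N_or_mul_w (S.mem_C_iff.2 e)).imp (fun h => ?_) fun h => ?_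
    · simpa [mul_assoc] using Subgroup.mul_mem_sup ((Holt.OO ⊤).inv_mem ho) h
    · simpa [mul_assoc] using Subgroup.mul_mem_sup ((Holt.OO ⊤).inv_mem ho) h
theorem sw_fusedO [Finite G] (hF : Fo F) (hG : ∀ H : Subgroup G, H.index ≠ 2) {s : G} (h2 : s * s = 1) :
    ∃ g, g * s * g⁻¹ ∈ S.N := by
  rcases GT.Tr.thompson_transfer_index_two (H := S.C)
    (by rw [← even_iff_two_dvd, Nat.not_even_iff_odd]; exact S.odd_index_CO hF) S.relIndex_N
    (u := s) (by rw [pow_two, h2]) with ⟨M, -, h, -⟩ | h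
  exacts [absurd h (hG M), h]


end Su

end Cfsg.Agent.L4C
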