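import Mathlib
import Cfsg.Agent.L4C.InvO
import Cfsg.Agent.L4C.Fus
import Cfsg.Agent.W2.L43

/-!
# `L₄(3)` from an involution centraliser
-/

set_option autoImplicit false

namespace Cfsg.Agent.L4C

open Matrix

variable {F : Type*} [Field F] [Fintype F] {G : Type*} [Group G]

namespace Su

variable (S : Su F G)

omit [Fintype F] in
theorem sw_mul (x y : Dl F) : S.κ x * S.w * (S.κ y * S.w) = S.κ (x * Dl.swap y) := by
  rw [mul_assoc, ← mul_assoc S.w, wκw, map_mul]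
omit [Fintype F] in
theorem root_t (h2 : (2 : F) ≠ 0) (h : ¬ IsSquare (-1 : F)) {X : G} (hX : X ∈ S.C) (e : X * X = S.t) :
    ∃ A : S2 F, A * A = -1 ∧ (X = S.f1 A ∨ X = S.f2 A) := by
  have key : ∀ A B : M2 F, A.det * B.det = 1 → A * A = -1 → B * B = 1 →
      ∃ (U : S2 F) (m : F), U * U = -1 ∧ A = m • U.1 ∧ B = m • (1 : M2 F) := fun A B d h1 h3 => by
    have dA : A.det = 1 := by
      simpa using (det_of_sq (A := A) (l := -1) (by simpa using h1) fun ⟨m, hm⟩ => h ⟨m, by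
        simpa [hm] using (congrFun (congrFun h1 0) 0).symm⟩).2
    obtain ⟨m, hm⟩ : ∃ m : F, B = m • (1 : M2 F) := by
      by_contra hc
      rw [dA, (det_of_sq (l := 1) (by simpa using h3) hc).2, one_mul] at d
      exact neg_one_ne h2 d
    have hm2 : m * m = 1 := by simpa [hm] using congrFun (congrFun h3 0) 0
    refine ⟨⟨m • A, by rw [det_smul, dA]; simpa [pow_two] using hm2⟩, m, s2_ext ?_, by simp [smul_smul, hm2], hm⟩
    change m • A * m • A = -1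
    rw [smul_mul_smul_comm, hm2, one_smul, h1]
  rcases S.mem_C.1 hX with ⟨x, rfl⟩ | ⟨x, rfl⟩
  · obtain ⟨l, h1, h3⟩ := (S.eq_iff _ _).1 ((map_mul S.κ x x).trans e)
    rw [Dl.mul_A, Dl.inl_A] at h1
    rw [Dl.mul_B, Dl.inl_B] at h3
    have : l ^ 4 = 1 := by
      have k1 := congrArg det h1
      have k2 := congrArg det h3
      simp only [det_mul, det_smul, (-1 : S2 F).2, det_one, Fintype.card_fin, mul_one] at k1 k2
      linear_combination -l ^ 2 * k1 - x.A.det * x.A.det * k2 + (x.A.det * x.B.det + 1) * x.h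
    rcases sq_eq_one_iff.1 (sq_of_four3 h this) with rfl | rfl
    · obtain ⟨U, m, a, b, c⟩ := key _ _ x.h (by simpa using h1) (by simpa using h3)
      exact ⟨U, a, Or.inl ((S.eq_iff _ _).2 ⟨m, b, c⟩)⟩
    · obtain ⟨U, m, a, b, c⟩ := key x.B x.A (by rw [mul_comm, x.h]) (by simpa using h3) (by simpa using h1)
      exact ⟨U, a, Or.inr ((S.eq_iff _ _).2 ⟨m, c, b⟩)⟩
  · obtain ⟨l, h1, h3⟩ := (S.eq_iff _ _).1 ((S.sw_mul x x).symm.trans e)
    rw [Dl.mul_A, Dl.inl_A, Dl.swap_A] at h1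
    rw [Dl.mul_B, Dl.inl_B, Dl.swap_B] at h3
    have k : x.A * x.B * x.A = x.A * (x.B * x.A) := Matrix.mul_assoc ..
    rw [h1, h3] at k
    have k' := congrArg (· * x⁻¹.A) k
    simp [x.A_mul_inv, eq2] at k'
    have k2 := congrArg det h3
    rw [det_mul, mul_comm, x.h, show l = 0 from mul_left_cancel₀ h2 (by linear_combination -k')] at k2
    simp at k2
theorem nsw_symmO (hF : Fo F) {x y g h : G} (hg : g * x * g⁻¹ = S.t) (hh : h * y * h⁻¹ = S.t) (hc : Commute x y)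
    (hs : g * y * g⁻¹ ∈ S.N) : h * x * h⁻¹ ∈ S.N :=
  (S.mem_C.1 (S.mem_C_iff.2 (hh ▸ hc.conj h))).resolve_right fun k => (S.pairO hF hh hg hc.symm k).not_mem_N hs
theorem not_conj_aO (hF : Fo F) (h : ¬ IsSquare (-1 : F)) : ¬ IsConj S.t S.a := fun hc => by
  have h2 := hF.two_ne
  obtain ⟨g, hg⟩ := isConj_iff.1 hc.symm
  have hN : g * S.t * g⁻¹ ∈ S.N := S.nsw_symmO hF (g := 1) (by simp) hg S.a_t3.symm (by simpa using S.a_N3)
  have key : ∀ {k x : G}, k * S.a * k⁻¹ = S.t → x ∈ S.C → x * x = S.a → ∃ A : S2 F, A * A = -1 ∧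
      (k * x * k⁻¹ = S.f1 A ∨ k * x * k⁻¹ = S.f2 A) ∧ Commute (k * S.t * k⁻¹) (k * x * k⁻¹) := fun {k x} e hx xx => by
    have e' : k * x * k⁻¹ * (k * x * k⁻¹) = S.t := by rw [conj_mul, xx, e]
    obtain ⟨A, h1, h3⟩ := S.root_t h2 h (S.mem_C_iff.2 (e' ▸ (Commute.refl _).mul_right (Commute.refl _))) e'
    exact ⟨A, h1, h3, (S.mem_C_iff.1 hx).symm.conj k⟩
  have x1 : S.κ (Dl.inl nn) * S.w * (S.κ (Dl.inl nn) * S.w) = S.a := by rw [sw_mul, map_mul]; rfl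
  have adj : ∀ c ∈ S.N, c * g * S.a * (c * g)⁻¹ = S.t := fun c hc => by
    rw [← mul_inv_eq_iff_eq_mul.2 (S.mem_C_iff.1 (S.N_le_C hc)).eq]; nth_rw 1 [← hg]; group
  rcases S.conj_classO hF (S.N_le_C hN) (isConj_iff.2 ⟨g, rfl⟩) (fun e => S.a_ne3
    ((MulAut.conj g).injective (hg.trans e.symm))) with k | ⟨c, hc, e⟩ | ⟨c, hc, e⟩
  · exact k.not_mem_N hN
  · obtain ⟨A, h1, h3, h4⟩ := key (adj c hc) (Sw.mem_C ⟨_, rfl⟩) x1
    rw [show c * g * S.t * (c * g)⁻¹ = S.t' by rw [← e]; group] at h4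
    have : !![-1, 0; 0, 1] * A.1 = A.1 * !![-1, 0; 0, 1] := by
      rcases h3 with k | k <;> rw [k] at h4
      exacts [S.comm_f1_iff.1 h4, S.comm_f2_iff.1 h4]
    have k1 := congrFun (congrFun this 0) 1
    have k2 := congrArg (fun X : S2 F => X.1 0 0) h1
    simp only [s2_mul, mul2] at k1 k2
    simp at k1 k2
    exact h ⟨A.1 0 0, by rw [show A.1 0 1 = 0 from mul_left_cancel₀ h2 (by linear_combination -k1)] at k2
                         linear_combination -k2⟩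
  · have e1 : c * g * S.t * (c * g)⁻¹ = S.κ ⟨(nn : S2 F).1, (nn : S2 F).1, by simp⟩ := by
      rw [← S.f12, ← Su.a, ← e]; group
    have cl : ∀ x ∈ S.C, x * x = S.a → ∃ A : S2 F, (A = nn ∨ A = -nn) ∧
        (c * g * x * (c * g)⁻¹ = S.f1 A ∨ c * g * x * (c * g)⁻¹ = S.f2 A) := fun x hx xx => by
      obtain ⟨A, h1, h3, h4⟩ := key (adj c hc) hx xx
      refine ⟨A, ?_, h3⟩
      have : (nn : S2 F).1 * A.1 = A.1 * (nn : S2 F).1 := by
        rcases h3 with k | k <;> rw [k, e1] at h4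
        exacts [S.comm_f1_iff.1 h4, S.comm_f2_iff.1 h4]
      have k2 := congrArg Subtype.val h1
      rw [s2_mul] at k2
      simp only [eq2, mul2, nn_coe] at this k2
      simp at this k2
      obtain ⟨a1, a2, -⟩ := this
      obtain ⟨b1, b2, -⟩ := k2
      have c1 : A.1 0 0 = 0 := by
        by_contra hc
        have : A.1 0 1 = 0 := mul_left_cancel₀ (mul_ne_zero h2 hc) (by linear_combination b2 - A.1 0 1 * a2)
        exact h ⟨A.1 0 0, by rw [this] at b1; linear_combination -b1⟩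
      rcases mul_self_eq_one_iff.1 (show A.1 0 1 * A.1 0 1 = 1 by
        rw [c1] at b1; linear_combination -b1 + A.1 0 1 * a1) with k | k
      · exact Or.inl (s2_ext (by simp [eq2, nn_coe, c1, k, a1, a2]))
      · exact Or.inr (s2_ext (by simp [eq2, nn_coe, c1, k, a1, a2]))
    let y : Dl F := ⟨!![2⁻¹, 2⁻¹; -2⁻¹, 2⁻¹], !![1, 1; -1, 1], by simp [det_fin_two]; field_simp; norm_num⟩
    have x2 : S.κ y * S.w * (S.κ y * S.w) = S.a := by
      rw [sw_mul, Su.a, f12]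
      refine congrArg S.κ (Dl.ext ?_ ?_) <;> simp [Dl.mul_A, Dl.mul_B, Dl.swap_A, Dl.swap_B, y, nn_coe] <;>
        field_simp <;> norm_num
    obtain ⟨A, a1, a2⟩ := cl _ (Sw.mem_C ⟨_, rfl⟩) x1
    obtain ⟨B, b1, b2⟩ := cl _ (Sw.mem_C ⟨_, rfl⟩) x2
    have hAB : Commute A B := by rcases a1 with rfl | rfl <;> rcases b1 with rfl | rfl <;> simp
    have : Commute (S.κ (Dl.inl nn) * S.w) (S.κ y * S.w) := by
      rw [← Commute.conj_iff (c * g)]
      rcases a2 with k | k <;> rcases b2 with k' | k' <;> rw [k, k']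
      exacts [hAB.map _, S.f1_comm _ _, (S.f1_comm _ _).symm, hAB.map _]
    have := this.eq
    rw [sw_mul, sw_mul, eq_iff] at this
    obtain ⟨l, k, -⟩ := this
    simp [Dl.mul_A, Dl.swap_A, Dl.inl_A, Dl.inl_B, y, nn_coe, eq2] at k
    exact h2 (by linear_combination k.2.1 - k.1.1)
theorem exists_sw_conj [Finite G] (hF : Fo F) (hG : ∀ H : Subgroup G, H.index ≠ 2) (h : ¬ IsSquare (-1 : F)) :
    ∃ s, S.Sw s ∧ IsConj S.t s := by
  have h0 := hF.two_ne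
  have na := S.not_conj_aO hF h
  obtain ⟨x, hx, hne, hc⟩ := S.exists_fusedO hF hG
  rcases S.conj_classO hF hx hc hne with k | ⟨c, -, e⟩ | ⟨c, -, e⟩
  · exact ⟨x, k, hc⟩
  swap
  · exact absurd (hc.trans (ic3 e)) na
  have ht := hc.trans (ic3 e)
  obtain ⟨k, hk⟩ := isConj_iff.1 ht.symm
  have hN : k * S.t * k⁻¹ ∈ S.N := S.nsw_symmO hF (g := 1) (by simp) hk S.t'_t3.symm (by simpa using S.t'_N3)
  obtain ⟨g, h1, h2⟩ : ∃ g, g * S.t * g⁻¹ = S.t' ∧ g * S.t' * g⁻¹ = S.t := by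
    rcases S.conj_classO hF (S.N_le_C hN) (isConj_iff.2 ⟨k, rfl⟩) (fun e => S.t'_ne_t h0
      ((MulAut.conj k).injective (hk.trans e.symm))) with m | ⟨d, hd, m⟩ | ⟨d, -, m⟩
    · exact absurd hN m.not_mem_N
    · refine ⟨d * k, by rw [← m]; group, ?_⟩
      rw [← mul_inv_eq_iff_eq_mul.2 (S.mem_C_iff.1 (S.N_le_C hd)).eq]
      nth_rw 1 [← hk]; group
    · exact absurd ((ic3 rfl).trans (ic3 m)) na
  have hs : S.Sw (g * S.a * g⁻¹) := (S.mem_C.1 (S.conj_Q h1 h2 S.a_mem_Q).1).resolve_left fun hN => by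
    have key : ∀ x ∈ S.N, IsConj S.a x → x ∈ S.K := fun x hx hc => by
      obtain ⟨c, rfl⟩ := isConj_iff.1 hc
      rcases S.inv_classO hF (S.N_le_C hx) (Holt.conj_sq_one S.a_sq c)
        (fun e => S.a_not_mem_T (conj_eq_one_iff.1 e ▸ S.T.one_mem)) (fun e => na (e ▸ hc.symm)) with
        k | ⟨⟨α, k⟩, -⟩ | ⟨d, -, e⟩ | ⟨d, hd, e⟩
      · exact absurd hx k.not_mem_N
      · exact absurd ⟨α ^ 2, by linear_combination -k⟩ h
      · exact absurd (ht.trans (hc.trans (ic3 e)).symm) na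
      · have := conj_mem_K S.a_mem_K (S.N_le_C (S.N.inv_mem hd))
        rwa [inv_swap e] at this
    obtain ⟨c, -, e⟩ := S.at_conjO hF
    exact S.t'_not_mem_K h ((S.K.mul_mem_cancel_right (key _ hN (ic3 rfl))).1 (key _ (S.N.mul_mem S.t'_N3 hN)
      ((ic3 e).trans (isConj_iff.2 ⟨g, by rw [← conj_mul, h1]⟩))))
  obtain ⟨d, -, e'⟩ := S.at'_conjO hF
  exact ⟨_, hs.mul_N (S.K_le_N S.t_mem_K), ht.trans ((ic3 e').symm.trans (isConj_iff.2 ⟨g, by rw [← conj_mul, h2]⟩))⟩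

end Su

theorem fo_three : Fo (ZMod 3) := ⟨by decide⟩
theorem not_sq_three : ¬ IsSquare (-1 : ZMod 3) := by decide

theorem three_aux [Finite G] (S : Su (ZMod 3) G) (hG : ∀ H : Subgroup G, H.index ≠ 2) (hw : IsConj S.t S.w) :
    Nonempty (G ≃* Matrix.ProjectiveSpecialLinearGroup (Fin 4) (ZMod 3)) := by
  have na := S.not_conj_aO fo_three not_sq_three
  let xa : Dl (ZMod 3) := ⟨!![1, 1; 2, 0], !![0, 1; 2, 2], by decide⟩
  let xb : Dl (ZMod 3) := ⟨!![2, 0; 0, 2], !![1, 0; 0, 1], by decide⟩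
  let xc : Dl (ZMod 3) := ⟨!![1, 1; 2, 1], !![1, 2; 1, 1], by decide⟩
  let xd : Dl (ZMod 3) := ⟨!![1, 0; 2, 2], !![2, 0; 1, 1], by decide⟩
  let xe : Dl (ZMod 3) := ⟨!![1, 1; 0, 1], !![0, 2; 1, 0], by decide⟩
  have eq : ∀ {x y : Dl (ZMod 3)}, (∃ l : ZMod 3, x.A = l • y.A ∧ x.B = l • y.B) → S.κ x = S.κ y := (S.eq_iff _ _).2
  have one : ∀ {x : Dl (ZMod 3)}, (∃ l : ZMod 3, x.A = l • (1 : M2 (ZMod 3)) ∧ x.B = l • (1 : M2 (ZMod 3))) →
    S.κ x = 1 := (S.ker _).2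
  have hb : S.κ xb = S.t := eq (by decide)
  have e : S.κ xa * S.w * (S.κ xb * S.w) * (S.κ xc * S.w) * (S.κ xd * S.w) = S.κ xe := by
    rw [mul_assoc, S.sw_mul, S.sw_mul, ← map_mul]; exact eq (by decide)
  have e2 : S.κ xe ^ 2 = S.f1 (xu 2) * S.t := by
    rw [pow_two, ← hb, ← map_mul]; exact (eq (by decide)).trans (map_mul S.κ (Dl.inl (xu 2)) xb)
  have tC := fun X => S.mem_C_iff.1 (S.N_le_C (S.K_le_N (S.f1_mem_K X)))
  have e4 : S.κ xe ^ 4 = S.f1 (xu 1) := by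
    rw [show 4 = 2 * 2 from rfl, pow_mul, e2, pow_two, (tC _).symm.mul_mul_mul_comm, S.t_sq, mul_one, ← map_mul,
      ← xu_add]; rfl
  have e6 : S.κ xe ^ 6 = S.t := by
    rw [show 6 = 4 + 2 from rfl, pow_add, e4, e2, ← mul_assoc, ← map_mul, ← xu_add, show (1 + 2 : ZMod 3) = 0 from rfl,
      xu_zero, map_one, one_mul]
  have tw : S.t * S.w * S.t = S.w := by
    rw [mul_assoc, (S.mem_C_iff.1 S.w_mem_C).eq, ← mul_assoc, S.t_sq, one_mul]
  refine W2.L43.main hG (a := S.κ xa * S.w) (b := S.κ xb * S.w) (c := S.κ xc * S.w) (d := S.κ xd * S.w) (z := S.t)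
    ⟨?_, ?_, ?_, ?_, ?_, ?_, ?_, ?_, ?_, ?_⟩ (e ▸ e6) (S.t_ne fo_three.two_ne) (le_antisymm ?_ ?_) (fun g hg => na ?_)
    (by rw [hb, tw]; exact isConj_iff.1 hw) fun g hg => na ?_
  iterate 4 rw [S.sw_mul]; exact one (by decide)
  iterate 3 rw [S.sw_mul, ← map_pow]; exact one (by decide)
  iterate 3 rw [S.sw_mul, S.sw_mul]; exact eq (by decide)
  · generalize hH : Rec.clos [S.κ xa * S.w, S.κ xb * S.w, S.κ xc * S.w, S.κ xd * S.w] = H
    have ma : S.κ xa * S.w ∈ H := hH ▸ Rec.mem_clos (by simp)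
    have mb : S.κ xb * S.w ∈ H := hH ▸ Rec.mem_clos (by simp)
    have mc : S.κ xc * S.w ∈ H := hH ▸ Rec.mem_clos (by simp)
    have me : S.κ xe ∈ H := e ▸ H.mul_mem (H.mul_mem (H.mul_mem ma mb) mc) (hH ▸ Rec.mem_clos (by simp))
    have mw : S.w ∈ H := (H.mul_mem_cancel_left (hb ▸ e6 ▸ H.pow_mem me 6)).1 mb
    have mu : S.f1 (xu 1) ∈ H := e4 ▸ H.pow_mem me 4
    have ml : S.f1 (xl 2) ∈ H := by
      have := H.mul_mem (H.mul_mem mw (H.mul_mem (H.mul_mem ma mu) ma)) mw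
      rwa [show S.κ xa * S.w * S.f1 (xu 1) * (S.κ xa * S.w) = S.f2 (xl 2) by
        rw [mul_assoc, ← mul_assoc (S.f1 _), show S.f1 (xu 1) = S.κ _ from rfl, ← map_mul, S.sw_mul]
        exact eq (by decide), S.w_f2] at this
    have m1 : ∀ X, S.f1 X ∈ H := fun X => (sl2_eq_top (H.comap S.f1) (fun c => by
        have := (H.comap S.f1).pow_mem (show xu 1 ∈ _ from mu) c.val
        rwa [xu_pow, mul_one, ZMod.natCast_zmod_val] at this)
      fun c => by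
        fin_cases c
        · exact xl_zero (F := ZMod 3) ▸ Subgroup.one_mem _
        · exact (xl_add (2 : ZMod 3) 2) ▸ (H.comap S.f1).mul_mem ml ml
        · exact ml).ge (Subgroup.mem_top X)
    have mK : S.K ≤ H := fun g hg => by
      obtain ⟨X, Y, rfl⟩ := S.mem_K.1 hg
      exact H.mul_mem (m1 X) (S.w_f1 Y ▸ H.mul_mem (H.mul_mem mw (m1 Y)) mw)
    have mN : ∀ x, S.κ x ∈ H := fun x => by
      rcases (by decide : ∀ u : ZMod 3, u ≠ 0 → u = 1 ∨ 2 * u = 1) _ x.detA_ne with k | k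
      · exact mK ⟨x, k, rfl⟩
      · refine (H.mul_mem_cancel_left ((H.mul_mem_cancel_right mw).1 mc)).1 (mK ⟨xc * x, ?_, map_mul ..⟩)
        change (xc.A * x.A).det = 1
        rw [det_mul, show xc.A.det = 2 by decide, k]
    intro g hg
    rcases S.mem_C.1 hg with ⟨x, rfl⟩ | ⟨x, rfl⟩
    exacts [mN x, H.mul_mem (mN x) mw]
  · refine (Subgroup.closure_le _).2 fun g hg => ?_
    simp only [List.mem_cons, List.not_mem_nil, or_false, Set.mem_setOf_eq] at hg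
    rcases hg with rfl | rfl | rfl | rfl <;> exact Su.Sw.mem_C ⟨_, rfl⟩
  · obtain ⟨c, -, k⟩ := S.at_conjO fo_three
    refine (ic3 hg).trans (ic3 (k.trans ?_)).symm
    rw [S.sw_mul, ← map_pow, ← hb, Su.a, S.f12, ← map_mul]
    exact eq (by decide)
  · exact (ic3 (hg.trans (by rw [hb]))).trans (S.sw_conj_aO fo_three S.sw_w hw).symm

theorem three [Finite G] (S : Su (ZMod 3) G) (hG : ∀ H : Subgroup G, H.index ≠ 2) :
    Nonempty (G ≃* Matrix.ProjectiveSpecialLinearGroup (Fin 4) (ZMod 3)) := by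
  obtain ⟨s, hs, hc⟩ := S.exists_sw_conj fo_three hG not_sq_three
  obtain ⟨S', rfl, e, -⟩ := S.rebase hs (S.sq_of_conj hc)
  exact three_aux S' hG (S.t_of_f1 e ▸ hc)

end Cfsg.Agent.L4C
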