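import Mathlib
import Cfsg.Agent.L4C.Basic

/-!
# `L₄(q)` from an involution centraliser: the setup in `L₄(F)` and its transport
-/

set_option autoImplicit false

namespace Cfsg.Agent.L4C

open Matrix

variable {F : Type*} [Field F] {G : Type*} [Group G]

/-- block matrices -/
def blk (A B C D : M2 F) : Matrix (Fin 4) (Fin 4) F :=
  Matrix.reindexAlgEquiv F F (finSumFinEquiv (m := 2) (n := 2)) (fromBlocks A B C D)

theorem blk_mul (A B C D A' B' C' D' : M2 F) : blk A B C D * blk A' B' C' D' =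
    blk (A * A' + B * C') (A * B' + B * D') (C * A' + D * C') (C * B' + D * D') := by
  rw [blk, blk, blk, ← fromBlocks_multiply]
  exact (map_mul _ _ _).symm

theorem blk_inj {A B C D A' B' C' D' : M2 F} :
    blk A B C D = blk A' B' C' D' ↔ A = A' ∧ B = B' ∧ C = C' ∧ D = D' :=
  (EmbeddingLike.apply_eq_iff_eq _).trans fromBlocks_inj

theorem blk_surj (M : Matrix (Fin 4) (Fin 4) F) : ∃ A B C D, M = blk A B C D := by
  obtain ⟨N, rfl⟩ := (Matrix.reindexAlgEquiv F F (finSumFinEquiv (m := 2) (n := 2))).surjective M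
  exact ⟨_, _, _, _, congrArg _ (fromBlocks_toBlocks N).symm⟩

theorem blk_smul (l : F) (A B C D : M2 F) : l • blk A B C D = blk (l • A) (l • B) (l • C) (l • D) := by
  rw [blk, blk, ← fromBlocks_smul]
  exact (map_smul _ _ _).symm

theorem blk_one : blk (1 : M2 F) 0 0 1 = 1 := by
  rw [blk, fromBlocks_one]
  exact map_one _

theorem det_blk (A B C D : M2 F) : (blk A B C D).det = (fromBlocks A B C D).det :=
  det_reindexAlgEquiv F F _ _

theorem det_blk_diag (A D : M2 F) : (blk A 0 0 D).det = A.det * D.det := by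
  rw [det_blk, det_fromBlocks_zero₂₁]

theorem det_blk_w : (blk (0 : M2 F) 1 1 0).det = 1 := by
  have : blk (0 : M2 F) 1 1 0 = blk 1 0 0 (-1) * blk 1 1 0 1 * blk 1 0 (-1) 1 * blk 1 1 0 1 := by
    simp [blk_mul]
  rw [this, det_mul, det_mul, det_mul, det_blk_diag, det_blk, det_blk, det_fromBlocks_zero₂₁,
    det_fromBlocks_zero₁₂]
  simp [det_neg]

theorem diag_eq_blk : Matrix.diagonal ![-1, -1, 1, 1] = blk (-1 : M2 F) 0 0 1 := by
  ext i j
  fin_cases i <;> fin_cases j <;> simp [blk, finSumFinEquiv, Fin.addCases, fromBlocks, Matrix.one_apply]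

/-- block diagonal matrices -/
def κ0 : Dl F →* SpecialLinearGroup (Fin 4) F where
  toFun x := ⟨blk x.A 0 0 x.B, by rw [det_blk_diag, x.h]⟩
  map_one' := Subtype.ext blk_one
  map_mul' x y := Subtype.ext (by
    change blk _ _ _ _ = blk _ _ _ _ * blk _ _ _ _
    simp [blk_mul, Dl.mul_A, Dl.mul_B])

/-- the swap -/
def w0 : SpecialLinearGroup (Fin 4) F := ⟨blk 0 1 1 0, det_blk_w⟩

theorem mk_eq_iff {g h : SpecialLinearGroup (Fin 4) F} :
    (QuotientGroup.mk g : ProjectiveSpecialLinearGroup (Fin 4) F) = QuotientGroup.mk h ↔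
      ∃ l : F, g.1 = l • h.1 := by
  rw [eq_comm, QuotientGroup.eq]
  constructor
  · intro e
    obtain ⟨l, -, e⟩ := Matrix.SpecialLinearGroup.mem_center_iff.1 e
    refine ⟨l, ?_⟩
    have : g.1 = h.1 * (h⁻¹ * g).1 := congrArg Subtype.val (show g = h * (h⁻¹ * g) by group)
    rw [this, ← e, scalar_apply, ← smul_one_eq_diagonal, Matrix.mul_smul, Matrix.mul_one]
  · rintro ⟨l, e⟩
    refine Subgroup.mem_center_iff.2 fun k => Subtype.ext ?_
    have : (h⁻¹ * g).1 = l • (1 : Matrix (Fin 4) (Fin 4) F) := by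
      change (h⁻¹).1 * g.1 = _
      rw [e, Matrix.mul_smul]
      exact congrArg (fun z : SpecialLinearGroup (Fin 4) F => l • z.1) (inv_mul_cancel h)
    change k.1 * (h⁻¹ * g).1 = (h⁻¹ * g).1 * k.1
    rw [this]
    simp

/-- the setup in `L₄(F)` -/
def su0 (h2 : (2 : F) ≠ 0) : Su F (ProjectiveSpecialLinearGroup (Fin 4) F) where
  κ := (QuotientGroup.mk' _).comp κ0
  w := QuotientGroup.mk w0
  ker x := by
    refine (mk_eq_iff (g := κ0 x) (h := 1)).trans (exists_congr fun l => ?_)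
    change blk _ _ _ _ = l • (1 : Matrix (Fin 4) (Fin 4) F) ↔ _
    rw [← blk_one, blk_smul, blk_inj]
    simp
  ww := congrArg QuotientGroup.mk (show w0 * w0 = (1 : SpecialLinearGroup (Fin 4) F) from
    Subtype.ext (by
      change blk _ _ _ _ * blk _ _ _ _ = 1
      simp [blk_mul, blk_one]))
  wκ x := congrArg QuotientGroup.mk (show w0 * κ0 x = κ0 (Dl.swap x) * w0 from Subtype.ext (by
    change blk _ _ _ _ * blk _ _ _ _ = blk _ _ _ _ * blk _ _ _ _
    simp [blk_mul, Dl.swap_A, Dl.swap_B]))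
  cent g := by
    obtain ⟨g, rfl⟩ := QuotientGroup.mk_surjective g
    obtain ⟨A, B, C, D, e⟩ := blk_surj g.1
    have h0 : ∀ {l : F} {X : M2 F}, l ≠ 0 → l • X = 0 → X = 0 := fun hl h =>
      (smul_eq_zero.1 h).resolve_left hl
    constructor
    · intro h
      obtain ⟨l, h⟩ := (mk_eq_iff (g := g * κ0 (Dl.inl (-1))) (h := κ0 (Dl.inl (-1)) * g)).1 h
      change g.1 * blk (-1) 0 0 1 = l • (blk (-1) 0 0 1 * g.1) at h
      rw [e, blk_mul, blk_mul, blk_smul, blk_inj] at h
      simp only [mul_neg, Matrix.mul_one, Matrix.mul_zero, add_zero, neg_mul, Matrix.one_mul,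
        Matrix.zero_mul, zero_add, smul_neg, neg_inj] at h
      obtain ⟨h1, h3, h4, h5⟩ := h
      have hd := g.2
      by_cases hl : l = 1
      · subst hl
        obtain rfl : B = 0 := h0 h2 (by rw [two_smul]; nth_rw 1 [h3]; simp)
        obtain rfl : C = 0 := h0 h2 (by rw [two_smul]; nth_rw 1 [← one_smul F C, ← h4]; simp)
        rw [e, det_blk_diag] at hd
        exact ⟨⟨A, D, hd⟩, Or.inl (congrArg QuotientGroup.mk (Subtype.ext e))⟩
      · obtain rfl : A = 0 := h0 (sub_ne_zero.2 hl) (by rw [sub_smul, ← h1]; simp)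
        obtain rfl : D = 0 := h0 (sub_ne_zero.2 hl) (by rw [sub_smul, ← h5]; simp)
        have e' : g.1 = blk B 0 0 C * blk 0 1 1 0 := by rw [e]; simp [blk_mul]
        rw [e', det_mul, det_blk_w, det_blk_diag, mul_one] at hd
        exact ⟨⟨B, C, hd⟩, Or.inr (congrArg QuotientGroup.mk (Subtype.ext e' : g = κ0 ⟨B, C, hd⟩ * w0))⟩
    · have c1 : ∀ x : Dl F, Commute x (Dl.inl (-1)) := fun x =>
        Dl.ext (by simp [Dl.mul_A, Dl.inl_A]) (by simp [Dl.mul_B, Dl.inl_B])
      rintro ⟨x, h | h⟩ <;> rw [h]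
      · exact (c1 x).map _
      · refine ((c1 x).map _).mul_left
          ((mk_eq_iff (g := w0 * κ0 (Dl.inl (-1))) (h := κ0 (Dl.inl (-1)) * w0)).2 ⟨-1, ?_⟩)
        change blk _ _ _ _ * blk (-1) 0 0 1 = (-1 : F) • (blk (-1) 0 0 1 * blk _ _ _ _)
        rw [blk_mul, blk_mul, blk_smul]
        simp

theorem Su.transport {G' : Type*} [Group G'] (S : Su F G') (t : G) (ht : orderOf t = 2)
    (e : ↥(Subgroup.centralizer ({t} : Set G)) ≃* S.C) : ∃ S' : Su F G, S'.t = t := by
  have tC : t ∈ Subgroup.centralizer ({t} : Set G) := Subgroup.mem_centralizer_singleton_iff.2 rfl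
  have cm : ∀ g ∈ S.C, Commute (e ⟨t, tC⟩ : G') g := fun g hg => by
    obtain ⟨c, hc⟩ := e.surjective ⟨g, hg⟩
    have : ⟨t, tC⟩ * c = c * ⟨t, tC⟩ := Subtype.ext (Subgroup.mem_centralizer_singleton_iff.1 c.2).symm
    have := congrArg (fun z => (e z : G')) this
    simp only [map_mul, hc] at this
    exact this
  have et : (e ⟨t, tC⟩ : G') = S.t := by
    refine (S.eq_t_of_mem_Z (S.mem_Z_of_comm (e _).2 (fun X => cm _ (S.N_le_C (S.κ_mem_N _)))
      fun X => cm _ (S.N_le_C (S.κ_mem_N _))) ?_).resolve_left fun h => ?_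
    · rw [← Subgroup.coe_mul, ← map_mul, show (⟨t, tC⟩ * ⟨t, tC⟩ : Subgroup.centralizer ({t} : Set G)) = 1 from
        Subtype.ext (by rw [Subgroup.coe_mul, ← sq, ← ht]; exact pow_orderOf_eq_one t), map_one]
      rfl
    · have : t = 1 := congrArg Subtype.val ((map_eq_one_iff _ e.injective).1 (Subtype.ext h))
      rw [this, orderOf_one] at ht
      omega
  let ι : S.C →* G := (Subgroup.subtype _).comp e.symm.toMonoidHom
  have ιi : Function.Injective ι := (Subgroup.subtype_injective _).comp e.symm.injective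
  let k : Dl F →* S.C := S.κ.codRestrict _ fun x => S.N_le_C (S.κ_mem_N x)
  have ht' : ι (k (Dl.inl (-1))) = t := by
    rw [show k (Dl.inl (-1)) = e ⟨t, tC⟩ from Subtype.ext et.symm]
    exact congrArg Subtype.val (e.symm_apply_apply _)
  refine ⟨⟨ι.comp k, ι ⟨S.w, S.w_mem_C⟩, fun x => ?_, ?_, fun x => ?_, fun g => ?_⟩, ht'⟩
  · rw [← S.ker, MonoidHom.comp_apply, map_eq_one_iff _ ιi]
    exact Subtype.ext_iff
  · rw [← map_mul, map_eq_one_iff _ ιi]
    exact Subtype.ext S.ww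
  · simp only [MonoidHom.comp_apply, ← map_mul]
    exact congrArg ι (Subtype.ext (S.wκ x))
  · simp only [MonoidHom.comp_apply, ← map_mul, ht']
    constructor
    · intro h
      have hg : g ∈ Subgroup.centralizer ({t} : Set G) := Subgroup.mem_centralizer_singleton_iff.2 h
      have e1 : g = ι (e ⟨g, hg⟩) := (congrArg Subtype.val (e.symm_apply_apply ⟨g, hg⟩)).symm
      obtain ⟨x, h | h⟩ := (S.cent _).1 (S.mem_C_iff.1 (e ⟨g, hg⟩).2)
      exacts [⟨x, Or.inl (e1.trans (congrArg ι (Subtype.ext h)))⟩,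
        ⟨x, Or.inr (e1.trans (congrArg ι (Subtype.ext h)))⟩]
    · rintro ⟨x, h | h⟩ <;> rw [h] <;> exact Subgroup.mem_centralizer_singleton_iff.1 (e.symm _).2

/-- The setup of a group whose involution centraliser is that of `L₄(F)`. -/
theorem exists_su (h2 : (2 : F) ≠ 0) (d : Matrix.SpecialLinearGroup (Fin 4) F)
    (hd : (d : Matrix (Fin 4) (Fin 4) F) = Matrix.diagonal ![-1, -1, 1, 1]) (t : G) (ht : orderOf t = 2)
    (e : ↥(Subgroup.centralizer ({t} : Set G)) ≃*
      ↥(Subgroup.centralizer ({(QuotientGroup.mk d : Matrix.ProjectiveSpecialLinearGroup (Fin 4) F)} :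
        Set (Matrix.ProjectiveSpecialLinearGroup (Fin 4) F)))) :
    ∃ S : Su F G, S.t = t := by
  obtain rfl : d = κ0 (Dl.inl (-1)) := Subtype.ext (hd.trans diag_eq_blk)
  exact (su0 h2).transport t ht e

end Cfsg.Agent.L4C
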