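import Mathlib
import Cfsg.Agent.L4C.Defs
import Cfsg.Agent.Chev.CTA2

/-!
# `L₄(q)` from an involution centraliser: normalising the structure constants
-/

set_option autoImplicit false

namespace Cfsg.Agent.L4C

variable {F : Type*} [Field F] {G : Type*} [Group G]

theorem add_zero' {A : F → G} (hA : ∀ a b, A (a + b) = A a * A b) : A 0 = 1 := by
  have := hA 0 0
  rwa [add_zero, left_eq_mul] at this

theorem add_neg' {A : F → G} (hA : ∀ a b, A (a + b) = A a * A b) (a : F) : A (-a) = (A a)⁻¹ := by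
  rw [eq_inv_iff_mul_eq_one, ← hA, neg_add_cancel, add_zero' hA]

theorem conj_n {A B : F → G} (hA : ∀ a b, A (a + b) = A a * A b) (hB : ∀ a b, B (a + b) = B a * B b)
    (hc : ∀ a b, Commute (A a) (B b)) {u v : G} {γ δ : F} (u1 : ∀ a, u * A a * u⁻¹ = A a * B (γ * a))
    (u2 : ∀ b, Commute u (B b)) (v1 : ∀ b, v * B b * v⁻¹ = A (δ * b) * B b) (v2 : ∀ a, Commute v (A a))
    (a b : F) : (u * v * u) ^ 2 * (A a * B b) * ((u * v * u) ^ 2)⁻¹ =
      A (a * (1 + 4 * (γ * δ) + 2 * (γ * δ) ^ 2) + 2 * δ * (1 + γ * δ) * b) *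
      B (b * (1 + 4 * (γ * δ) + 2 * (γ * δ) ^ 2) + 2 * γ * (1 + γ * δ) * (2 + γ * δ) * a) := by
  have hu : ∀ a b, u * (A a * B b) * u⁻¹ = A a * B (γ * a + b) := fun a b => by
    rw [← conj_mul, u1, (u2 b).eq, mul_inv_cancel_right, hB, mul_assoc]
  have hv : ∀ a b, v * (A a * B b) * v⁻¹ = A (a + δ * b) * B b := fun a b => by
    rw [← conj_mul, v1, (v2 a).eq, mul_inv_cancel_right, hA, mul_assoc]
  have e : ∀ g : G, (u * v * u) ^ 2 * g * ((u * v * u) ^ 2)⁻¹ =
      u * (v * (u * (u * (v * (u * g * u⁻¹) * v⁻¹) * u⁻¹) * u⁻¹) * v⁻¹) * u⁻¹ := fun g => by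
    rw [sq]; group
  rw [e, hu, hv, hu, hu, hv, hu]
  congr 2 <;> ring

theorem eq_zero_of_inv (h2 : (2 : F) ≠ 0) {A : F → G} (hA : ∀ a b, A (a + b) = A a * A b)
    (hi : ∀ a, A a = 1 → a = 0) {z g : G} (hz : ∀ a, z * A a = A (-a) * z) (hg : Commute z g) {a : F}
    (h : A a * g = 1) : a = 0 := by
  have h1 : A (-a) * g = 1 := by
    have : z * (A a * g) = A (-a) * g * z := by rw [← mul_assoc, hz, mul_assoc, hg.eq, mul_assoc]
    rw [h, mul_one] at this
    exact mul_right_cancel (this.symm.trans (one_mul z).symm)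
  have h3 : A (a + a) = 1 := by
    rw [hA]
    nth_rw 1 [mul_right_cancel (h.trans h1.symm)]
    rw [add_neg' hA, inv_mul_cancel]
  have := hi _ h3
  rw [← two_mul] at this
  exact (mul_eq_zero.1 this).resolve_left h2

theorem fourth : ∀ i j k : Fin 4, ∃ l, l ≠ i ∧ l ≠ j ∧ l ≠ k := by decide

theorem eq_neg_one (h2 : (2 : F) ≠ 0) {d : F} (h : 1 + 4 * d + 2 * d ^ 2 + 1 = 0) : d = -1 := by
  have : 2 * (d + 1) ^ 2 = 0 := by linear_combination h
  exact eq_neg_of_add_eq_zero_left (pow_eq_zero_iff two_ne_zero |>.1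
    ((mul_eq_zero.1 this).resolve_left h2))

/-- Normalising the structure constants gives a homomorphism from `SL₄`. -/
theorem StD.exists_hom [Finite F] (h2 : (2 : F) ≠ 0) {y : Fin 4 → Fin 4 → F → G} (h : StD y) :
    ∃ (Φ : Matrix.SpecialLinearGroup (Fin 4) F →* G) (s : Fin 4 → Fin 4 → F),
      (∀ i j, s i j ≠ 0) ∧ (∀ j, s 0 j = 1 ∧ s j 0 = 1) ∧
      ∀ i j (hij : i ≠ j) (a : F), Φ (Matrix.SpecialLinearGroup.transvection hij a) = y i j (s i j * a) := by
  choose! c hc using h.br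
  have ng : ∀ {i j}, i ≠ j → ∀ a, y i j (-a) = (y i j a)⁻¹ := fun hij => add_neg' (h.add _ _ hij)
  have cr : ∀ {i j k}, i ≠ j → j ≠ k → i ≠ k → ∀ a b,
      y j k b * y i j a * (y j k b)⁻¹ = y i j a * y i k (c i j k * -a * b) := fun hij hjk hik a b => by
    rw [← hc _ _ _ hij hjk hik, ng hij]; group
  have cl : ∀ {i j k}, i ≠ j → j ≠ k → i ≠ k → ∀ a b,
      y i j a * y j k b * (y i j a)⁻¹ = y i k (c i j k * a * b) * y j k b := fun hij hjk hik a b => by
    rw [← hc _ _ _ hij hjk hik]; group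
  have cz : ∀ {j l g}, Commute (y j l 1) g → Commute (y l j (-1)) g →
      Commute ((y j l 1 * y l j (-1) * y j l 1) ^ 2) g := fun h1 h2 =>
    ((h1.mul_left h2).mul_left h1).pow_left 2
  have s1 : ∀ {i j k}, i ≠ j → j ≠ k → i ≠ k → c i j k * c i k j = 1 := fun {i j k} hij hjk hik => by
    obtain ⟨l, li, lj, lk⟩ := fourth i j k
    have cAB := h.comm i j i k hij hik hij.symm hik
    have e := conj_n (γ := -c i j k) (δ := c i k j) (u := y j k 1) (v := y k j (-1))
      (h.add i j hij) (h.add i k hik) cAB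
      (fun a => by rw [cr hij hjk hik]; congr 2; ring)
      (h.comm j k i k hjk hik hik.symm hjk 1)
      (fun a => by rw [cr hik hjk.symm hij, (cAB _ _).eq]; congr 2; ring)
      (h.comm k j i j hjk.symm hij hij.symm hjk.symm (-1)) 1 0
    rw [add_zero' (h.add i k hik), mul_one, h.zr i j k hij hjk hik, mul_inv_cancel_right, ng hij,
      eq_comm, ← mul_eq_one_iff_eq_inv', ← mul_assoc, ← h.add i j hij] at e
    have := eq_zero_of_inv h2 (h.add i j hij) (h.inj i j hij) (h.zr i j l hij lj.symm li.symm)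
      (cz (h.comm j l i k lj.symm hik li hjk _ _) (h.comm l j i k lj hik hij.symm lk _ _)) e
    have := eq_neg_one h2 (d := -c i j k * c i k j) (by linear_combination this)
    linear_combination -this
  have s2 : ∀ {i j k}, i ≠ j → j ≠ k → i ≠ k → c i j k * c j i k = 1 := fun {i j k} hij hjk hik => by
    obtain ⟨l, li, lj, lk⟩ := fourth i j k
    have cAB := h.comm j k i k hjk hik hik.symm hjk
    have e := conj_n (γ := c i j k) (δ := -c j i k) (u := y i j 1) (v := y j i (-1))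
      (h.add j k hjk) (h.add i k hik) cAB
      (fun a => by rw [cl hij hjk hik, (cAB _ _).eq, mul_one])
      (h.comm i j i k hij hik hij.symm hik 1)
      (fun a => by rw [cl hij.symm hik hjk]; congr 2; ring)
      (h.comm j i j k hij.symm hjk hij hjk (-1)) 0 1
    rw [add_zero' (h.add j k hjk), one_mul, h.zc k i j hik.symm hij hjk.symm, mul_inv_cancel_right,
      ng hik, (cAB _ _).eq, eq_comm, ← mul_eq_one_iff_eq_inv', ← mul_assoc, ← h.add i k hik] at e
    have := eq_zero_of_inv h2 (h.add i k hik) (h.inj i k hik) (h.zc k i l hik.symm li.symm lk.symm)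
      (cz (h.comm i l j k li.symm hjk lj hik _ _) (h.comm l i j k li hjk hij lk _ _)) e
    have := eq_neg_one h2 (d := c i j k * -c j i k) (by linear_combination this)
    linear_combination -this
  have s3 : ∀ {i j k l}, i ≠ j → j ≠ k → i ≠ k → l ≠ i → l ≠ j → l ≠ k →
      c i j k * c i k l = c j k l * c i j l := fun {i j k l} hij hjk hik li lj lk => by
    have e1 : y k l 1 * (y i j 1 * y j k 1 * (y i j 1)⁻¹) * (y k l 1)⁻¹ =
        y i j 1 * (y k l 1 * y j k 1 * (y k l 1)⁻¹) * (y i j 1)⁻¹ := by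
      have := (h.comm k l i j lk.symm hij li hjk.symm 1 1).eq
      calc _ = y k l 1 * y i j 1 * y j k 1 * (y k l 1 * y i j 1)⁻¹ := by group
        _ = _ := by rw [this]; group
    rw [cl hij hjk hik, ← conj_mul, cr hik lk.symm li.symm, cr hjk lk.symm lj.symm, ← conj_mul,
      cl hij hjk hik, cl hij lj.symm li.symm, ← mul_assoc, ← mul_assoc, mul_left_inj, mul_assoc (y i k _),
      mul_assoc (y i k _), mul_right_inj, (h.comm i l j k li.symm hjk lj hik _ _).eq, mul_right_inj,
      ← mul_inv_eq_one, ← ng li.symm, ← h.add i l li.symm] at e1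
    linear_combination -h.inj i l li.symm _ e1
  let s : Fin 4 → Fin 4 → F := fun i j => if i = 0 ∨ j = 0 ∨ i = j then 1 else c i 0 j
  have hs : ∀ i j k, i ≠ j → j ≠ k → i ≠ k → c i j k * s i j * s j k = s i k := by
    intro i j k hij hjk hik
    by_cases i0 : i = 0
    · subst i0
      simp only [s, true_or, if_true, hij.symm, hik.symm, hjk, or_self, if_false, mul_one]
      exact s2 hij hjk hik
    by_cases j0 : j = 0
    · subst j0
      simp only [s, true_or, or_true, if_true, i0, hjk.symm, hik, or_self, if_false, mul_one]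
    by_cases k0 : k = 0
    · subst k0
      simp only [s, true_or, or_true, if_true, i0, j0, hij, or_self, if_false, mul_one]
      exact s1 hij hjk hik
    simp only [s, i0, j0, k0, hij, hjk, hik, or_self, if_false]
    linear_combination c j 0 k * s3 i0 (Ne.symm j0) hij hik.symm k0 hjk.symm +
      c i 0 k * s2 (Ne.symm j0) hjk (Ne.symm k0)
  obtain ⟨Φ, hΦ⟩ := Chev.slRel_exists_hom (K := F) (n := 4) (by norm_num)
    (y := fun r t => y r.1.1 r.1.2 (s r.1.1 r.1.2 * t))
    ⟨fun a t u => by rw [mul_add, h.add _ _ a.2], fun a b t u h1 h3 => h.comm _ _ _ _ a.2 b.2 h3 h1 _ _,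
      fun ⟨⟨i, j⟩, hij⟩ ⟨⟨j', k⟩, hjk⟩ hik t u e => by
        obtain rfl : j = j' := e
        rw [hc i j k hij hjk hik, ← hs i j k hij hjk hik]
        congr 1
        ring⟩
  refine ⟨Φ, s, fun i j => ?_, fun j => by simp [s], fun i j hij a => hΦ ⟨(i, j), hij⟩ a⟩
  by_cases e : i = 0 ∨ j = 0 ∨ i = j
  · simp only [s, e, if_true]; exact one_ne_zero
  · simp only [s, e, if_false]
    rw [not_or, not_or] at e
    exact left_ne_zero_of_mul_eq_one (s1 e.1 (Ne.symm e.2.1) e.2.2)

end Cfsg.Agent.L4C
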