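import Mathlib
import Cfsg.Agent.L4C.Invol

/-! # `L₄(q)` from an involution centraliser: diagonal root groups are normal (step NL) -/

set_option autoImplicit false

namespace Cfsg.Agent.L4C

namespace NL

variable {F : Type*} [Field F] {G : Type*} [Group G]

/-- root elements of the root group attached to the first column of `g` -/
def rt (g : S2 F) (c : F) : S2 F := g * xu c * g⁻¹
/-- the determinant of the two first columns -/
def om (g k : S2 F) : F := g.1 0 0 * k.1 1 0 - g.1 1 0 * k.1 0 0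

theorem rt_add (g : S2 F) (b c : F) : rt g (b + c) = rt g b * rt g c := by
  simp only [rt, xu_add]; group
theorem rt_zero (g : S2 F) : rt g 0 = 1 := by simp [rt, xu_zero]
theorem rt_mul (X g : S2 F) (c : F) : rt (X * g) c = X * rt g c * X⁻¹ := by simp only [rt]; group
theorem un_rt (g : S2 F) (c : F) : Un (rt g c) := (un_xu c).conj g
theorem rt_comm (g : S2 F) (b c : F) : Commute (rt g b) (rt g c) := by
  rw [Commute, SemiconjBy, ← rt_add, ← rt_add, add_comm]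
theorem om_self (g : S2 F) : om g g = 0 := by simp only [om]; ring
theorem om_symm (g k : S2 F) : om k g = -om g k := by simp only [om]; ring

theorem om_mul (X g k : S2 F) : om (X * g) (X * k) = om g k := by
  simp only [om, s2_mul, mul2]
  linear_combination (g.1 0 0 * k.1 1 0 - g.1 1 0 * k.1 0 0) * s2_det X

theorem om_one (k : S2 F) : om 1 k = k.1 1 0 := by simp [om]

theorem om_rt (g k l : S2 F) (c : F) : om (rt g c * k) l = om k l + c * om g k * om g l := by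
  simp only [om, rt, s2_mul, mul2, s2_inv, xu_coe, Matrix.of_apply, Matrix.cons_val', Matrix.cons_val_zero,
    Matrix.cons_val_one, Matrix.cons_val_fin_one]
  linear_combination (k.1 0 0 * l.1 1 0 - k.1 1 0 * l.1 0 0) * s2_det g

theorem eq_rt {U g : S2 F} (hU : Un U) (h : om g (U * g) = 0) : ∃ d, U = rt g d := by
  have h1 : (g⁻¹ * U * g⁻¹⁻¹).1 1 0 = 0 := by
    rw [← om_one, ← om_mul g, ← h]; congr 1 <;> group
  exact ⟨_, by rw [rt, ← (hU.conj g⁻¹).eq_xu h1]; group⟩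

theorem rt_of_om {g k : S2 F} (h : om g k = 0) (c : F) : ∃ d, rt k c = rt g d :=
  eq_rt (un_rt k c) (by rw [om_symm, om_rt, om_self, om_symm, h]; ring)

theorem om_of_eq {g k : S2 F} {b c : F} (hb : b ≠ 0) (h : rt g b = rt k c) : om g k = 0 := by
  have h1 := om_rt g k k b
  rw [h, om_rt, om_self, mul_zero, mul_assoc, add_zero, zero_add] at h1
  exact mul_self_eq_zero.1 ((mul_eq_zero.1 h1.symm).resolve_left hb)

theorem gen {g k : S2 F} (h : om g k ≠ 0) (M : Subgroup (S2 F)) (h1 : ∀ c, rt g c ∈ M) (h2 : ∀ c, rt k c ∈ M) :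
    M = ⊤ := by
  let m : S2 F := ⟨!![g.1 0 0, k.1 0 0 / om g k; g.1 1 0, k.1 1 0 / om g k], by
    rw [Matrix.det_fin_two_of]; field_simp; simp only [om]; ring⟩
  have h3 : M.comap (MulAut.conj m).toMonoidHom = ⊤ := sl2_eq_top _ (fun a => by
    obtain ⟨d, hd⟩ := rt_of_om (g := g) (k := m) (by simp [om, m]; ring) a
    change rt m a ∈ M
    exact hd ▸ h1 d) fun a => by
    obtain ⟨d, hd⟩ := rt_of_om (g := k) (k := m * nn) (by simp only [om, s2_mul, mul2]; simp [m, nn_coe]; ring) (-a)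
    change m * xl a * m⁻¹ ∈ M
    rw [← neg_neg a, ← nn_xu, show m * (nn * xu (-a) * nn⁻¹) * m⁻¹ = rt (m * nn) (-a) by simp only [rt]; group]
    exact hd ▸ h2 d
  refine eq_top_iff.2 fun X _ => ?_
  have : m * (m⁻¹ * X * m) * m⁻¹ ∈ M := h3.ge (Subgroup.mem_top (m⁻¹ * X * m))
  simpa [mul_assoc] using this

theorem not_un_neg (h2 : (2 : F) ≠ 0) {U : S2 F} (h : Un U) (h' : Un (-U)) : False := by
  rw [un_iff] at h h'
  simp only [s2_neg, Matrix.neg_apply] at h'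
  exact mul_ne_zero h2 h2 (by linear_combination -h' - h)

variable (S : Su F G)

theorem f12_un (h2 : (2 : F) ≠ 0) {X Y X' Y' : S2 F} (hX : Un X) (hX' : Un X')
    (h : S.f1 X * S.f2 Y = S.f1 X' * S.f2 Y') : X = X' ∧ Y = Y' :=
  (S.f12_eq h).resolve_right fun e => not_un_neg h2 hX' (e.1 ▸ hX)

theorem f12_mul (U V X Y : S2 F) :
    S.f1 U * S.f2 V * (S.f1 X * S.f2 Y) = S.f1 (U * X) * S.f2 (V * Y) := by
  rw [map_mul, map_mul, mul_assoc, mul_assoc, ← mul_assoc (S.f2 V), ← (S.f1_comm X V).eq, mul_assoc]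

theorem f12_inv (U V : S2 F) : (S.f1 U * S.f2 V)⁻¹ = S.f1 U⁻¹ * S.f2 V⁻¹ := by
  rw [mul_inv_rev, ← map_inv, ← map_inv, (S.f1_comm _ _).eq]

theorem f12_conj (U V X Y : S2 F) : S.f1 U * S.f2 V * (S.f1 X * S.f2 Y) * (S.f1 U * S.f2 V)⁻¹ =
    S.f1 (U * X * U⁻¹) * S.f2 (V * Y * V⁻¹) := by rw [f12_inv, f12_mul, f12_mul]

/-- the hypotheses on a diagonal root group -/
structure Gd (H : Subgroup G) (p : ℕ) (ρ : F → G) : Prop where
  add : ∀ b c, ρ (b + c) = ρ b * ρ c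
  inj : ∀ b, ρ b = 1 → b = 0
  mem : ∀ b, ρ b ∈ H
  long : ∀ b X, b ≠ 0 → ρ b ≠ S.f1 X ∧ ρ b ≠ S.f2 X
  max : ∀ x ∈ H, x ^ p = 1 → (∀ b, Commute x (ρ b)) → ∃ b, x = ρ b

/-- the two root groups of a diagonal root group -/
structure Rg (ρ : F → G) (g k : S2 F) : Prop where
  ex : ∀ b, ∃ c d, ρ b = S.f1 (rt g c) * S.f2 (rt k d)
  s1 : ∀ c, ∃ b d, ρ b = S.f1 (rt g c) * S.f2 (rt k d)
  s2 : ∀ d, ∃ b c, ρ b = S.f1 (rt g c) * S.f2 (rt k d)

variable {S} {H : Subgroup G} {p : ℕ} {ρ ρ' : F → G} {g k g' k' : S2 F}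

theorem Gd.zero (h : Gd S H p ρ) : ρ 0 = 1 := by simpa using h.add 0 0
theorem Gd.sub (h : Gd S H p ρ) (b c : F) : ρ (b - c) = ρ b * (ρ c)⁻¹ := by
  rw [eq_mul_inv_iff_mul_eq, ← h.add, sub_add_cancel]
theorem Gd.comm (h : Gd S H p ρ) (b c : F) : Commute (ρ b) (ρ c) := by
  rw [Commute, SemiconjBy, ← h.add, ← h.add, add_comm]
theorem Gd.pow (h : Gd S H p ρ) (b : F) (n : ℕ) : ρ b ^ n = ρ (n * b) := by
  induction n with
  | zero => simp [h.zero]
  | succ n ih => rw [pow_succ, ih, ← h.add]; push_cast; ring_nf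
theorem Gd.pow_char [CharP F p] (h : Gd S H p ρ) (b : F) : ρ b ^ p = 1 := by
  rw [h.pow, CharP.cast_eq_zero, zero_mul, h.zero]

theorem Gd.conj (h : Gd S H p ρ) (hH : H ≤ S.C) {x : G} (hx : x ∈ H) : Gd S H p fun b => x * ρ b * x⁻¹ where
  add b c := by rw [h.add]; group
  inj b hb := h.inj b (by simpa [mul_assoc] using congrArg (fun y => x⁻¹ * y * x) hb)
  mem b := H.mul_mem (H.mul_mem hx (h.mem b)) (H.inv_mem hx)
  long b X hb := by
    have e : ∀ y, x * ρ b * x⁻¹ = y → ρ b = x⁻¹ * y * x⁻¹⁻¹ := fun y e => by rw [← e]; group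
    rcases S.mem_C.1 (hH (H.inv_mem hx)) with h1 | h1
    · obtain ⟨Y, hY⟩ := Su.conj_f1 h1 X
      obtain ⟨Z, hZ⟩ := Su.conj_f2 h1 X
      exact ⟨fun e1 => (h.long b Y hb).1 ((e _ e1).trans hY), fun e1 => (h.long b Z hb).2 ((e _ e1).trans hZ)⟩
    · obtain ⟨Y, hY⟩ := h1.conj_f1 X
      obtain ⟨Z, hZ⟩ := h1.conj_f2 X
      exact ⟨fun e1 => (h.long b Y hb).2 ((e _ e1).trans hY), fun e1 => (h.long b Z hb).1 ((e _ e1).trans hZ)⟩
  max y hy hp hc := by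
    obtain ⟨b, hb⟩ := h.max (x⁻¹ * y * x⁻¹⁻¹) (H.mul_mem (H.mul_mem (H.inv_mem hx) hy) (by simpa using hx))
      (by rw [conj_pow, hp]; group) fun b => by
        simpa [mul_assoc] using (hc b).map (MulAut.conj x⁻¹)
    exact ⟨b, by rw [← hb]; group⟩

theorem Rg.conj (h : Rg S ρ g k) (U V : S2 F) :
    Rg S (fun b => S.f1 U * S.f2 V * ρ b * (S.f1 U * S.f2 V)⁻¹) (U * g) (V * k) where
  ex b := let ⟨c, d, e⟩ := h.ex b; ⟨c, d, by rw [e, f12_conj, rt_mul, rt_mul]⟩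
  s1 c := let ⟨b, d, e⟩ := h.s1 c; ⟨b, d, by simp only [e, f12_conj, rt_mul]⟩
  s2 d := let ⟨b, c, e⟩ := h.s2 d; ⟨b, c, by simp only [e, f12_conj, rt_mul]⟩

theorem Rg.om_eq (h2 : (2 : F) ≠ 0) (h : Rg S ρ g k) (h' : Rg S ρ' g' k') (hs : ∀ b, ∃ c, ρ' b = ρ c) :
    om g' g = 0 := by
  obtain ⟨b, d, e⟩ := h'.s1 1
  obtain ⟨c, hc⟩ := hs b
  obtain ⟨c', d', e'⟩ := h.ex c
  exact om_of_eq one_ne_zero (f12_un S h2 (un_rt _ _) (un_rt _ _) (e.symm.trans (hc.trans e'))).1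

variable [Fintype F] [Fact p.Prime] [CharP F p]

theorem Gd.exists_rg (h : Gd S H p ρ) (hF : Fq F) (hH : H ≤ S.C) : ∃ g k, Rg S ρ g k := by
  have hp : ∀ b, ∃ U V, Un U ∧ Un V ∧ ρ b = S.f1 U * S.f2 V := fun b =>
    S.pelt hF p (hH (h.mem b)) (k := 1) (by rw [pow_one, h.pow_char])
  obtain ⟨U, V, hU, hV, e⟩ := hp 1
  obtain ⟨g, c, rfl⟩ := hU.exists_conj
  obtain ⟨k, d, rfl⟩ := hV.exists_conj
  have hc : c ≠ 0 := by
    rintro rfl
    exact (h.long 1 _ one_ne_zero).2 (by rw [e, xu_zero, mul_one, mul_inv_cancel, map_one, one_mul])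
  have hd : d ≠ 0 := by
    rintro rfl
    exact (h.long 1 _ one_ne_zero).1 (by rw [e, xu_zero, mul_one, mul_inv_cancel, map_one, mul_one])
  have ex : ∀ b, ∃ c d, ρ b = S.f1 (rt g c) * S.f2 (rt k d) := fun b => by
    obtain ⟨U', V', hU', hV', e'⟩ := hp b
    have h1 : ρ b * ρ 1 * (ρ b)⁻¹ = ρ 1 := by rw [(h.comm b 1).eq]; group
    rw [e, e', f12_conj] at h1
    obtain ⟨h2, h3⟩ := f12_un S hF.two_ne (hU.conj U') hU h1
    obtain ⟨c', rfl⟩ := eq_rt (g := g) hU' (om_of_eq hc ((rt_mul U' g c).trans h2).symm)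
    obtain ⟨d', rfl⟩ := eq_rt (g := k) hV' (om_of_eq hd ((rt_mul V' k d).trans h3).symm)
    exact ⟨c', d', e'⟩
  choose φ ψ hφ using ex
  have hq : ∀ a b, ρ (a - b) = S.f1 (rt g (φ a) * (rt g (φ b))⁻¹) * S.f2 (rt k (ψ a) * (rt k (ψ b))⁻¹) :=
    fun a b => by rw [h.sub, hφ, hφ, f12_inv, f12_mul]
  have h1 : Function.Injective φ := fun a b e => by
    by_contra hab
    exact (h.long _ _ (sub_ne_zero.2 hab)).2 (by rw [hq, e, mul_inv_cancel, map_one, one_mul])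
  have h2 : Function.Injective ψ := fun a b e => by
    by_contra hab
    exact (h.long _ _ (sub_ne_zero.2 hab)).1 (by rw [hq, e, mul_inv_cancel, map_one, mul_one])
  refine ⟨g, k, fun b => ⟨_, _, hφ b⟩, fun c => ?_, fun d => ?_⟩
  · obtain ⟨b, rfl⟩ := Finite.surjective_of_injective h1 c
    exact ⟨b, _, hφ b⟩
  · obtain ⟨b, rfl⟩ := Finite.surjective_of_injective h2 d
    exact ⟨b, _, hφ b⟩

omit [Fact p.Prime] in
/-- a diagonal root group is determined by its first root group -/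
theorem Gd.sub_of_om (h : Gd S H p ρ) (h' : Gd S H p ρ') (hF : Fq F) (r : Rg S ρ g k) (r' : Rg S ρ' g' k')
    (ho : om g g' = 0) (b : F) : ∃ c, ρ' b = ρ c := by
  by_cases hk : om k k' = 0
  · refine h.max _ (h'.mem b) (h'.pow_char b) fun c => ?_
    obtain ⟨c1, d1, e1⟩ := r'.ex b
    obtain ⟨c2, d2, e2⟩ := r.ex c
    obtain ⟨c3, e3⟩ := rt_of_om ho c1
    obtain ⟨d3, e4⟩ := rt_of_om hk d1
    rw [e1, e2, e3, e4, Commute, SemiconjBy, f12_mul, f12_mul, (rt_comm g c3 c2).eq, (rt_comm k d3 d2).eq]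
  exfalso
  have hn : ∀ U X, S.f1 U * S.f2 X ∈ H → X ∈ Subgroup.normalizer (H.comap S.f2 : Set (S2 F)) := fun U X hy => by
    refine Subgroup.mem_normalizer_iff.2 fun Y => ?_
    have e := f12_conj S U X 1 Y
    simp only [mul_one, mul_inv_cancel, map_one, one_mul] at e
    rw [Subgroup.mem_comap, Subgroup.mem_comap, ← e]
    exact ((H.mul_mem_cancel_right (H.inv_mem hy)).trans (H.mul_mem_cancel_left hy)).symm
  have : (H.comap S.f2).Normal := Subgroup.normalizer_eq_top_iff.1 (gen hk _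
    (fun d => let ⟨b, _, e⟩ := r.s2 d; hn _ _ (e ▸ h.mem b))
    fun d => let ⟨b, _, e⟩ := r'.s2 d; hn _ _ (e ▸ h'.mem b))
  rcases sl2_normal hF (H.comap S.f2) with h1 | h1
  · obtain ⟨b1, c1, e1⟩ := r'.s2 1
    obtain ⟨c2, e2⟩ := rt_of_om ho c1
    obtain ⟨b2, d2, e3⟩ := r.s1 c2
    have h3 : rt k' 1 * (rt k d2)⁻¹ ∈ H.comap S.f2 := by
      have := H.mul_mem (h'.mem b1) (H.inv_mem (h.mem b2))
      rwa [e1, e3, e2, f12_inv, f12_mul, mul_inv_cancel, map_one, one_mul] at this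
    rcases h1 _ h3 with h4 | h4
    · exact hk (by rw [om_symm, om_of_eq one_ne_zero (mul_inv_eq_one.1 h4), neg_zero])
    · exact not_un_neg hF.two_ne (un_rt k d2) (by
        rw [mul_inv_eq_iff_eq_mul, neg_one_mul] at h4; exact h4 ▸ un_rt k' 1)
  · obtain ⟨c, hc⟩ := h.max (S.f2 (rt k 1)) (h1 ▸ Subgroup.mem_top _ : rt k 1 ∈ H.comap S.f2)
      (by rw [← map_pow, (un_rt k 1).pow_char p, map_one]) fun c => by
        obtain ⟨c2, d2, e2⟩ := r.ex c
        rw [e2]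
        exact (S.f1_comm _ _).symm.mul_right ((rt_comm k 1 d2).map S.f2)
    by_cases h0 : c = 0
    · rw [h0, h.zero, ← map_one S.f2] at hc
      exact (Su.xu_ne (one_ne_zero (α := F))).1 (by simpa [rt, mul_inv_eq_iff_eq_mul] using S.f2_inj hc)
    · exact (h.long c _ h0).2 hc.symm

/-- an involution centralising a diagonal root group normalises its conjugates -/
theorem Gd.inv_norm (h : Gd S H p ρ) (hF : Fq F) (hH : H ≤ S.C) {s : G} (hsH : s ∈ H) (hss : s * s = 1)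
    (hs : ∀ b, Commute s (ρ b)) {x : G} (hx : x ∈ H) (b : F) :
    ∃ c, s * (x * ρ b * x⁻¹) * s⁻¹ = x * ρ c * x⁻¹ := by
  have h1 := h.conj hH hx
  have h2 := h1.conj hH hsH
  obtain ⟨g, k, r⟩ := h.exists_rg hF hH
  obtain ⟨g1, k1, r1⟩ := h1.exists_rg hF hH
  obtain ⟨g2, k2, r2⟩ := h2.exists_rg hF hH
  have hs' : ∀ c, s * ρ c * s⁻¹ = ρ c := fun c => by rw [(hs c).eq]; group
  have hsi : ∀ y, s * (s * y * s⁻¹) * s⁻¹ = y := fun y => by
    rw [inv_eq_of_mul_eq_one_right hss, ← mul_assoc, ← mul_assoc, hss, one_mul, mul_assoc, hss, mul_one]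
  by_cases ho : om g g1 = 0
  · obtain ⟨c, hc⟩ := h.sub_of_om h1 hF r r1 ho b
    exact ⟨b, by rw [hc, hs']⟩
  have ho2 : om g g2 ≠ 0 := fun e => ho (by
    rw [om_symm, r.om_eq hF.two_ne r1 fun b => ?_, neg_zero]
    obtain ⟨c, hc⟩ := h.sub_of_om h2 hF r r2 e b
    exact ⟨c, by rw [← hsi (x * ρ b * x⁻¹), hc, hs']⟩)
  obtain ⟨c, hc⟩ : ∃ c, om (rt g c * g1) g2 = 0 :=
    ⟨-om g1 g2 / (om g g1 * om g g2), by rw [om_rt]; field_simp; ring⟩
  obtain ⟨a, d, e⟩ := r.s1 c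
  have r3 := r1.conj (rt g c) (rt k d)
  have r4 := r3.conj (rt g c) (rt k d)
  rw [← e] at r3 r4
  have h5 := (h1.conj hH (h.mem a)).sub_of_om h2 hF r3 r2 hc
  have h6 := r4.om_eq hF.two_ne r1 fun b => by
    obtain ⟨b1, e1⟩ := h5 b
    obtain ⟨b2, e2⟩ := h5 b1
    refine ⟨b2, ?_⟩
    calc _ = s * ρ a * s⁻¹ * (s * (x * ρ b1 * x⁻¹) * s⁻¹) * (s * ρ a * s⁻¹)⁻¹ := by
          rw [← hsi (x * ρ b * x⁻¹), e1]; group
      _ = _ := by rw [hs', e2]
  rw [← mul_assoc, ← rt_add, om_symm, om_rt, om_self, zero_add, neg_eq_zero, mul_assoc] at h6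
  have h7 : c = 0 := by
    have := (mul_eq_zero.1 h6).resolve_right (mul_ne_zero ho ho)
    exact (mul_eq_zero.1 (by linear_combination this : 2 * c = 0)).resolve_left hF.two_ne
  rw [h7, rt_zero, one_mul] at hc
  exact h1.sub_of_om h2 hF r1 r2 hc b

end NL

open NL

variable {F : Type*} [Field F] [Fintype F] {G : Type*} [Group G] [Finite G]

/-- PLAN, step NL -/
theorem Su.norm_of_max (S : Su F G) (hF : Fq F) (p : ℕ) [Fact p.Prime] [CharP F p] {H : Subgroup G} (hH : H ≤ S.C)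
    {r : F → G} (hr : ∀ b c, r (b + c) = r b * r c) (hr1 : ∀ b, r b = 1 → b = 0) (hrH : ∀ b, r b ∈ H)
    (hlong : ∀ b X, b ≠ 0 → r b ≠ S.f1 X ∧ r b ≠ S.f2 X)
    (hmax : ∀ x ∈ H, x ^ p = 1 → (∀ b, Commute x (r b)) → ∃ b, x = r b)
    {s : G} (hsH : s ∈ H) (hss : s * s = 1) (hs : ∀ b, Commute s (r b))
    (hsc : ∀ x ∈ H, x ^ p = 1 → Commute x s → ∃ b, x = r b) :
    ∀ h ∈ H, ∀ b, ∃ c, h * r b * h⁻¹ = r c := by
  intro x hx b
  have h : Gd S H p r := ⟨hr, hr1, hrH, hlong, hmax⟩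
  have h1 := h.conj hH hx
  obtain ⟨g, k, r0⟩ := h.exists_rg hF hH
  obtain ⟨g1, k1, r1⟩ := h1.exists_rg hF hH
  by_cases ho : om g g1 = 0
  · exact h.sub_of_om h1 hF r0 r1 ho b
  refine hsc _ (h1.mem b) (h1.pow_char b) ?_
  obtain ⟨c, hc⟩ := h.inv_norm hF hH hsH hss hs hx b
  obtain ⟨c1, d1, e1⟩ := r1.ex (c - b)
  have r2 := r0.conj (rt g1 c1) (rt k1 d1)
  have e2 := h1.sub c b
  beta_reduce at e1 e2
  rw [← e1, e2, ← hc] at r2
  have h3 := r0.om_eq hF.two_ne r2 fun a => by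
    obtain ⟨a1, e3⟩ := h.inv_norm hF hH hsH hss hs (H.inv_mem (h1.mem b)) a
    refine ⟨a1, ?_⟩
    set y := x * r b * x⁻¹
    calc _ = s * y * (s⁻¹ * (y⁻¹ * r a * y⁻¹⁻¹) * s) * y⁻¹ * s⁻¹ := by group
      _ = s * y * (s * (y⁻¹ * r a * y⁻¹⁻¹) * s⁻¹) * y⁻¹ * s⁻¹ := by rw [inv_eq_of_mul_eq_one_right hss]
      _ = s * r a1 * s⁻¹ := by rw [e3]; group
      _ = r a1 := mul_inv_eq_iff_eq_mul.2 (hs a1).eq
  rw [om_rt, om_self, zero_add, mul_assoc] at h3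
  have h4 : om g1 g ≠ 0 := by rw [om_symm]; exact neg_ne_zero.2 ho
  rw [(mul_eq_zero.1 h3).resolve_right (mul_ne_zero h4 h4), rt_zero, map_one, one_mul] at e1
  have h5 : c - b = 0 := by
    by_contra h5
    exact (h1.long _ _ h5).2 e1
  rw [sub_eq_zero.1 h5] at hc
  exact (mul_inv_eq_iff_eq_mul.1 hc : Commute s _).symm

end Cfsg.Agent.L4C
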