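import Mathlib
import Cfsg.Agent.L4C.NL
import Cfsg.Agent.Inv.SPE
import Cfsg.Agent.Inv.SylowElt

/-! # `L₄(q)` from an involution centraliser: the centraliser of a root group is not in `C(t)` (step NT) -/

set_option autoImplicit false

namespace Cfsg.Agent.L4C

namespace NL

variable {F : Type*} [Field F] {G : Type*} [Group G] (S : Su F G)

/-- the conjugate of a setup -/
def cj (g : G) : Su F G where
  κ := (MulAut.conj g).toMonoidHom.comp S.κ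
  w := g * S.w * g⁻¹
  ker x := ((MulAut.conj g).map_eq_one_iff).trans (S.ker x)
  ww := by rw [conj_mul, S.ww]; group
  wκ x := by
    change g * S.w * g⁻¹ * (g * S.κ x * g⁻¹) = g * S.κ (Dl.swap x) * g⁻¹ * (g * S.w * g⁻¹)
    rw [conj_mul, conj_mul, S.wκ]
  cent y := by
    change Commute y (g * S.κ _ * g⁻¹) ↔ ∃ x, y = g * S.κ x * g⁻¹ ∨ y = g * S.κ x * g⁻¹ * (g * S.w * g⁻¹)
    have e : ∀ z, g⁻¹ * y * g = z ↔ y = g * z * g⁻¹ := fun z =>
      ⟨fun h => by rw [← h]; group, fun h => by rw [h]; group⟩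
    simp only [conj_mul, ← e, ← exists_or.symm.symm]
    rw [← S.cent]
    exact ⟨fun h => by simpa [mul_assoc] using h.map (MulAut.conj g⁻¹),
      fun h => by simpa [mul_assoc] using h.map (MulAut.conj g)⟩

theorem cj_t (g : G) : (cj S g).t = g * S.t * g⁻¹ := rfl

/-- the Sylow `p`-subgroup of `C` -/
def pp (b c : F) : G := S.f1 (xu b) * S.f2 (xu c)

theorem pp_mul (b c b' c' : F) : pp S b c * pp S b' c' = pp S (b + b') (c + c') := by
  rw [pp, pp, f12_mul, ← xu_add, ← xu_add, pp]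
theorem pp_zero : pp S 0 0 = 1 := by simp [pp, xu_zero]
theorem pp_inv (b c : F) : (pp S b c)⁻¹ = pp S (-b) (-c) := by rw [pp, f12_inv, ← xu_neg, ← xu_neg, pp]
theorem pp_comm (b c b' c' : F) : Commute (pp S b c) (pp S b' c') := by
  rw [Commute, SemiconjBy, pp_mul, pp_mul, add_comm b, add_comm c]
theorem pp_inj (h2 : (2 : F) ≠ 0) {b c b' c' : F} (h : pp S b c = pp S b' c') : b = b' ∧ c = c' :=
  (f12_un S h2 (un_xu _) (un_xu _) h).imp xu_inj xu_inj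
theorem x1_pp (c : F) : S.x1 c = pp S c 0 := by simp [pp, xu_zero, Su.x1]
theorem pp_mem_N (b c : F) : pp S b c ∈ S.N := S.K_le_N (mul_mem (S.f1_mem_K _) (S.f2_mem_K _))
theorem t_pp (b c : F) : Commute S.t (pp S b c) := (S.mem_C_iff.1 (S.N_le_C (pp_mem_N S b c))).symm
theorem pp_pow (p : ℕ) [CharP F p] (b c : F) : pp S b c ^ p = 1 := by
  rw [pp, (S.f1_comm _ _).mul_pow, ← map_pow, ← map_pow, (un_xu b).pow_char p, (un_xu c).pow_char p]; simp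
theorem w_pp (b c : F) : S.w * pp S b c = pp S c b * S.w := by
  rw [pp, pp, (S.f1_comm (xu c) _).eq, ← S.w_f1 (xu b), ← S.w_f2 (xu c)]
  calc _ = S.w * (S.f1 (xu b) * (S.w * S.w) * S.f2 (xu c) * (S.w * S.w)) := by rw [S.ww, mul_one, mul_one]
    _ = _ := by group

theorem pp_Z {b c : F} (h : pp S b c ∈ S.Z) : b = 0 ∧ c = 0 := by
  rw [pp, S.f12, S.κ_mem_Z] at h
  obtain ⟨x, y, h1, h2⟩ := h
  exact ⟨by simpa [xu_coe] using congrFun (congrFun h1 0) 1, by simpa [xu_coe] using congrFun (congrFun h2 0) 1⟩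

theorem cent_N {g : G} (hg : g ∈ S.N) (h : Commute g (pp S 1 1)) : ∃ b c, ∃ z ∈ S.Z, g = pp S b c * z := by
  obtain ⟨y, rfl⟩ := hg
  have h1 := h.eq
  rw [pp, S.f12, ← map_mul, ← map_mul, S.eq_iff] at h1
  obtain ⟨l, h1, h2⟩ := h1
  simp only [Dl.mul_A, Dl.mul_B] at h1 h2
  have hA := y.detA_ne
  have hB := y.detB_ne
  have hl : l = 1 := by
    by_contra hl
    have e1 := congrFun (congrFun h1 1) 0
    have e2 := congrFun (congrFun h1 1) 1
    simp only [mul2, Matrix.smul_apply, smul_eq_mul] at e1 e2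
    simp [xu_coe] at e1 e2
    have e3 : y.A 1 0 = 0 := (mul_eq_zero.1 (by linear_combination -e1 : (l - 1) * y.A 1 0 = 0)).resolve_left
      (sub_ne_zero.2 hl)
    have e4 : y.A 1 1 = 0 := (mul_eq_zero.1 (by linear_combination -e2 + e3 : (l - 1) * y.A 1 1 = 0)).resolve_left
      (sub_ne_zero.2 hl)
    exact hA (by simp [Matrix.det_fin_two, e3, e4])
  rw [hl, one_smul] at h1 h2
  obtain ⟨a1, a2⟩ := upper_of_comm one_ne_zero h1
  obtain ⟨b1, b2⟩ := upper_of_comm one_ne_zero h2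
  have hd := y.h
  rw [Matrix.det_fin_two, a1, ← a2, mul_zero, sub_zero] at hA hd
  rw [Matrix.det_fin_two, b1, ← b2, mul_zero, sub_zero] at hB hd
  have hA' := left_ne_zero_of_mul hA
  have hB' := left_ne_zero_of_mul hB
  refine ⟨y.A 0 1 / y.A 0 0, y.B 0 1 / y.B 0 0, S.κ (Dl.dg _ _ _ _ hd), S.κ_mem_Z.2 ⟨y.A 0 0, y.B 0 0, ?_, ?_⟩, ?_⟩
  · simp [eq2, Dl.dg_A]
  · simp [eq2, Dl.dg_B]
  · rw [pp, S.f12, ← map_mul]
    refine congrArg S.κ (Dl.ext ?_ ?_)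
    · simp [eq2, Dl.mul_A, Dl.dg_A, xu_coe, a1, a2.symm, hA']
    · simp [eq2, Dl.mul_B, Dl.dg_B, xu_coe, b1, b2.symm, hB']

theorem inv_PZ (h2 : (2 : F) ≠ 0) {b c : F} {z : G} (hz : z ∈ S.Z) (h : pp S b c * z * (pp S b c * z) = 1) :
    pp S b c * z = 1 ∨ pp S b c * z = S.t := by
  rw [mul_assoc, ← mul_assoc z, ← (Su.comm_Z (pp_mem_N S b c) hz).eq, mul_assoc, ← mul_assoc, pp_mul] at h
  obtain ⟨h3, h4⟩ := pp_Z S (eq_inv_of_mul_eq_one_left h ▸ inv_mem (mul_mem hz hz))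
  rw [h3, h4, pp_zero, one_mul] at h
  rw [← two_mul] at h3 h4
  rw [(mul_eq_zero.1 h3).resolve_left h2, (mul_eq_zero.1 h4).resolve_left h2, pp_zero, one_mul]
  exact S.eq_t_of_mem_Z hz h

/-- `P` as a subgroup -/
def PP : Subgroup G where
  carrier := {g | ∃ b c, g = pp S b c}
  mul_mem' := by rintro _ _ ⟨b, c, rfl⟩ ⟨b', c', rfl⟩; exact ⟨_, _, pp_mul S b c b' c'⟩
  one_mem' := ⟨0, 0, (pp_zero S).symm⟩
  inv_mem' := by rintro _ ⟨b, c, rfl⟩; exact ⟨_, _, pp_inv S b c⟩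

/-- the centraliser of the diagonal root group -/
def YY : Subgroup G := Subgroup.centralizer (Set.range fun c => pp S c c)

theorem mem_YY {g : G} : g ∈ YY S ↔ ∀ c, Commute g (pp S c c) :=
  ⟨fun h c => (h _ ⟨c, rfl⟩ : Commute _ g).symm, fun h => by rintro _ ⟨c, rfl⟩; exact (h c).symm⟩
theorem pp_mem_YY (b c : F) : pp S b c ∈ YY S := (mem_YY S).2 fun _ => pp_comm S _ _ _ _
theorem w_mem_YY : S.w ∈ YY S := (mem_YY S).2 fun c => w_pp S c c
theorem Z_le_YY : S.Z ≤ YY S := fun _ hz => (mem_YY S).2 fun _ => (Su.comm_Z (pp_mem_N S _ _) hz).symm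

theorem cent_Y {g : G} (hY : g ∈ YY S) (hg : g ∈ S.C) :
    ∃ b c, ∃ z ∈ S.Z, g = pp S b c * z ∨ g = pp S b c * z * S.w := by
  rcases S.mem_C.1 hg with h | h
  · obtain ⟨b, c, z, hz, e⟩ := cent_N S h ((mem_YY S).1 hY 1)
    exact ⟨b, c, z, hz, Or.inl e⟩
  · obtain ⟨b, c, z, hz, e⟩ := cent_N S (h.mul_sw S.sw_w) ((mem_YY S).1 (mul_mem hY (w_mem_YY S)) 1)
    exact ⟨b, c, z, hz, Or.inr (by rw [← e, mul_assoc, S.ww, mul_one])⟩

theorem w_ne : S.w ≠ 1 ∧ S.w ≠ S.t :=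
  ⟨fun e => S.sw_w.not_mem_N (e ▸ one_mem _), fun e => S.sw_w.not_mem_N (e ▸ S.K_le_N S.t_mem_K)⟩

variable {S}

theorem mem_C_of_norm (h2 : (2 : F) ≠ 0) (hC : ∀ g, (∀ c, Commute g (S.x1 c)) → g ∈ S.C) {d : G}
    (h : ∀ x ∈ PP S, d * x * d⁻¹ ∈ PP S) : d ∈ S.C := by
  have h1 : ∀ b c, Commute (d⁻¹ * S.t * d) (pp S b c) := fun b c => by
    obtain ⟨b', c', e⟩ := h _ ⟨b, c, rfl⟩
    have := (t_pp S b' c').conj d⁻¹
    simpa [← e, mul_assoc] using this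
  have h3 : ∀ c, Commute (d⁻¹ * S.t * d) (S.x1 c) := fun c => by rw [x1_pp]; exact h1 c 0
  obtain ⟨b, c, z, hz, e⟩ := cent_N S (S.mem_N_of_comm (hC _ h3) (Su.xu_ne one_ne_zero) (h3 1)) (h1 1 1)
  have h4 := inv_PZ S h2 (b := b) (c := c) hz (by
    rw [← e, show d⁻¹ * S.t * d * (d⁻¹ * S.t * d) = d⁻¹ * (S.t * S.t) * d by group, S.t_sq]; group)
  rw [← e] at h4
  rcases h4 with h4 | h4
  · exact (S.t_ne h2 (by simpa [mul_assoc] using congrArg (fun y => d * y * d⁻¹) h4)).elim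
  · exact S.mem_C_iff.2 (show _ = _ by simpa [mul_assoc] using (congrArg (fun y => d * y) h4).symm)

theorem mem_C_of_rm (h2 : (2 : F) ≠ 0) (hC : ∀ g, (∀ c, Commute g (S.x1 c)) → g ∈ S.C) {d : G}
    (hd : d ∈ YY S) (h : ∀ b, d * pp S b (-b) * d⁻¹ ∈ PP S) : d ∈ S.C := by
  refine mem_C_of_norm h2 hC ?_
  rintro _ ⟨b, c, rfl⟩
  have e : pp S b c = pp S ((b + c) / 2) ((b + c) / 2) * pp S ((b - c) / 2) (-((b - c) / 2)) := by
    rw [pp_mul]; congr 1 <;> field_simp <;> ring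
  rw [e, ← conj_mul, ((mem_YY S).1 hd _).eq, mul_inv_cancel_right]
  exact mul_mem ⟨_, _, rfl⟩ (h _)

variable [Fintype F]

theorem no_long (S : Su F G) (hF : Fq F) {x : G} (hx : x ∈ S.C) (ht : x ≠ S.t) (hc : IsConj S.t x) {X : S2 F}
    (hX : Un X) (h1 : X ≠ 1) : ¬ Commute x (S.f1 X) := fun h => by
  obtain ⟨g, c, rfl⟩ := hX.exists_conj
  have hc0 : c ≠ 0 := by rintro rfl; simp [xu_zero] at h1
  have hg : S.f1 g ∈ S.C := S.N_le_C (S.K_le_N (S.f1_mem_K g))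
  obtain ⟨y, e, α, b, hy⟩ := S.cent_x1 hc0 (mul_mem (mul_mem (inv_mem hg) hx) hg)
    (by simpa [mul_assoc, Su.x1] using h.map (MulAut.conj (S.f1 g)⁻¹))
  have hc' : IsConj S.t (S.κ y) := hc.trans (isConj_iff.2 ⟨(S.f1 g)⁻¹, by rw [← e, inv_inv]⟩)
  refine S.not_conj_u hF (fun e' => ht ?_) (Or.inl fun Y => ?_) hc'
  · rw [← mul_inv_eq_iff_eq_mul.2 (S.mem_C_iff.1 hg).eq, ← e', ← e]; group
  · obtain ⟨u, hu⟩ := isConj_iff.1 hc'
    obtain ⟨l, h3, -⟩ := (S.ker (y * y)).1 (by rw [map_mul, ← hu, conj_mul, S.t_sq]; group)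
    have h4 := congrFun (congrFun h3 0) 1
    have h5 := y.detA_ne
    simp [Dl.mul_A, hy, xu_coe, Matrix.det_fin_two] at h4 h5
    rw [S.comm_f1_iff, hy, (mul_eq_zero.1 (by linear_combination h4 : 2 * α * α * b = 0)).resolve_left
      (mul_ne_zero (mul_ne_zero hF.two_ne h5) h5), xu_zero]
    simp

variable (p : ℕ) [Fact p.Prime] [CharP F p]

theorem pelt_pp (hF : Fq F) {g : G} (hg : g ∈ S.C) {k : ℕ} (hp : g ^ p ^ k = 1)
    (h : g * pp S 1 1 * g⁻¹ ∈ PP S) : g ∈ PP S := by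
  obtain ⟨U, V, hU, hV, rfl⟩ := S.pelt hF p hg hp
  obtain ⟨b, c, e⟩ := h
  rw [pp, f12_conj] at e
  obtain ⟨h1, h2⟩ := f12_un S hF.two_ne ((un_xu 1).conj U) (un_xu b) e
  have k : ∀ {U : S2 F} {b : F}, Un U → U * xu 1 * U⁻¹ = xu b → ∃ d, U = xu d := fun {U b} hU h => by
    obtain ⟨d, hd⟩ := eq_rt (g := 1) hU (by
      rw [mul_one, om_symm, om_of_eq (g := U) (k := 1) (c := b) one_ne_zero (by simpa [rt] using h), neg_zero])
    exact ⟨d, by simpa [rt] using hd⟩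
  obtain ⟨d1, rfl⟩ := k hU h1
  obtain ⟨d2, rfl⟩ := k hV h2
  exact ⟨d1, d2, rfl⟩

variable [Finite G]
include p

/-- `C_Y(s) ≤ C(t)` for the conjugates `s` of `t` that act on `P` like `w v` -/
theorem cent_le (hF : Fq F) (hC : ∀ g, (∀ c, Commute g (S.x1 c)) → g ∈ S.C) {s : G}
    (hs : ∀ b c, s * pp S b c = pp S (-c) (-b) * s) (hst : Commute S.t s) (hc : IsConj S.t s) {x : G}
    (hx : x ∈ YY S) (hxs : Commute x s) : x ∈ S.C := by
  have h2 := hF.two_ne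
  obtain ⟨g, rfl⟩ := isConj_iff.1 hc
  set s := g * S.t * g⁻¹
  have hm : ∀ x ∈ YY S ⊓ (cj S g).C, x ^ p = 1 → Commute x S.t → ∃ b, x = pp S b (-b) := fun x hx hp ht => by
    obtain ⟨b, c, rfl⟩ := pelt_pp p hF (S.mem_C_iff.2 ht) (k := 1) (by rwa [pow_one])
      ⟨1, 1, mul_inv_eq_iff_eq_mul.2 ((mem_YY S).1 hx.1 1).eq⟩
    have := ((cj S g).mem_C_iff.1 hx.2).eq
    rw [cj_t, hs, mul_left_inj] at this
    exact ⟨b, by rw [(pp_inj S h2 this).2]⟩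
  have hts : S.t ≠ s := fun e => by
    have := hs 1 0
    rw [← e, (t_pp S 1 0).eq, mul_left_inj] at this
    exact one_ne_zero ((pp_inj S h2 this).1.trans neg_zero)
  have hne : ∀ b, pp S b (-b) = 1 → b = 0 := fun b e => (pp_inj S h2 (e.trans (pp_zero S).symm)).1
  have htC : S.t ∈ (cj S g).C := (cj S g).mem_C_iff.2 hst
  refine mem_C_of_rm h2 hC hx fun b => ?_
  obtain ⟨c, e⟩ := (cj S g).norm_of_max hF p (H := YY S ⊓ (cj S g).C) inf_le_right (r := fun b => pp S b (-b))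
    (fun b c => by rw [pp_mul, neg_add]) hne
    (fun b => ⟨pp_mem_YY S _ _, (cj S g).mem_C_iff.2 (by
      have := hs b (-b); rw [neg_neg] at this; exact this.symm)⟩)
    (fun b X hb => ⟨fun e => no_long (cj S g) hF htC hts hc.symm (X := X)
        (un_of_pow p (k := 1) ((cj S g).f1_inj (by rw [pow_one, map_pow, ← e, pp_pow, map_one])))
        (fun e' => hb (hne b (by rw [e, e', map_one]))) (e ▸ t_pp S _ _),
      fun e => no_long (cj S g) hF (x := (cj S g).w * S.t * (cj S g).w)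
        (mul_mem (mul_mem (cj S g).w_mem_C htC) (cj S g).w_mem_C) (fun e' => hts (by
          have h3 := ((cj S g).mem_C_iff.1 (cj S g).w_mem_C).eq
          rw [← e', ← mul_assoc, ← mul_assoc, (cj S g).ww, one_mul, mul_left_inj] at h3
          exact h3.trans e'))
        (hc.symm.trans (isConj_iff.2 ⟨(cj S g).w, by rw [(cj S g).w_inv]⟩)) (X := X)
        (un_of_pow p (k := 1) ((cj S g).f2_inj (by rw [pow_one, map_pow, ← e, pp_pow, map_one])))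
        (fun e' => hb (hne b (by rw [e, e', map_one]))) (by
          rw [← (cj S g).w_f2, ← e]
          simpa [(cj S g).w_inv] using (t_pp S b (-b)).map (MulAut.conj (cj S g).w))⟩)
    (fun x hx hp h => hm x hx hp (S.mem_C_iff.1 (hC x fun c => by
      have e : S.x1 c = pp S (c / 2) (c / 2) * pp S (c / 2) (-(c / 2)) := by
        rw [x1_pp, pp_mul]; congr 1 <;> field_simp <;> ring
      rw [e]
      exact ((mem_YY S).1 hx.1 _).mul_right (h _))))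
    (s := S.t) ⟨Z_le_YY S S.t_mem_Z, htC⟩ S.t_sq (fun b => t_pp S _ _) hm x ⟨hx, (cj S g).mem_C_iff.2 hxs⟩ b
  exact ⟨_, _, e⟩

theorem mem_C_of_conj (hF : Fq F) (hC : ∀ g, (∀ c, Commute g (S.x1 c)) → g ∈ S.C) {s s' d : G}
    (hs : ∀ b c, s * pp S b c = pp S (-c) (-b) * s) (hst : Commute S.t s) (hc : IsConj S.t s)
    (hs' : ∀ b c, s' * pp S b c = pp S (-c) (-b) * s') (hd : d ∈ YY S) (e : d * s' * d⁻¹ = s) : d ∈ S.C := by
  refine mem_C_of_rm hF.two_ne hC hd fun b => ?_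
  have hY := mul_mem (mul_mem hd (pp_mem_YY S b (-b))) (inv_mem hd)
  refine pelt_pp p hF (cent_le p hF hC hs hst hc hY ?_) (k := 1) (by rw [pow_one, conj_pow, pp_pow]; group)
    ⟨1, 1, mul_inv_eq_iff_eq_mul.2 ((mem_YY S).1 hY 1).eq⟩
  have := hs' b (-b)
  rw [neg_neg] at this
  exact e ▸ (show Commute _ s' from this.symm).map (MulAut.conj d)

theorem exists_d1 (hF : Fq F) (hC : ∀ g, (∀ c, Commute g (S.x1 c)) → g ∈ S.C) (hw : IsConj S.t S.w) :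
    ∃ d ∈ YY S, d * S.w * d⁻¹ = S.t := by
  have hP : IsPGroup p (PP S) := by
    rintro ⟨_, b, c, rfl⟩
    exact ⟨1, Subtype.ext (by simpa using pp_pow S p b c)⟩
  let P : Sylow p G := ⟨PP S, hP, fun {Q} hQ hle => by
    by_contra hne
    obtain ⟨x, hxQ, hxP, hx⟩ := Inv.exists_mem_normalizer_of_lt hQ hle fun h => hne (le_antisymm h hle)
    have h1 : ∀ y ∈ PP S, x * y * x⁻¹ ∈ PP S := fun y hy => (Subgroup.mem_normalizer_iff.1 hx y).1 hy
    obtain ⟨k, hk⟩ := hQ ⟨x, hxQ⟩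
    exact hxP (pelt_pp p hF (mem_C_of_norm hF.two_ne hC h1) (congrArg Subtype.val hk) (h1 _ ⟨1, 1, rfl⟩))⟩
  obtain ⟨g, hg⟩ := isConj_iff.1 hw
  obtain ⟨k, hk, h1⟩ := Inv.SE.exists_conj_le_sylow (H := S.C) P
    (by rintro _ ⟨b, c, rfl⟩; exact S.N_le_C (pp_mem_N S b c))
    ((hP.to_inf_left (K := Subgroup.centralizer {S.w})).map (MulAut.conj g⁻¹).toMonoidHom) (by
      rintro _ ⟨x, hx, rfl⟩
      have h2 : Commute x (g * S.t * g⁻¹) := hg ▸ Subgroup.mem_centralizer_singleton_iff.1 hx.2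
      exact S.mem_C_iff.2 (by simpa [mul_assoc] using h2.map (MulAut.conj g⁻¹)))
  obtain ⟨d, hd, h2⟩ := Inv.SE.exists_conj_le_sylow (H := YY S) P
    (by rintro _ ⟨b, c, rfl⟩; exact pp_mem_YY S b c) (hP.map (MulAut.conj (g * k⁻¹)).toMonoidHom) (by
      rintro _ ⟨_, ⟨b, c, rfl⟩, rfl⟩
      refine (mem_YY S).2 fun a => ?_
      obtain ⟨b', c', e⟩ := h1 _ ⟨pp S a a, ⟨⟨a, a, rfl⟩,
        Subgroup.mem_centralizer_singleton_iff.2 (w_pp S a a).symm⟩, rfl⟩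
      have := (pp_comm S b c b' c').conj (g * k⁻¹)
      simpa [← e, mul_assoc] using this)
  have h3 : d * (g * k⁻¹) ∈ S.C := mem_C_of_norm hF.two_ne hC fun x hx => by
    have : _ ∈ PP S := h2 _ ⟨x, hx, rfl⟩
    simpa [mul_assoc] using this
  have h4 : d * g ∈ S.C := by simpa [mul_assoc] using mul_mem h3 hk
  exact ⟨d, hd, by
    rw [← hg]; exact Eq.trans (by group) (mul_inv_eq_iff_eq_mul.2 (S.mem_C_iff.1 h4).eq)⟩

omit [Fintype F] p in
theorem exists_sq {z : G} (hz : z ∈ S.Z) (h : ¬ ∃ c ∈ S.Z, c * c = S.t) :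
    ∃ c ∈ S.Z, c * z * c = 1 ∨ c * z * c = S.t := by
  have h1 : ∀ k, ∀ y ∈ S.Z, y ^ 2 ^ k = 1 → y * y = 1 := fun k => by
    induction k with
    | zero => intro y _ e; rw [show y = 1 by simpa using e, one_mul]
    | succ k ih =>
      intro y hy e
      exact (S.eq_t_of_mem_Z (mul_mem hy hy) (ih _ (mul_mem hy hy) (by
        rwa [← pow_two, ← pow_mul, ← pow_succ']))).resolve_right fun e => h ⟨y, hy, e⟩
  obtain ⟨k, m, ⟨j, rfl⟩, e⟩ := Nat.exists_eq_two_pow_mul_odd (orderOf_pos z).ne'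
  refine ⟨z ^ j, pow_mem hz j, ?_⟩
  rw [← pow_succ, ← pow_add, show j + 1 + j = 2 * j + 1 by ring]
  exact S.eq_t_of_mem_Z (pow_mem hz _) (h1 k _ (pow_mem hz _) (by rw [← pow_mul, mul_comm, ← e, pow_orderOf_eq_one]))

theorem exists_d2 (hF : Fq F) (hC : ∀ g, (∀ c, Commute g (S.x1 c)) → g ∈ S.C) (hw : IsConj S.t S.w) :
    ∃ d ∈ YY S, (d * S.w * d⁻¹ = S.w ∧ d * S.t * d⁻¹ = S.t * S.w) ∨
      (d * S.w * d⁻¹ = S.t ∧ (d * S.t * d⁻¹ = S.w ∨ d * S.t * d⁻¹ = S.t * S.w)) := by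
  have h2 := hF.two_ne
  have htw : Commute S.w S.t := S.mem_C_iff.1 S.w_mem_C
  obtain ⟨d1, hd1, e1⟩ := exists_d1 p hF hC hw
  have hy : d1 * S.t * d1⁻¹ * (d1 * S.t * d1⁻¹) = 1 := by rw [conj_mul, S.t_sq]; group
  obtain ⟨b, c, z, hz, e | e⟩ := cent_Y S (mul_mem (mul_mem hd1 (Z_le_YY S S.t_mem_Z)) (inv_mem hd1))
    (S.mem_C_iff.2 (e1 ▸ (htw.conj d1).symm))
  · rcases inv_PZ S h2 hz (e ▸ hy) with h | h
    · exact (S.t_ne h2 (by simpa using e.trans h)).elim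
    · exact ((w_ne S).2 (by simpa using e1.trans (e.trans h).symm)).elim
  have hwz : ∀ c ∈ S.Z, S.w * c⁻¹ = c * S.w := fun c hc => by
    rw [← mul_inv_eq_iff_eq_mul, S.sw_w.inv_Z (inv_mem hc), inv_inv]
  have hzp : ∀ b c, z * pp S b c = pp S b c * z := fun b c => (Su.comm_Z (pp_mem_N S b c) hz).symm
  have hb : c = -b := by
    have e4 : pp S (b + c) (c + b) = pp S 0 0 := by
      rw [pp_zero, ← hy, e, ← pp_mul]
      calc _ = pp S b c * (z * pp S c b) * (S.w * z⁻¹⁻¹ * S.w⁻¹) := by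
            rw [hwz _ (inv_mem hz), hzp]; group
        _ = pp S b c * z * (pp S c b * S.w) * z * S.w := by rw [S.w_inv]; group
        _ = _ := by rw [← w_pp]; group
    linear_combination (pp_inj S h2 e4).1
  subst hb
  obtain ⟨d, hd, e2, e3⟩ : ∃ d ∈ YY S, d * S.w * d⁻¹ = S.t ∧ d * S.t * d⁻¹ = z * S.w := by
    refine ⟨pp S (-b / 2) (b / 2) * d1, mul_mem (pp_mem_YY S _ _) hd1, ?_, ?_⟩
    · rw [mul_inv_rev, ← mul_assoc, mul_assoc _ d1, mul_assoc _ _ d1⁻¹, e1, ← (t_pp S _ _).eq, mul_inv_cancel_right]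
    · rw [mul_inv_rev, ← mul_assoc, mul_assoc _ d1, mul_assoc _ _ d1⁻¹, e, pp_inv, mul_assoc, mul_assoc _ S.w, w_pp,
        ← mul_assoc, ← mul_assoc, ← mul_assoc, pp_mul, mul_assoc _ z, hzp, ← mul_assoc, pp_mul,
        show -b / 2 + b + -(b / 2) = 0 by field_simp; ring, show b / 2 + -b + -(-b / 2) = 0 by field_simp; ring,
        pp_zero, one_mul]
  have hct : ∀ c ∈ S.Z, c * S.t * c⁻¹ = S.t := fun c hc =>
    mul_inv_eq_iff_eq_mul.2 (Su.comm_Z (S.T_le_N (S.Z_le_T hc)) S.t_mem_Z).eq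
  by_cases h : ∃ c ∈ S.Z, c * c = S.t
  · obtain ⟨c, hc, h⟩ := h
    refine ⟨d⁻¹ * c * d, mul_mem (mul_mem (inv_mem hd) (Z_le_YY S hc)) hd, Or.inl ⟨?_, ?_⟩⟩
    · calc _ = d⁻¹ * (c * (d * S.w * d⁻¹) * c⁻¹) * d := by group
        _ = _ := by rw [e2, hct c hc, ← e2]; group
    · calc _ = d⁻¹ * (c * (d * S.t * d⁻¹) * c⁻¹) * d := by group
        _ = d⁻¹ * (S.t * (z * S.w)) * d := by
          rw [e3, ← mul_assoc c, mul_assoc _ S.w, hwz c hc, (Su.comm_Z (S.T_le_N (S.Z_le_T hc)) hz).eq, ← h,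
            mul_assoc z, ← mul_assoc c c, ← mul_assoc z, ← mul_assoc _ z,
            (Su.comm_Z (S.T_le_N (S.Z_le_T (mul_mem hc hc))) hz).eq]
        _ = _ := by rw [← e3, ← htw.eq]; nth_rewrite 1 [← e2]; group
  · obtain ⟨c, hc, h⟩ := exists_sq hz h
    refine ⟨c * d, mul_mem (Z_le_YY S hc) hd, Or.inr ⟨?_, ?_⟩⟩
    · calc _ = c * (d * S.w * d⁻¹) * c⁻¹ := by group
        _ = _ := by rw [e2, hct c hc]
    · have : c * d * S.t * (c * d)⁻¹ = c * z * c * S.w := by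
        calc _ = c * (d * S.t * d⁻¹) * c⁻¹ := by group
          _ = _ := by rw [e3, ← mul_assoc c, mul_assoc _ S.w, hwz c hc, ← mul_assoc]
      rw [this]
      exact h.imp (fun h => by rw [h, one_mul]) fun h => by rw [h]

theorem absurd_v (hF : Fq F) (hC : ∀ g, (∀ c, Commute g (S.x1 c)) → g ∈ S.C) {v : G}
    (vt : Commute v S.t) (vw : Commute v S.w) (vZ : ∀ z ∈ S.Z, Commute v z)
    (vx : ∀ c, v * S.x1 c = S.x1 (-c) * v) (hw : IsConj S.t S.w) (hv : IsConj S.t v) (htv : IsConj S.t (S.t * v))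
    (hwv : IsConj S.t (S.w * v)) (h : IsConj S.t (S.t * (S.w * v)) ∨
      (¬ IsSquare (-1 : F) ∧ ¬ IsConj S.t (S.t * S.w) ∧ ¬ IsConj S.t (S.t * (S.w * v)))) : False := by
  have h2 := hF.two_ne
  have htw : Commute S.w S.t := S.mem_C_iff.1 S.w_mem_C
  have vp : ∀ b c, v * pp S b c = pp S (-b) (-c) * v := fun b c => by
    have e : ∀ b c, pp S b c = S.x1 b * (S.w * S.x1 c * S.w) := fun b c => by rw [Su.x1, Su.x1, S.w_f1, pp]
    rw [e, e, ← mul_assoc, vx, mul_assoc, ← mul_assoc v, ← mul_assoc v, vw.eq, mul_assoc S.w, vx, mul_assoc,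
      mul_assoc, vw.eq]
    group
  have a1 : ∀ b c, S.w * v * pp S b c = pp S (-c) (-b) * (S.w * v) := fun b c => by
    rw [mul_assoc, vp, ← mul_assoc, w_pp, mul_assoc]
  have a2 : ∀ b c, S.t * (S.w * v) * pp S b c = pp S (-c) (-b) * (S.t * (S.w * v)) := fun b c => by
    rw [mul_assoc, a1, ← mul_assoc, (t_pp S _ _).eq, mul_assoc]
  have c1 : Commute S.t (S.w * v) := htw.symm.mul_right vt.symm
  have tt : ∀ x, S.t * (S.t * x) = x := fun x => by rw [← mul_assoc, S.t_sq, one_mul]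
  have ww : ∀ x, S.w * (S.w * x) = x := fun x => by rw [← mul_assoc, S.ww, one_mul]
  have wt : ∀ x, S.w * (S.t * x) = S.t * (S.w * x) := fun x => by rw [← mul_assoc, htw.eq, mul_assoc]
  obtain ⟨d0, hd0, H0⟩ := exists_d2 p hF hC hw
  -- correct `d0` by an element of the diagonal root group
  obtain ⟨b, e, he, e0⟩ : ∃ b e, (e = 1 ∨ e = S.t ∨ e = S.w ∨ e = S.t * S.w) ∧
      d0 * v * d0⁻¹ * v⁻¹ = pp S b b * e := by
    have k1 := vt.conj d0
    have k2 := vw.conj d0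
    have k3 : Commute (d0 * v * d0⁻¹) S.t ∧ Commute (d0 * v * d0⁻¹) S.w := by
      rcases H0 with ⟨x, y⟩ | ⟨x, y | y⟩ <;> rw [x] at k2 <;> rw [y] at k1
      · exact ⟨by simpa [mul_assoc, S.ww] using k1.mul_right k2, k2⟩
      · exact ⟨k2, k1⟩
      · exact ⟨k2, by simpa [tt] using k2.mul_right k1⟩
    have k4 : Commute (d0 * v * d0⁻¹ * v⁻¹) S.w := k3.2.mul_left vw.inv_left
    have k5 : ∀ b c, ∀ z ∈ S.Z, Commute (pp S b c * z) S.w → c = b ∧ (z = 1 ∨ z = S.t) := fun b c z hz h => by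
      have h := h.eq
      rw [← mul_assoc, w_pp, mul_assoc (pp S c b), mul_inv_eq_iff_eq_mul.1 (S.sw_w.inv_Z hz), ← mul_assoc,
        mul_left_inj] at h
      have e1 : pp S (-c + b) (-b + c) = (z * z)⁻¹ := by
        rw [← pp_mul, ← pp_inv, eq_mul_inv_of_mul_eq h]; group
      obtain ⟨e2, e3⟩ := pp_Z S (e1 ▸ inv_mem (mul_mem hz hz))
      rw [e2, e3, pp_zero, eq_comm, inv_eq_one] at e1
      exact ⟨by linear_combination e3, S.eq_t_of_mem_Z hz e1⟩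
    obtain ⟨b, c, z, hz, e | e⟩ := cent_Y S (g := d0 * v * d0⁻¹ * v⁻¹) ((mem_YY S).2 fun c => by
      have h1 := ((mem_YY S).1 hd0 c).eq
      have h3 := ((mem_YY S).1 hd0 (-c)).inv_left.eq
      have h4 : v⁻¹ * pp S c c = pp S (-c) (-c) * v⁻¹ := by
        rw [inv_mul_eq_iff_eq_mul, ← mul_assoc, vp, neg_neg, mul_inv_cancel_right]
      rw [Commute, SemiconjBy, mul_assoc, h4, ← mul_assoc, mul_assoc _ d0⁻¹, h3, ← mul_assoc, mul_assoc d0, vp,
        neg_neg, ← mul_assoc, h1]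
      group) (S.mem_C_iff.2 (k3.1.mul_left vt.inv_left))
    · obtain ⟨rfl, h⟩ := k5 b c z hz (e ▸ k4)
      exact ⟨c, z, by tauto, e⟩
    · obtain ⟨rfl, h⟩ := k5 b c z hz (by
        rw [e] at k4; simpa [mul_assoc, S.ww] using k4.mul_left (Commute.refl S.w))
      exact ⟨c, z * S.w, by rcases h with rfl | rfl <;> simp, by rw [e, mul_assoc]⟩
  obtain ⟨d, hd, H, ev⟩ : ∃ d ∈ YY S, ((d * S.w * d⁻¹ = S.w ∧ d * S.t * d⁻¹ = S.t * S.w) ∨
      (d * S.w * d⁻¹ = S.t ∧ (d * S.t * d⁻¹ = S.w ∨ d * S.t * d⁻¹ = S.t * S.w))) ∧ d * v * d⁻¹ = e * v := by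
    have r1 : ∀ a, Commute (pp S a a) S.t := fun a => (t_pp S a a).symm
    have r2 : ∀ a, Commute (pp S a a) S.w := fun a => (show Commute _ _ from w_pp S a a).symm
    have r3 : ∀ x y a, Commute (pp S a a) y → d0 * x * d0⁻¹ = y → pp S a a * d0 * x * (pp S a a * d0)⁻¹ = y :=
      fun x y a h e => by rw [← mul_inv_eq_iff_eq_mul.2 h.eq, ← e]; group
    refine ⟨pp S (-b / 2) (-b / 2) * d0, mul_mem (pp_mem_YY S _ _) hd0, H0.imp
      (fun h => ⟨r3 _ _ _ (r2 _) h.1, r3 _ _ _ ((r1 _).mul_right (r2 _)) h.2⟩) fun h => ⟨r3 _ _ _ (r1 _) h.1,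
        h.2.imp (r3 _ _ _ (r2 _)) (r3 _ _ _ ((r1 _).mul_right (r2 _)))⟩, ?_⟩
    have r4 : ∀ a, Commute (pp S a a) e := fun a => by
      rcases he with rfl | rfl | rfl | rfl
      exacts [Commute.one_right _, r1 a, r2 a, (r1 a).mul_right (r2 a)]
    rw [mul_inv_rev, ← mul_assoc, mul_assoc _ d0, mul_assoc _ _ d0⁻¹, mul_inv_eq_iff_eq_mul.1 e0, pp_inv, mul_assoc,
      mul_assoc, vp, neg_neg, ← mul_assoc, ← mul_assoc, ← mul_assoc, pp_mul, mul_assoc _ e, ← (r4 _).eq, ← mul_assoc,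
      pp_mul, show -b / 2 + b + -b / 2 = 0 by field_simp; ring, pp_zero, one_mul]
  have hdC : d ∉ S.C := fun hc => by
    rw [mul_inv_eq_iff_eq_mul.2 (S.mem_C_iff.1 hc).eq] at H
    rcases H with ⟨-, y⟩ | ⟨-, y | y⟩
    exacts [(w_ne S).1 (by simpa using y), (w_ne S).2 y.symm, (w_ne S).1 (by simpa using y)]
  have q1 : d * (S.w * v) * d⁻¹ = d * S.w * d⁻¹ * (e * v) := by rw [← ev, conj_mul]
  have q2 : d * (S.t * (S.w * v)) * d⁻¹ = d * S.t * d⁻¹ * (d * S.w * d⁻¹ * (e * v)) := by rw [← q1, conj_mul]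
  rcases h with h | ⟨hsq, n1, n2⟩
  · have key : ∀ s, (∀ b c, s * pp S b c = pp S (-c) (-b) * s) →
        d * s * d⁻¹ = S.w * v ∨ d * s * d⁻¹ = S.t * (S.w * v) → False := fun s hs h' => hdC (h'.elim
      (mem_C_of_conj p hF hC a1 c1 hwv hs hd) (mem_C_of_conj p hF hC a2 ((Commute.refl _).mul_right c1) h hs hd))
    rcases H with ⟨x, y⟩ | ⟨x, y | y⟩ <;> rcases he with rfl | rfl | rfl | rfl <;>
      first
      | (refine key _ a1 ?_; rw [q1, x]; simp only [mul_assoc, tt, ww, wt, one_mul, true_or, or_true]; done)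
      | (refine key _ a2 ?_; rw [q2, x, y]; simp only [mul_assoc, tt, ww, wt, one_mul, true_or, or_true]; done)
  · have n3 : d * S.t * d⁻¹ ≠ S.t * S.w := fun e => n1 (isConj_iff.2 ⟨d, e⟩)
    obtain ⟨x, y⟩ : d * S.w * d⁻¹ = S.t ∧ d * S.t * d⁻¹ = S.w := by tauto
    have n4 : ¬ IsConj S.t (S.w * (S.t * (e * v))) := fun h' =>
      n2 (h'.trans (isConj_iff.2 ⟨d, by rw [q2, x, y]⟩).symm)
    obtain rfl : e = 1 := by
      rcases he with rfl | rfl | rfl | rfl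
      · rfl
      all_goals exact (n4 (by simpa only [mul_assoc, tt, ww, wt])).elim
    obtain ⟨l, hl, hl2⟩ := hF.exists_sq_ne
    have hz : S.κ (Dl.dg l l l⁻¹ l⁻¹ (by field_simp)) ∈ S.Z :=
      S.κ_mem_Z.2 ⟨l, l⁻¹, by simp [eq2, Dl.dg_A], by simp [eq2, Dl.dg_B]⟩
    have h3 := S.mem_C_iff.1 (cent_le p hF hC a1 c1 hwv (mul_mem (mul_mem hd (Z_le_YY S hz)) (inv_mem hd)) (by
      rw [← y, ← one_mul v, ← ev, conj_mul]
      exact ((Su.comm_Z (S.T_le_N (S.Z_le_T hz)) S.t_mem_Z).mul_right (vZ _ hz).symm).conj d))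
    rw [← x, Commute.conj_iff] at h3
    have h4 := S.sw_w.inv_Z hz
    rw [← h3.eq, mul_inv_cancel_right, eq_inv_iff_mul_eq_one, ← map_mul, S.ker] at h4
    obtain ⟨m, h5, h6⟩ := h4
    have h7 := congrFun (congrFun h5 0) 0
    have h8 := congrFun (congrFun h6 0) 0
    simp [Dl.mul_A, Dl.mul_B, Dl.dg_A, Dl.dg_B] at h7 h8
    field_simp at h8
    exact hsq ⟨l, by
      have : (l ^ 2 - 1) * (l ^ 2 + 1) = 0 := by linear_combination l ^ 2 * h7 - h8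
      linear_combination -(mul_eq_zero.1 this).resolve_left (sub_ne_zero.2 hl2)⟩

end NL

open NL

variable {F : Type*} [Field F] [Fintype F] {G : Type*} [Group G] [Finite G]

/-- PLAN, step NT: the centraliser of a root group is not contained in `C(t)` -/
theorem Su.nontriv (S : Su F G) (hF : Fq F) {ν : G} (h : S.Fu ν) :
    ∃ g, (∀ c, Commute g (S.x1 c)) ∧ g ∉ S.C := by
  by_contra hn
  have hC : ∀ g, (∀ c, Commute g (S.x1 c)) → g ∈ S.C := fun g hg => by_contra fun h => hn ⟨g, hg, h⟩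
  obtain ⟨p, _⟩ := CharP.exists F
  have : Fact p.Prime := ⟨CharP.char_is_prime F p⟩
  have hat : Commute S.a S.t := S.mem_C_iff.1 (S.N_le_C (S.K_le_N S.a_mem_K))
  have htt : Commute S.t' S.t := Su.comm_T S.t'_mem_T (S.Z_le_T S.t_mem_Z)
  have hat' := S.a_comm_t'
  obtain ⟨S', e1, e2, -, -, -, e3⟩ := S.rebase (f := ν * (S.a * S.t') * ν⁻¹)
    (by rw [← conj_mul, h.tt']; exact h.sw.mul_N (S.K_le_N S.t_mem_K))
    (by rw [conj_mul, mul_assoc S.a, ← mul_assoc S.t', ← hat'.eq, mul_assoc S.a, S.t'_sq, mul_one, S.a_sq]; group)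
  have e4 : S'.t = S.t := by rw [Su.t, e2, Su.t]
  have e5 : S'.x1 = S.x1 := by funext c; rw [Su.x1, e2, Su.x1]
  have e6 : S'.C = S.C := by rw [Su.C, e4, Su.C]
  have k1 : IsConj S.t S.t' := isConj_iff.2 ⟨ν, h.tt⟩
  have kc : ∀ x, IsConj x (ν * x * ν⁻¹) := fun x => isConj_iff.2 ⟨ν, rfl⟩
  have kN : ∀ {x y}, (∃ c ∈ S.N, c * x * c⁻¹ = y) → IsConj x y := fun ⟨c, _, e⟩ => isConj_iff.2 ⟨c, e⟩
  have q1 : S.t * (ν * (S.a * S.t') * ν⁻¹) = ν * S.a * ν⁻¹ := by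
    rw [← h.tt', conj_mul, hat'.eq, ← mul_assoc S.t', S.t'_sq, one_mul]
  have q2 : IsConj S.a (S.t * (ν * (S.a * S.t') * ν⁻¹ * S.t')) := by
    rw [← mul_assoc, q1, ← h.tt, conj_mul, hat.eq]
    obtain ⟨c, -, e⟩ := S.at_conj hF
    exact (isConj_iff.2 ⟨c, e⟩).trans (kc _)
  refine absurd_v p (S := S') (v := S.t') hF (by rwa [e5, e6]) (by rwa [e4]) ?_
    (fun z hz => Su.comm_Z (S.T_le_N S.t'_mem_T) (e3 ▸ hz)) (by rw [e5]; exact S.t'_x1) ?_ (by rwa [e4]) ?_ ?_ ?_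
  · rw [e1]; nth_rewrite 1 [← h.tt]; exact (hat.symm.mul_right htt.symm).conj ν
  · rw [e1, e4]; exact k1.trans ((kN (S.at'_conj hF)).symm.trans (kc _))
  · rw [e4]; exact k1.trans (isConj_iff.2 ⟨_, S.n1_t'⟩)
  · rw [e1, e4]; nth_rewrite 2 [← h.tt]
    rw [conj_mul, mul_assoc S.a, htt.eq]
    exact k1.trans ((kN (S.att'_conj hF)).symm.trans (kc _))
  · rw [e1, e4]
    by_cases hs : IsSquare (-1 : F)
    · exact Or.inl (k1.trans ((kN (S.a_conj_t' hF hs)).symm.trans q2))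
    · exact Or.inr ⟨hs, fun e => h.na hs (e.trans (q1 ▸ (kc _).symm)), fun e => h.na hs (e.trans q2.symm)⟩

end Cfsg.Agent.L4C
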