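import Mathlib
import Cfsg.Agent.L4C.Fus
import Cfsg.Agent.L4C.NonTriv
import Cfsg.Agent.GT.CoprimeSylow
import Cfsg.Agent.GT.PGroupChain

/-!
# `L₄(q)` from an involution centraliser: the centraliser of a root group
-/

set_option autoImplicit false

namespace Cfsg.Agent.L4C

open Matrix
open scoped Pointwise

variable {F : Type*} [Field F] [Fintype F] {G : Type*} [Group G]

omit [Fintype F] in
theorem un_xl (c : F) : Un (xl c) := by simp [un_iff, xl_coe]; norm_num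

/-- subgroups of `SL₂` without `-1` that are invariant under the diagonal matrices -/
theorem sl2_root (hF : Fq F) {B : Subgroup (S2 F)} (h1 : -1 ∉ B)
    (hd : ∀ X ∈ B, ∀ μ : F, μ ≠ 0 → ∃ Y ∈ B, Y.1 = !![X.1 0 0, μ * X.1 0 1; μ⁻¹ * X.1 1 0, X.1 1 1])
    {X : S2 F} (hX : X ∈ B) : (X.1 0 1 ≠ 0 → ∀ c, xu c ∈ B) ∧ (X.1 1 0 ≠ 0 → ∀ c, xl c ∈ B) := by
  obtain ⟨p, hp⟩ := CharP.exists F
  haveI : Fact p.Prime := ⟨CharP.char_is_prime F p⟩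
  have ho : Odd p := (Fact.out : p.Prime).odd_of_ne_two (hF.char_ne_two p)
  have h2 := hF.two_ne
  have key : ∀ Y ∈ B, Y.1 0 0 ≠ 0 := fun Y hY h0 => by
    obtain ⟨Y', hY', e⟩ := hd Y hY (-1) (by simp)
    have d := s2_det Y
    have : Y' * Y⁻¹ = -xl (2 * Y.1 1 0 * Y.1 1 1) := s2_ext (by
      rw [s2_mul, s2_inv, e, s2_neg]
      simp only [eq2, mul2, xl_coe]
      simp [h0] at d ⊢
      exact ⟨by linear_combination -d, by ring, by linear_combination -d⟩)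
    have := this ▸ B.mul_mem hY' (B.inv_mem hY)
    have := B.pow_mem this p
    rw [ho.neg_pow, (un_xl _).pow_char p] at this
    exact h1 this
  have h0 : X.1 0 1 * X.1 1 0 = 0 := by
    by_contra hne
    have ha := key X hX
    have hd' : X.1 1 1 ≠ 0 := by have := key _ (B.inv_mem hX); rwa [s2_inv] at this
    obtain ⟨Y, hY, e⟩ := hd X hX (X.1 0 0 * X.1 1 1 / (X.1 0 1 * X.1 1 0)) (div_ne_zero (mul_ne_zero ha hd') hne)
    refine key _ (B.mul_mem (B.inv_mem hY) hX) ?_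
    have k1 := left_ne_zero_of_mul hne
    have k2 := right_ne_zero_of_mul hne
    rw [s2_mul, s2_inv, e, mul2]
    simp
    field_simp
    ring
  have d := s2_det X
  obtain ⟨Y, hY, e⟩ := hd X hX (-1) (by simp)
  have hY' := B.mul_mem hY (B.inv_mem hX)
  constructor <;> intro h c <;> by_cases hc : c = 0
  · rw [hc, xu_zero]; exact B.one_mem
  · have k := (mul_eq_zero.1 h0).resolve_left h
    have ha := key X hX
    obtain ⟨W, hW, e'⟩ := hd _ hY' (c / (-2 * X.1 0 0 * X.1 0 1)) (div_ne_zero hc (by simp [h2, ha, h]))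
    convert hW using 1
    refine s2_ext ?_
    rw [e', s2_mul, s2_inv, e]
    simp only [eq2, mul2, xu_coe]
    simp [k] at d ⊢
    exact ⟨d.symm, by field_simp; ring, by linear_combination -d⟩
  · rw [hc, xl_zero]; exact B.one_mem
  · have k := (mul_eq_zero.1 h0).resolve_right h
    have ha : X.1 1 1 ≠ 0 := by have := key _ (B.inv_mem hX); rwa [s2_inv] at this
    obtain ⟨W, hW, e'⟩ := hd _ hY' ((-2 * X.1 1 1 * X.1 1 0) / c) (div_ne_zero (by simp [h2, ha, h]) hc)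
    convert hW using 1
    refine s2_ext ?_
    rw [e', s2_mul, s2_inv, e]
    simp only [eq2, mul2, xl_coe]
    simp [k] at d ⊢
    exact ⟨d.symm, by field_simp; ring, by linear_combination -d⟩

theorem mem_sup_comm {A B : Subgroup G} (h : ∀ a ∈ A, ∀ b ∈ B, Commute a b) {x : G} (hx : x ∈ A ⊔ B) :
    ∃ a ∈ A, ∃ b ∈ B, a * b = x := by
  have : x ∈ (↑(A ⊔ B) : Set G) := hx
  rwa [Subgroup.coe_mul_of_left_le_normalizer_right A B fun a ha => Subgroup.centralizer_le_normalizer _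
    fun b hb => (h a ha b hb).eq.symm] at this

/-- the largest `p`-subgroup of `O` invariant under `t` and `C_O(t)` -/
theorem exists_core [Finite G] {O : Subgroup G} (hO : Odd (Nat.card O)) {t : G} (tt : t * t = 1)
    (ht : t ∈ Subgroup.normalizer (O : Set G)) (p : ℕ) [Fact p.Prime] :
    ∃ P ≤ O, IsPGroup p P ∧ (∀ g ∈ Subgroup.normalizer (O : Set G), Commute g t → ∀ x ∈ P, g * x * g⁻¹ ∈ P) ∧
      ∀ A ≤ O, IsPGroup p A → (∀ x ∈ A, t * x * t⁻¹ ∈ A) → (∀ c ∈ O, Commute c t → ∀ x ∈ A, c * x * c⁻¹ ∈ A) →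
        A ≤ P := by
  have hA : Subgroup.zpowers t ≤ Subgroup.normalizer (O : Set G) := Subgroup.zpowers_le.2 ht
  have hc : (Nat.card (Subgroup.zpowers t)).Coprime (Nat.card O) := by
    rw [Nat.card_zpowers]
    exact (Nat.coprime_two_left.2 hO).coprime_dvd_left (orderOf_dvd_of_pow_eq_one (by rw [pow_two, tt]))
  have hs : Group.IsSolvable (Subgroup.zpowers t) ∨ Group.IsSolvable O := Or.inl inferInstance
  obtain ⟨P, hP⟩ := GT.CopAct.exists_invariant_sylow hA hc hs p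
  have key : ∀ A ≤ O, IsPGroup p A → (∀ x ∈ A, t * x * t⁻¹ ∈ A) →
      (∀ c ∈ O, Commute c t → ∀ x ∈ A, c * x * c⁻¹ ∈ A) → A ≤ P.1.map O.subtype := fun A h1 h2 h3 h4 x hx => by
    obtain ⟨Q, hQ, hQ'⟩ := GT.CopAct.exists_invariant_sylow_ge hA hc hs h1 h2
      (Subgroup.zpowers_le.2 (Subgroup.mem_normalizer_fintype h3))
    obtain ⟨c, hc, rfl⟩ := GT.CopAct.invariant_sylow_conj hA hc hs P Q hP hQ'
    obtain ⟨y, hy, e⟩ := hQ (h4 c c.2 (hc t (Subgroup.mem_zpowers t)).symm x hx)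
    refine ⟨c⁻¹ * y * c, show _ ∈ (P : Subgroup O) from ?_, by simp [show (y : G) = _ from e, mul_assoc]⟩
    simpa [Subgroup.mem_pointwise_smul_iff_inv_smul_mem] using
      (show y ∈ MulAut.conj c • (P : Subgroup O) from hy)
  let P0 : Subgroup G :=
    { carrier := {x | ∀ g ∈ Subgroup.normalizer (O : Set G), Commute g t → g * x * g⁻¹ ∈ P.1.map O.subtype}
      mul_mem' := fun hx hy g hg h => by rw [← conj_mul]; exact Subgroup.mul_mem _ (hx g hg h) (hy g hg h)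
      one_mem' := fun g _ _ => by simp
      inv_mem' := fun hx g hg h => by rw [← conj_inv]; exact Subgroup.inv_mem _ (hx g hg h) }
  have h0 : P0 ≤ P.1.map O.subtype := fun x hx => by simpa using hx 1 (Subgroup.one_mem _) (Commute.one_left t)
  refine ⟨P0, h0.trans (Subgroup.map_subtype_le _), (P.isPGroup'.map _).to_le h0, fun g hg h x hx k hk h' => ?_,
    fun A h1 h2 h3 h4 x hx g hg h => key (A.map (MulAut.conj g).toMonoidHom) ?_ (h2.map _) ?_ ?_ ⟨x, hx, rfl⟩⟩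
  · simpa [mul_assoc] using hx (k * g) (Subgroup.mul_mem _ hk hg) (h'.mul_left h)
  · rintro _ ⟨y, hy, rfl⟩
    exact (Subgroup.mem_normalizer_iff.1 hg y).1 (h1 hy)
  · rintro _ ⟨y, hy, rfl⟩
    exact ⟨_, h3 y hy, by simp [mul_assoc, ← h.inv_inv.eq, h.left_comm]⟩
  · rintro c hc hct _ ⟨y, hy, rfl⟩
    refine ⟨_, h4 (g⁻¹ * c * g) ((Subgroup.mem_normalizer_iff''.1 hg c).1 hc)
      ((h.inv_left.mul_left hct).mul_left h) y hy, by simp [mul_assoc]⟩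

/-- two elements inverted by `t` in a group of odd order in which `C(t)` is central -/
theorem comm_of_inverted [Finite G] {P : Subgroup G} (hP : ∀ x ∈ P, Odd (orderOf x)) {t : G} (tt : t * t = 1)
    (ht : ∀ x ∈ P, t * x * t⁻¹ ∈ P) (hz : ∀ c ∈ P, Commute c t → ∀ x ∈ P, Commute c x) {x y : G} (hx : x ∈ P)
    (hy : y ∈ P) (ix : t * x * t⁻¹ = x⁻¹) (iy : t * y * t⁻¹ = y⁻¹) :
    ∃ c ∈ P, Commute c t ∧ x * y * x⁻¹ * y⁻¹ = c := by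
  have ti := Holt.inv_eq_of_sq tt
  have hu : x * y * t * (x * y)⁻¹ * t ∈ P := by
    have := P.mul_mem (P.mul_mem hx hy) (ht _ (P.inv_mem (P.mul_mem hx hy)))
    rwa [ti, ← mul_assoc, ← mul_assoc] at this
  obtain ⟨o, ⟨k, rfl⟩, hc⟩ := Holt.adj_left (O := Subgroup.zpowers (x * y * t * (x * y)⁻¹ * t))
    (fun o ho => hP o (Subgroup.zpowers_le.2 hu ho)) tt (Subgroup.mem_zpowers _)
  have io : t * (x * y * t * (x * y)⁻¹ * t) ^ k * t⁻¹ = ((x * y * t * (x * y)⁻¹ * t) ^ k)⁻¹ := by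
    rw [← conj_zpow, ← _root_.inv_zpow]
    congr 1
    simp only [_root_.mul_inv_rev, inv_inv, ti, mul_assoc, tt, mul_one]
  have ho := P.zpow_mem hu k
  simp only at hc
  generalize (x * y * t * (x * y)⁻¹ * t) ^ k = o at *
  have hm := P.mul_mem ho (P.mul_mem hx hy)
  have e : o⁻¹ * (x⁻¹ * y⁻¹) = o * (x * y) := by rw [← io, ← ix, ← iy, conj_mul, conj_mul, ← hc.eq]; group
  refine ⟨_, P.mul_mem hm hm, hc.mul_left hc, ?_⟩
  have c1 := (hz _ hm hc _ ho).eq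
  have c2 := (hz _ hm hc _ (P.mul_mem hx hy)).eq
  calc _ = o⁻¹ * (o * (x * y) * o) * (o⁻¹ * (x⁻¹ * y⁻¹)) := by group
    _ = _ := by rw [e, c1]; group

namespace Su

variable (S : Su F G)

/-- the setup with the two blocks exchanged -/
def op : Su F G where
  κ := S.κ.comp Dl.swap
  w := S.w
  ker x := (S.ker _).trans (exists_congr fun _ => and_comm)
  ww := S.ww
  wκ x := S.wκ _
  cent g := by
    have := S.cent g
    rw [show S.κ (Dl.inl (-1)) = S.f2 (-1) from S.t_eq] at this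
    exact this.trans ⟨fun ⟨x, h⟩ => ⟨Dl.swap x, h⟩, fun ⟨x, h⟩ => ⟨Dl.swap x, h⟩⟩
omit [Fintype F] in
theorem op_T {τ : G} (h : τ ∈ S.op.T) : τ ∈ S.T := by
  obtain ⟨x, ⟨h1, h2, h3, h4⟩, rfl⟩ := h
  exact ⟨Dl.swap x, ⟨h3, h4, h1, h2⟩, rfl⟩
omit [Fintype F] in
theorem dg_f1 (X : S2 F) {μ : F} (hμ : μ ≠ 0) : ∃ τ ∈ S.T, ∃ Y : S2 F,
    Y.1 = !![X.1 0 0, μ * X.1 0 1; μ⁻¹ * X.1 1 0, X.1 1 1] ∧ τ * S.f1 X * τ⁻¹ = S.f1 Y := by
  have e : μ * 1 * (μ⁻¹ * 1) = 1 := by field_simp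
  obtain ⟨Y, h1, h2⟩ := S.κ_f1 (Dl.dg μ 1 μ⁻¹ 1 e) X
  refine ⟨_, S.κ_mem_T.2 (Dl.dg_mem _ _ _ _ e), Y, ?_, h2⟩
  rw [h1, Dl.inv_A, Dl.dg_A, Dl.dg_B]
  simp only [eq2, mul2, det_fin_two, adjugate_fin_two]
  simp
  refine ⟨?_, ?_, ?_, ?_⟩ <;> field_simp
theorem root1 (hF : Fq F) {B : Subgroup G} (h1 : S.t ∉ B) (hT : ∀ τ ∈ S.T, ∀ b ∈ B, τ * b * τ⁻¹ ∈ B) {X : S2 F}
    (hX : S.f1 X ∈ B) : (X.1 0 1 ≠ 0 → ∀ c, S.f1 (xu c) ∈ B) ∧ (X.1 1 0 ≠ 0 → ∀ c, S.f1 (xl c) ∈ B) :=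
  sl2_root hF (B := B.comap S.f1) h1 (fun X hX μ hμ => by
    obtain ⟨τ, hτ, Y, e1, e2⟩ := S.dg_f1 X hμ
    exact ⟨Y, show S.f1 Y ∈ B from e2 ▸ hT τ hτ _ hX, e1⟩) hX
theorem mono1 (hF : Fq F) {B : Subgroup G} (h1 : S.t ∉ B) (hT : ∀ τ ∈ S.T, ∀ b ∈ B, τ * b * τ⁻¹ ∈ B)
    (hu : ¬ ∀ c, S.f1 (xu c) ∈ B) (hl : ¬ ∀ c, S.f1 (xl c) ∈ B) {y : Dl F} (hy : S.κ y ∈ B) :
    (y.A 0 1 = 0 ∧ y.A 1 0 = 0) ∨ (y.A 0 0 = 0 ∧ y.A 1 1 = 0) := by
  obtain ⟨l, hl0, hl1⟩ := hF.exists_sq_ne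
  obtain ⟨Y, e1, e2⟩ := S.κ_f1 y (hd l hl0)⁻¹
  have : S.f1 (hd l hl0 * Y) ∈ B := by
    have := B.mul_mem (hT _ (S.hd_mem_T l hl0) _ hy) (B.inv_mem hy)
    rwa [mul_assoc, mul_assoc, ← mul_assoc (S.κ y), ← map_inv, e2, ← map_mul] at this
  have k := S.root1 hF h1 hT this
  have k1 : Y.1 0 1 = 0 := by simpa [s2_mul, mul2, hd_coe, hl0] using of_not_not fun h => hu (k.1 h)
  have k2 : Y.1 1 0 = 0 := by simpa [s2_mul, mul2, hd_coe, hl0] using of_not_not fun h => hl (k.2 h)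
  have e3 : Y.1 * y.A = y.A * (hd l hl0)⁻¹.1 := by rw [e1, Matrix.mul_assoc, y.inv_mul_A, Matrix.mul_one]
  have d := y.detA_ne
  rw [s2_inv] at e3
  simp only [eq2, mul2, hd_coe, k1, k2, det_fin_two] at e3 d
  simp at e3
  obtain ⟨a1, a2, a3, a4⟩ := e3
  have hl2 : l - l⁻¹ ≠ 0 := fun h => hl1 (by rw [pow_two]; nth_rw 2 [sub_eq_zero.1 h]; exact mul_inv_cancel₀ hl0)
  have b1 : y.A 0 0 * y.A 0 1 = 0 := mul_left_cancel₀ hl2 (by linear_combination y.A 0 1 * a1 - y.A 0 0 * a2)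
  have b2 : y.A 1 0 * y.A 1 1 = 0 := mul_left_cancel₀ hl2 (by linear_combination y.A 1 1 * a3 - y.A 1 0 * a4)
  rcases mul_eq_zero.1 b1 with c1 | c1 <;> rcases mul_eq_zero.1 b2 with c2 | c2
  exacts [absurd (by simp [c1, c2]) d, Or.inr ⟨c1, c2⟩, Or.inl ⟨c1, c2⟩, absurd (by simp [c1, c2]) d]
theorem mono2 (hF : Fq F) {B : Subgroup G} (h1 : S.t ∉ B) (hT : ∀ τ ∈ S.T, ∀ b ∈ B, τ * b * τ⁻¹ ∈ B)
    (hu : ¬ ∀ c, S.f2 (xu c) ∈ B) (hl : ¬ ∀ c, S.f2 (xl c) ∈ B) {y : Dl F} (hy : S.κ y ∈ B) :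
    (y.B 0 1 = 0 ∧ y.B 1 0 = 0) ∨ (y.B 0 0 = 0 ∧ y.B 1 1 = 0) :=
  S.op.mono1 hF (y := Dl.swap y) (by rwa [S.t_eq] at h1) (fun τ h => hT τ (S.op_T h)) hu hl hy
theorem not_mem_of_odd (hF : Fq F) {B : Subgroup G} (hB : ∀ b ∈ B, Odd (orderOf b)) : S.t ∉ B := fun h => by
  have := hB _ h
  rw [S.order_t hF.two_ne] at this
  exact absurd this (by decide)
/-- a torus invariant subgroup of odd order moved by `t'` contains a root group -/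
theorem exists_root (hF : Fq F) {B : Subgroup G} (hC : B ≤ S.C) (hB : ∀ b ∈ B, Odd (orderOf b))
    (hT : ∀ τ ∈ S.T, ∀ b ∈ B, τ * b * τ⁻¹ ∈ B) {b : G} (hb : b ∈ B) (h : ¬ Commute b S.t') :
    (∀ c, S.f1 (xu c) ∈ B) ∨ (∀ c, S.f1 (xl c) ∈ B) ∨ (∀ c, S.f2 (xu c) ∈ B) ∨ ∀ c, S.f2 (xl c) ∈ B := by
  by_contra hc
  simp only [not_or] at hc
  obtain ⟨y, rfl⟩ := S.mem_N_of_odd (hC hb) (hB b hb)
  have h1 := S.not_mem_of_odd hF hB
  have k : S.κ y * S.t' ≠ S.t * S.t' * S.κ y := fun e => h1 (by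
    have := B.mul_mem hb (hT _ S.t'_mem_T _ (B.inv_mem hb))
    rwa [← mul_assoc, ← mul_assoc, e, mul_inv_cancel_right, mul_inv_cancel_right] at this)
  rw [tt'_eq, t', ← map_mul, ← map_mul, Ne, eq_iff] at k
  change ¬ _ * _ = _ * _ at h
  rw [t', ← map_mul, ← map_mul, eq_iff] at h
  simp only [Dl.mul_A, Dl.mul_B, Dl.dg_A, Dl.dg_B, eq2, mul2, Matrix.smul_apply] at h k
  rcases S.mono1 hF h1 hT hc.1 hc.2.1 hb with ⟨a1, a2⟩ | ⟨a1, a2⟩ <;>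
    rcases S.mono2 hF h1 hT hc.2.2.1 hc.2.2.2 hb with ⟨b1, b2⟩ | ⟨b1, b2⟩
  exacts [h ⟨1, by simp [a1, a2, b1, b2]⟩, k ⟨-1, by simp [a1, a2, b1, b2]⟩, k ⟨1, by simp [a1, a2, b1, b2]⟩,
    h ⟨-1, by simp [a1, a2, b1, b2]⟩]
theorem odd_of_p (hF : Fq F) (p : ℕ) [Fact p.Prime] [CharP F p] {B : Subgroup G} (hB : IsPGroup p B) :
    ∀ b ∈ B, Odd (orderOf b) := fun b hb => by
  obtain ⟨k, hk⟩ := hB ⟨b, hb⟩
  exact Odd.of_dvd_nat ((Fact.out : p.Prime).odd_of_ne_two (hF.char_ne_two p)).pow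
    (orderOf_dvd_of_pow_eq_one (congrArg Subtype.val hk))
theorem le_root (hF : Fq F) (p : ℕ) [Fact p.Prime] [CharP F p] {B : Subgroup G} (hC : B ≤ S.C) (hB : IsPGroup p B)
    (hT : ∀ τ ∈ S.T, ∀ b ∈ B, τ * b * τ⁻¹ ∈ B) (h0 : ∀ c, S.x1 c ∈ B) (hu : ¬ ∀ c, S.f2 (xu c) ∈ B)
    (hl : ¬ ∀ c, S.f2 (xl c) ∈ B) {b : G} (hb : b ∈ B) : ∃ c, b = S.x1 c := by
  obtain ⟨k, hk⟩ := hB ⟨b, hb⟩
  obtain ⟨U, V, hU, hV, rfl⟩ := S.pelt hF p (hC hb) (congrArg Subtype.val hk)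
  have h1 := S.not_mem_of_odd hF (odd_of_p hF p hB)
  obtain rfl : V = 1 := by
    rcases S.mono2 hF h1 hT hu hl (S.f12 U V ▸ hb) with ⟨a1, a2⟩ | ⟨a1, a2⟩
    · rw [hV.eq_xu a2, show V.1 0 1 = 0 from a1, xu_zero]
    · exact absurd (by rw [← un_iff.1 hV, show V.1 0 0 = 0 from a1, show V.1 1 1 = 0 from a2, add_zero]) hF.two_ne
  rw [map_one, mul_one] at hb ⊢
  refine ⟨_, congrArg S.f1 (hU.eq_xu (of_not_not fun h => h1 ?_))⟩
  exact (sl2_eq_top (B.comap S.f1) h0 ((S.root1 hF h1 hT hb).2 h)).ge (Subgroup.mem_top (-1))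

/-- the root group `k X₁₂ k⁻¹` -/
def rs (k : G) : Subgroup G where
  carrier := {x | ∃ c, x = k * S.x1 c * k⁻¹}
  mul_mem' := by rintro _ _ ⟨b, rfl⟩ ⟨c, rfl⟩; exact ⟨b + c, by rw [x1_add, conj_mul]⟩
  one_mem' := ⟨0, by simp [x1, xu_zero]⟩
  inv_mem' := by rintro _ ⟨b, rfl⟩; exact ⟨-b, by rw [x1, x1, xu_neg, map_inv, conj_inv]⟩
/-- the centraliser of `X₁₂` -/
def D : Subgroup G := Subgroup.centralizer (S.rs 1 : Set G)

omit [Fintype F] in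
theorem mem_rs (k : G) (c : F) : k * S.x1 c * k⁻¹ ∈ S.rs k := ⟨c, rfl⟩
omit [Fintype F] in
theorem mem_rs_one {x : G} : x ∈ S.rs 1 ↔ ∃ c, x = S.x1 c := by simp [rs]
omit [Fintype F] in
theorem conj_rs (g : G) {k x : G} (h : x ∈ S.rs k) : g * x * g⁻¹ ∈ S.rs (g * k) := by
  obtain ⟨c, rfl⟩ := h
  exact ⟨c, by group⟩
omit [Fintype F] in
theorem mem_D {g : G} : g ∈ S.D ↔ ∀ c, Commute g (S.x1 c) :=
  ⟨fun h c => (h _ (S.mem_rs_one.2 ⟨c, rfl⟩)).symm, fun h x hx => by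
    obtain ⟨c, rfl⟩ := S.mem_rs_one.1 hx; exact (h c).symm⟩
omit [Fintype F] in
theorem T_x1 {τ : G} (h : τ ∈ S.T) : ∃ μ : F, μ ≠ 0 ∧ ∀ c, τ * S.x1 c * τ⁻¹ = S.x1 (μ * c) := by
  obtain ⟨a, b, c, d, e, rfl⟩ := S.mem_T.1 h
  exact ⟨a / b, div_ne_zero (by rintro rfl; simp at e) (by rintro rfl; simp at e), S.dg_x1 _ _ _ _ e⟩
omit [Fintype F] in
theorem T_rs {k τ x : G} (hk : k ∈ Subgroup.normalizer (S.T : Set G)) (h : τ ∈ S.T) (hx : x ∈ S.rs k) :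
    τ * x * τ⁻¹ ∈ S.rs k := by
  obtain ⟨c, rfl⟩ := hx
  obtain ⟨μ, -, e⟩ := S.T_x1 (S.conj_T (Subgroup.inv_mem _ hk) h)
  exact ⟨μ * c, by rw [← e]; group⟩
omit [Fintype F] in
theorem rs_pow (p : ℕ) [CharP F p] {k x : G} (hx : x ∈ S.rs k) : x ^ p = 1 := by
  obtain ⟨c, rfl⟩ := hx
  rw [conj_pow, x1, ← map_pow, (un_xu c).pow_char p]; simp
omit [Fintype F] in
theorem rs_comm {k x y : G} (hx : x ∈ S.rs k) (hy : y ∈ S.rs k) : Commute x y := by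
  obtain ⟨b, rfl⟩ := hx
  obtain ⟨c, rfl⟩ := hy
  exact (show Commute (S.x1 b) (S.x1 c) by change _ = _; rw [← x1_add, ← x1_add, add_comm]).conj k
omit [Fintype F] in
theorem rs_all {k x u : G} (hk : k ∈ Subgroup.normalizer (S.T : Set G)) (hx : x ∈ S.rs k) (h1 : x ≠ 1)
    {A : Subgroup G} (hA : ∀ τ ∈ S.T, ∀ a ∈ A, τ * a * τ⁻¹ ∈ A) (h : ∀ a ∈ A, Commute x a) (hu : u ∈ S.rs k) :
    ∀ a ∈ A, Commute u a := fun a ha => by
  obtain ⟨b, rfl⟩ := hx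
  obtain ⟨c, rfl⟩ := hu
  by_cases hc : c = 0
  · simp [hc, x1, xu_zero]
  have hb : b ≠ 0 := by rintro rfl; simp [x1, xu_zero] at h1
  have e : c / b * 1 * (b / c * 1) = 1 := by field_simp
  have hτ := S.conj_T hk (S.κ_mem_T.2 (Dl.dg_mem _ _ _ _ e))
  have := (h _ (hA _ (S.T.inv_mem hτ) a ha)).conj (k * S.κ (Dl.dg _ _ _ _ e) * k⁻¹)
  rw [conj_conj', dg_x1, div_one, div_mul_cancel₀ _ hb] at this
  simpa [mul_assoc] using this
omit [Fintype F] in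
theorem f2_mem_D (X : S2 F) : S.f2 X ∈ S.D := S.mem_D.2 fun _ => (S.f1_comm _ _).symm
omit [Fintype F] in
theorem t_mem_D : S.t ∈ S.D := S.t_eq ▸ S.f2_mem_D _

variable [Finite G]

omit [Fintype F] in
theorem T_norm_O {τ : G} (h : τ ∈ S.T) : τ ∈ Subgroup.normalizer (Holt.OO S.D : Set G) := by
  refine GT.normalizer_le_normalizer_pPrimeCoreOf _ (Subgroup.mem_normalizer_fintype fun d hd => S.mem_D.2 fun c => ?_)
  obtain ⟨μ, -, e⟩ := S.T_x1 (S.T.inv_mem h)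
  have := (S.mem_D.1 hd (μ * c)).conj τ
  rw [← e] at this
  simpa [mul_assoc] using this
omit [Fintype F] in
theorem D_norm_O {d : G} (h : d ∈ S.D) : d ∈ Subgroup.normalizer (Holt.OO S.D : Set G) :=
  GT.le_normalizer_pPrimeCoreOf _ h
theorem isolated (hF : Fq F) {d : G} (hd : d ∈ S.D) (h : Commute S.t (d * S.t * d⁻¹)) : d * S.t * d⁻¹ = S.t := by
  by_contra hne
  exact NL.no_long S hF (S.mem_C_iff.2 h.symm) hne (isConj_iff.2 ⟨d, rfl⟩) (un_xu 1) (xu_ne one_ne_zero).1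
    (S.mem_D.1 (S.D.mul_mem (S.D.mul_mem hd S.t_mem_D) (S.D.inv_mem hd)) 1)
theorem comm_mem_O (hF : Fq F) {d : G} (hd : d ∈ S.D) : d * S.t * d⁻¹ * S.t⁻¹ ∈ Holt.OO S.D :=
  Holt.zstar (S.order_t hF.two_ne) S.t_mem_D (fun _ => S.isolated hF) d hd
theorem cent_O (hF : Fq F) {c : G} (hc : c ∈ Holt.OO S.D) (h : Commute c S.t) : ∃ b, ∃ z ∈ S.Z, c = S.x1 b * z := by
  obtain ⟨y, rfl, α, b, e⟩ := S.cent_x1 one_ne_zero (S.mem_C_iff.2 h) (S.mem_D.1 (GT.pPrimeCoreOf_le _ hc) 1)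
  have h1 : S.f2 (-1) ∉ Holt.OO S.D := S.t_eq ▸ S.not_mem_of_odd hF fun _ => Holt.odd_order_OO
  haveI : ((Holt.OO S.D).comap S.f2).Normal := ⟨fun X hX Y => by
    simpa using (Subgroup.mem_normalizer_iff.1 (S.D_norm_O (S.f2_mem_D Y)) _).1 hX⟩
  obtain ⟨β, hβ⟩ := scalar_of_comm (A := y.B) fun X => S.comm_f2_iff.1 (by
    obtain ⟨Y, -, e⟩ := S.κ_f2 y X
    have : S.f2 (Y * X⁻¹) ∈ Holt.OO S.D := by
      have := (Holt.OO S.D).mul_mem hc ((Subgroup.mem_normalizer_iff.1 (S.D_norm_O (S.f2_mem_D X)) _).1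
        ((Holt.OO S.D).inv_mem hc))
      rwa [← mul_assoc, ← mul_assoc, e, ← map_inv, ← map_mul] at this
    rcases sl2_normal hF ((Holt.OO S.D).comap S.f2) with k | k
    · rcases k _ this with k | k
      · rw [mul_inv_eq_one.1 k] at e
        exact mul_inv_eq_iff_eq_mul.1 e
      · exact absurd (k ▸ this) h1
    · exact absurd (k.ge (Subgroup.mem_top (-1))) h1)
  refine ⟨b, S.κ ((Dl.inl (xu b))⁻¹ * y), S.κ_mem_Z.2 ⟨α, β, ?_, ?_⟩, by rw [map_mul, map_inv]; simp [x1, f1]⟩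
  · rw [← map_inv, Dl.mul_A, Dl.inl_A, e, mul_smul_comm, ← s2_mul, inv_mul_cancel, s2_one]
  · rw [← map_inv, Dl.mul_B, Dl.inl_B, hβ, Matrix.one_mul]
theorem cent_P (hF : Fq F) (p : ℕ) [Fact p.Prime] [CharP F p] {P : Subgroup G} (hO : P ≤ Holt.OO S.D)
    (hP : IsPGroup p P) {c : G} (hc : c ∈ P) (h : Commute c S.t) : c ∈ S.rs 1 := by
  obtain ⟨b, z, hz, rfl⟩ := S.cent_O hF (hO hc) h
  obtain ⟨k, hk⟩ := hP ⟨_, hc⟩
  have hk' : (S.x1 b * z) ^ p ^ (k + 1) = 1 := by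
    rw [pow_succ, pow_mul, show (S.x1 b * z) ^ p ^ k = 1 from congrArg Subtype.val hk, one_pow]
  rw [(show Commute (S.x1 b) z from comm_Z (S.K_le_N (S.f1_mem_K _)) hz).mul_pow, pow_succ', pow_mul,
    S.rs_pow p (S.mem_rs_one.2 ⟨b, rfl⟩), one_pow, one_mul, ← pow_succ'] at hk'
  rw [S.no_pelt_t' hF p (S.N_le_C (S.T_le_N (S.Z_le_T hz))) hk' (comm_T (S.Z_le_T hz) S.t'_mem_T), mul_one]
  exact S.mem_rs_one.2 ⟨b, rfl⟩
/-- the invariant `p`-subgroup of `O(C(X₁₂))` -/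
theorem exists_P (hF : Fq F) (p : ℕ) [Fact p.Prime] [CharP F p] : ∃ P ≤ Holt.OO S.D, IsPGroup p P ∧
    (∀ τ ∈ S.T, ∀ x ∈ P, τ * x * τ⁻¹ ∈ P) ∧ (∀ X, ∀ x ∈ P, S.f2 X * x * (S.f2 X)⁻¹ ∈ P) ∧
    ∀ k ∈ Subgroup.normalizer (S.T : Set G), S.rs k ≤ S.D → (∀ x ∈ S.rs k, S.t * x * S.t⁻¹ = x⁻¹) → S.rs k ≤ P := by
  have ht := S.Z_le_T S.t_mem_Z
  obtain ⟨P, h1, h2, h3, h4⟩ := exists_core (Holt.odd_card_of_orders fun _ => Holt.odd_order_OO (H := S.D)) S.t_sq (S.T_norm_O ht) p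
  refine ⟨P, h1, h2, fun τ hτ => h3 τ (S.T_norm_O hτ) (comm_T hτ ht), fun X => h3 _ (S.D_norm_O (S.f2_mem_D X))
    (S.f1_comm _ _).symm, fun k hk hD hi => h4 _ ?_ (fun x => ⟨1, Subtype.ext (by simpa using S.rs_pow p x.2)⟩)
      (fun x hx => S.T_rs hk ht hx) fun c hc h x hx => ?_⟩
  · rintro _ ⟨c, rfl⟩
    haveI : NeZero (2 : F) := ⟨hF.two_ne⟩
    have := S.comm_mem_O hF (hD (S.mem_rs k (c / 2)))
    rwa [mul_assoc, mul_assoc, ← mul_assoc S.t, hi _ ((S.rs k).inv_mem (S.mem_rs k _)), inv_inv, conj_mul, ← x1_add,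
      add_halves] at this
  · obtain ⟨b, z, hz, rfl⟩ := S.cent_O hF hc h
    have := S.T_rs hk (S.Z_le_T hz) hx
    rwa [← mul_inv_eq_iff_eq_mul.2 (S.mem_D.1 (hD this) b).symm.eq, show S.x1 b * (z * x * z⁻¹) * (S.x1 b)⁻¹ =
      S.x1 b * z * x * (S.x1 b * z)⁻¹ by group] at this
/-- commutators of root groups in `C(X₁₂)` inverted by `t` -/
theorem br_mem (hF : Fq F) {k k' : G} (hk : k ∈ Subgroup.normalizer (S.T : Set G))
    (hk' : k' ∈ Subgroup.normalizer (S.T : Set G)) (hD : S.rs k ≤ S.D) (hD' : S.rs k' ≤ S.D)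
    (hi : ∀ x ∈ S.rs k, S.t * x * S.t⁻¹ = x⁻¹) (hi' : ∀ x ∈ S.rs k', S.t * x * S.t⁻¹ = x⁻¹) {x y : G}
    (hx : x ∈ S.rs k) (hy : y ∈ S.rs k') : x * y * x⁻¹ * y⁻¹ ∈ S.rs 1 := by
  obtain ⟨p, hp⟩ := CharP.exists F
  haveI : Fact p.Prime := ⟨CharP.char_is_prime F p⟩
  obtain ⟨P, h1, h2, h3, -, h4⟩ := S.exists_P hF p
  obtain ⟨c, hc, ht, e⟩ := comm_of_inverted (odd_of_p hF p h2) S.t_sq (h3 _ (S.Z_le_T S.t_mem_Z))
    (fun c hc h x hx => GT.pPrimeCoreOf_le _ (h1 hx) c (S.cent_P hF p h1 h2 hc h)) (h4 k hk hD hi hx)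
    (h4 k' hk' hD' hi' hy) (hi x hx) (hi' y hy)
  exact e ▸ S.cent_P hF p h1 h2 hc ht
theorem four_le (hF : Fq F) {P H : Subgroup G} (hP : ∀ x ∈ P, Odd (orderOf x))
    (hT : ∀ τ ∈ S.T, ∀ x ∈ P, τ * x * τ⁻¹ ∈ P) (hn : ∀ X, ∀ x ∈ P, S.f2 X * x * (S.f2 X)⁻¹ ∈ P)
    (h1 : ∀ x ∈ P, Commute x S.t → x ∈ H) (h2 : ∀ x ∈ P, Commute x S.t' → x ∈ H ∧ S.f2 nn * x * (S.f2 nn)⁻¹ ∈ H) :
    P ≤ H := by
  have ht := S.Z_le_T S.t_mem_Z
  refine Holt.odd_le_of_four hP S.t_sq S.t'_sq (comm_T ht S.t'_mem_T) (S.t_ne hF.two_ne) (S.t'_ne hF.two_ne)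
    (S.t'_ne_t hF.two_ne).symm (Subgroup.mem_normalizer_fintype (hT _ ht))
    (Subgroup.mem_normalizer_fintype (hT _ S.t'_mem_T)) h1 (fun x hx h => (h2 x hx h).1) fun x hx h => ?_
  have := (h2 _ (hn nn⁻¹ x hx) (by
    have := h.conj (S.f2 nn⁻¹)
    rwa [← S.n2_t', map_inv, inv_swap rfl, ← map_inv] at this)).2
  simpa [mul_assoc] using this
/-- the part of `P` centralised by `t'`, moved into `C` -/
def cb (k : G) (P : Subgroup G) : Subgroup G := (P ⊓ Subgroup.centralizer {S.t'}).comap (MulAut.conj k).toMonoidHom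

omit [Fintype F] [Finite G] in
theorem mem_cb {k x : G} {P : Subgroup G} : x ∈ S.cb k P ↔ k * x * k⁻¹ ∈ P ∧ Commute (k * x * k⁻¹) S.t' :=
  and_congr Iff.rfl Subgroup.mem_centralizer_singleton_iff
omit [Fintype F] [Finite G] in
theorem cb_le {k : G} (h : k * S.t * k⁻¹ = S.t') (P : Subgroup G) : S.cb k P ≤ S.C := fun _ hx =>
  S.mem_C_iff.2 ((Commute.conj_iff k).1 (h ▸ (S.mem_cb.1 hx).2))
omit [Fintype F] [Finite G] in
theorem cb_T {k : G} (hk : k ∈ Subgroup.normalizer (S.T : Set G)) {P : Subgroup G}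
    (hT : ∀ τ ∈ S.T, ∀ x ∈ P, τ * x * τ⁻¹ ∈ P) : ∀ τ ∈ S.T, ∀ x ∈ S.cb k P, τ * x * τ⁻¹ ∈ S.cb k P := fun τ hτ x hx => by
  rw [mem_cb, ← conj_conj']
  have h := S.conj_T hk hτ
  exact ⟨hT _ h _ (S.mem_cb.1 hx).1, ((comm_T h S.t'_mem_T).mul_left (S.mem_cb.1 hx).2).mul_left
    (comm_T (S.T.inv_mem h) S.t'_mem_T)⟩
omit [Fintype F] [Finite G] in
theorem n1_x1 (c : F) : S.f1 nn * S.x1 c * (S.f1 nn)⁻¹ = S.f1 (xl (-c)) := by
  rw [x1, ← map_inv, ← map_mul, ← map_mul, nn_xu]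
omit [Fintype F] [Finite G] in
theorem w_x1 (c : F) : S.w * S.x1 c * S.w⁻¹ = S.f2 (xu c) := by rw [w_inv, x1, w_f1]
omit [Fintype F] [Finite G] in
theorem n2w_x1 (c : F) : S.f2 nn * S.w * S.x1 c * (S.f2 nn * S.w)⁻¹ = S.f2 (xl (-c)) := by
  rw [← nn_xu, map_mul, map_mul, map_inv, ← w_x1]; group
omit [Fintype F] [Finite G] in
theorem rs_le {k m : G} {H : Subgroup G} (h : ∀ c, k * (m * S.x1 c * m⁻¹) * k⁻¹ ∈ H) : S.rs (k * m) ≤ H := by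
  rintro _ ⟨c, rfl⟩
  simpa only [mul_assoc, _root_.mul_inv_rev] using h c
/-- one of the root groups inverted by `t` centralises `X₁₂` -/
theorem exists_type (hF : Fq F) {ν : G} (hν : S.Fu ν) (hnt : ∃ g, (∀ c, Commute g (S.x1 c)) ∧ g ∉ S.C) :
    ∃ k, (k = 1 ∨ k = S.f1 nn ∨ k = S.w ∨ k = S.f2 nn * S.w) ∧ S.rs (ν * k) ≤ S.D := by
  obtain ⟨g, hg, hC⟩ := hnt
  have nO : ∀ {d : G}, d ∈ Subgroup.normalizer (Holt.OO S.D : Set G) → ∀ x ∈ Holt.OO S.D, d * x * d⁻¹ ∈ Holt.OO S.D :=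
    fun hd x hx => (Subgroup.mem_normalizer_iff.1 hd x).1 hx
  obtain ⟨o, ho, h1, h2⟩ : ∃ o ∈ Holt.OO S.D, Commute o S.t' ∧ o ∉ S.C := by
    by_contra hc
    push Not at hc
    have n2 := S.N_le_C (S.K_le_N (S.f2_mem_K nn))
    have := S.mem_C_iff.1 (S.four_le hF (H := S.C) (fun _ => Holt.odd_order_OO) (fun τ hτ => nO (S.T_norm_O hτ))
      (fun X => nO (S.D_norm_O (S.f2_mem_D X))) (fun _ _ => S.mem_C_iff.2) (fun x hx h => ⟨hc x hx h,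
        S.C.mul_mem (S.C.mul_mem n2 (hc x hx h)) (S.C.inv_mem n2)⟩) (S.comm_mem_O hF (S.mem_D.2 hg)))
    have := this.mul_left (Commute.refl S.t)
    rw [inv_mul_cancel_right] at this
    exact hC (S.mem_C_iff.2 (mul_inv_eq_iff_eq_mul.1 (S.isolated hF (S.mem_D.2 hg) this.symm)))
  have hD : ∀ {x}, x ∈ S.cb ν (Holt.OO S.D) → ν * x * ν⁻¹ ∈ S.D := fun h => GT.pPrimeCoreOf_le _ (S.mem_cb.1 h).1
  rcases S.exists_root hF (S.cb_le hν.tt _) (fun b hb => by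
      have := Holt.odd_order_OO (S.mem_cb.1 hb).1
      rwa [← MulAut.conj_apply, MulEquiv.orderOf_eq] at this)
    (S.cb_T hν.nT fun τ hτ => nO (S.T_norm_O hτ)) (b := ν⁻¹ * o * ν) (S.mem_cb.2 (by rw [show ν * (ν⁻¹ * o * ν) * ν⁻¹ = o by group]; exact ⟨ho, h1⟩))
    (fun h => h2 (S.mem_C_iff.2 (by simpa [mul_assoc, ← hν.tt'] using h.conj ν))) with h | h | h | h
  · exact ⟨1, Or.inl rfl, S.rs_le fun c => by simpa [x1] using hD (h c)⟩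
  · exact ⟨_, Or.inr (Or.inl rfl), S.rs_le fun c => S.n1_x1 c ▸ hD (h _)⟩
  · exact ⟨_, Or.inr (Or.inr (Or.inl rfl)), S.rs_le fun c => S.w_x1 c ▸ hD (h _)⟩
  · exact ⟨_, Or.inr (Or.inr (Or.inr rfl)), S.rs_le fun c => S.n2w_x1 c ▸ hD (h _)⟩
omit [Finite G] in
theorem rs_eq_one (hF : Fq F) {k x : G} (hx : x ∈ S.rs k) (h : x * x = 1) : x = 1 := by
  obtain ⟨c, rfl⟩ := hx
  rw [conj_mul, conj_eq_one_iff, ← x1_add, x1, ← map_one S.f1, ← xu_zero] at h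
  rw [show c = 0 from mul_left_cancel₀ hF.two_ne (by linear_combination xu_inj (S.f1_inj h)), x1, xu_zero]; simp
/-- if only two of the root groups inverted by `t` centralise `X₁₂`, one of them centralises `X₃₄` -/
theorem row_col (hF : Fq F) {k : G} (hk : k ∈ Subgroup.normalizer (S.T : Set G)) (kt : k * S.t * k⁻¹ = S.t')
    (hD : S.rs k ≤ S.D) (hi : ∀ x ∈ S.rs k, S.t * x * S.t⁻¹ = x⁻¹) (hu : ¬ S.rs (k * S.w) ≤ S.D)
    (hl : ¬ S.rs (k * (S.f2 nn * S.w)) ≤ S.D) (hc : ∀ x ∈ S.rs k, ∀ y ∈ S.rs (S.f2 nn * k), Commute x y) :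
    (∀ x ∈ S.rs k, ∀ y ∈ S.rs S.w, Commute x y) ∨ ∀ x ∈ S.rs (S.f2 nn * k), ∀ y ∈ S.rs S.w, Commute x y := by
  obtain ⟨p, hp⟩ := CharP.exists F
  haveI : Fact p.Prime := ⟨CharP.char_is_prime F p⟩
  obtain ⟨P, h1, h2, h3, h4, h5⟩ := S.exists_P hF p
  have PD : P ≤ S.D := h1.trans (GT.pPrimeCoreOf_le _)
  have back : ∀ v ∈ S.rs (S.f2 nn * k), ∃ x ∈ S.rs k, v = S.f2 nn * x * (S.f2 nn)⁻¹ := by
    rintro _ ⟨c, rfl⟩
    exact ⟨_, S.mem_rs k c, by group⟩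
  have AP : S.rs k ⊔ S.rs (S.f2 nn * k) ≤ P := sup_le (h5 k hk hD hi) fun v hv => by
    obtain ⟨x, hx, rfl⟩ := back v hv
    exact h4 _ _ (h5 k hk hD hi hx)
  have ct : ∀ x ∈ S.rs k, Commute x S.t' := by
    rintro _ ⟨c, rfl⟩
    exact kt ▸ (S.mem_C_iff.1 (S.N_le_C (S.K_le_N (S.f1_mem_K _)))).conj k
  have PH : P ≤ S.rs 1 ⊔ (S.rs k ⊔ S.rs (S.f2 nn * k)) := S.four_le hF (odd_of_p hF p h2) h3 h4
    (fun x hx h => Subgroup.mem_sup_left (S.cent_P hF p h1 h2 hx h)) fun x hx h => by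
      obtain ⟨c, e⟩ := S.le_root hF p (S.cb_le kt P) ((h2.to_inf_left).comap_of_injective _ (MulAut.conj k).injective)
        (S.cb_T hk h3) (fun c => S.mem_cb.2 ⟨h5 k hk hD hi (S.mem_rs k c), ct _ (S.mem_rs k c)⟩)
        (fun e => hu (S.rs_le fun c => S.w_x1 c ▸ PD (S.mem_cb.1 (e _)).1))
        (fun e => hl (S.rs_le fun c => S.n2w_x1 c ▸ PD (S.mem_cb.1 (e _)).1)) (b := k⁻¹ * x * k)
        (S.mem_cb.2 (by simpa [mul_assoc] using ⟨hx, h⟩))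
      have : x ∈ S.rs k := ⟨c, by rw [← e]; group⟩
      exact ⟨Subgroup.mem_sup_right (Subgroup.mem_sup_left this),
        Subgroup.mem_sup_right (Subgroup.mem_sup_right (S.conj_rs _ this))⟩
  have iA : ∀ m ∈ S.rs k ⊔ S.rs (S.f2 nn * k), S.t * m * S.t⁻¹ = m⁻¹ := fun m hm => by
    obtain ⟨u, hu, v, hv, rfl⟩ := mem_sup_comm hc hm
    obtain ⟨x, hx, e⟩ := back v hv
    rw [← conj_mul, hi u hu, (hc u hu v hv).eq, _root_.mul_inv_rev, e]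
    nth_rw 1 [← S.n2_t]; nth_rw 2 [← S.n2_t]
    rw [conj_conj', hi x hx, conj_inv]
  have hn : S.rs S.w ≤ Subgroup.normalizer (S.rs k ⊔ S.rs (S.f2 nn * k) : Subgroup G) := by
    rintro _ ⟨c, rfl⟩
    refine Subgroup.mem_normalizer_fintype fun m hm => ?_
    rw [w_x1]
    obtain ⟨a, ha, m', hm', e⟩ := mem_sup_comm (fun a ha b hb => PD (AP hb) a ha) (PH (h4 (xu c) m (AP hm)))
    have c1 := (S.mem_C_iff.1 (S.N_le_C (S.K_le_N (S.f2_mem_K (xu c))))).symm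
    have e1 : S.t * (a * m') * S.t⁻¹ = (a * m')⁻¹ := by
      rw [e, conj_inv, ← iA m hm]
      simp only [mul_assoc, c1.left_comm, c1.inv_inv.eq]
    rw [← conj_mul, iA m' hm', ← (S.t_mem_D a ha), mul_inv_cancel_right, PD (AP hm') a ha, _root_.mul_inv_rev,
      mul_left_inj] at e1
    rwa [← e, S.rs_eq_one hF ha (mul_eq_one_iff_eq_inv.2 e1), one_mul]
  obtain ⟨⟨m, hm, hm'⟩, hm1⟩ := Subgroup.ne_bot_iff_exists_ne_one.1 (GT.PG.inf_centralizer_ne_bot_of_isPGroup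
    (h2.to_le AP) (fun x => ⟨1, Subtype.ext (by simpa using S.rs_pow p x.2)⟩) hn fun e => by
      have := e.le (Subgroup.mem_sup_left (S.mem_rs k 1))
      exact (xu_ne one_ne_zero).1 (S.f1_inj ((conj_eq_one_iff.1 this).trans (map_one _).symm)))
  obtain ⟨u, hu, v, hv, rfl⟩ := mem_sup_comm hc hm
  have hW := fun τ hτ a ha => S.T_rs (x := a) S.w_mem_normalizer (τ := τ) hτ ha
  have c1 : ∀ y ∈ S.rs S.w, Commute (u * v) y := fun y hy => (hm' y hy).symm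
  have c2 : ∀ y ∈ S.rs S.w, Commute (u * v⁻¹) y := fun y hy => by
    have := (c1 _ (hW _ (S.T.inv_mem S.t'_mem_T) y hy)).conj S.t'
    obtain ⟨x, hx, rfl⟩ := back v hv
    have e : S.t' = S.f2 nn * (S.t * S.t') * (S.f2 nn)⁻¹ := by
      rw [← conj_mul, n2_t, n2_t', ← mul_assoc, t_sq, one_mul]
    rw [← conj_mul, ← (ct u hu).eq, mul_inv_cancel_right, show S.t' * (S.t'⁻¹ * y * S.t'⁻¹⁻¹) * S.t'⁻¹ = y by group]
      at this
    nth_rw 1 [e] at this; nth_rw 2 [e] at this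
    rwa [conj_conj', show S.t * S.t' * x * (S.t * S.t')⁻¹ = x⁻¹ by
      rw [← hi x hx, mul_assoc S.t, ← (ct x hx).eq]; group, ← conj_inv] at this
  have cuv := hc u hu v hv
  by_cases h : u * u = 1
  · refine Or.inr fun x hx => S.rs_all (Subgroup.mul_mem _ S.n2_mem_normalizer hk) hv (fun e => hm1 (Subtype.ext ?_))
      hW (fun y hy => ?_) hx
    · simp [S.rs_eq_one hF hu h, e]
    · simpa [S.rs_eq_one hF hu h] using c1 y hy
  · refine Or.inl fun x hx => S.rs_all hk ((S.rs k).mul_mem hu hu) h hW (fun y hy => ?_) hx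
    have := (c1 y hy).mul_left (c2 y hy)
    rwa [cuv.symm.mul_mul_mul_comm, mul_inv_cancel, mul_one] at this

end Su

end Cfsg.Agent.L4C
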