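import Mathlib
import Cfsg.Agent.L4C.UnipA

/-!
# `L₄(q)` from an involution centraliser: the Steinberg relations
-/

set_option autoImplicit false

namespace Cfsg.Agent.L4C

open Matrix Equiv

variable {F : Type*} [Field F] {G : Type*} [Group G]

namespace Su

/-- `τ` acts on the root group `k X₁₂ k⁻¹` as the scalar `μ` -/
def AcK (S : Su F G) (k τ : G) (μ : F) : Prop := ∀ c, τ * (k * S.x1 c * k⁻¹) * τ⁻¹ = k * S.x1 (μ * c) * k⁻¹

theorem AcK.map {S : Su F G} {k τ : G} {μ : F} (h : S.AcK k τ μ) (g : G) : S.AcK (g * k) (g * τ * g⁻¹) μ := fun c => by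
  calc _ = g * (τ * (k * S.x1 c * k⁻¹) * τ⁻¹) * g⁻¹ := by group
    _ = _ := by rw [h c]; group
theorem AcK.flip {S : Su F G} {k τ : G} {μ : F} (hk : k ∈ Subgroup.normalizer (S.T : Set G)) (hτ : τ ∈ S.T)
    (h : S.AcK k τ μ) : S.AcK (k * S.f1 nn) τ⁻¹ μ := fun u => by
  obtain ⟨a, b, c, d, e, e1⟩ := S.mem_T.1 (S.conj_T (Subgroup.inv_mem _ hk) hτ)
  have ha : a ≠ 0 := by rintro rfl; simp at e
  have hb : b ≠ 0 := by rintro rfl; simp at e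
  obtain rfl : τ = k * S.κ (Dl.dg a b c d e) * k⁻¹ := by rw [← e1]; group
  have h1 := h 1
  rw [conj_conj', dg_x1] at h1
  obtain rfl : a / b = μ := by simpa using xu_inj (S.f1_inj ((MulAut.conj k).injective h1))
  have h2 := S.dg_x1 b a c d (by rw [mul_comm b, e]) (a / b * u)
  rw [show b / a * (a / b * u) = u by field_simp] at h2
  rw [← h2, ← S.n1_dg b a c d (by rw [mul_comm b, e])]; group

namespace Fr

/-- a permutation with prescribed images of `0` and `1` -/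
def pm (i j : Fin 4) : Perm (Fin 4) := swap 0 i * swap 1 (swap 0 i j)
/-- a permutation with prescribed images of `0` and `1` -/
def sg (i j : Fin 4) : Perm (Fin 4) := if i < j then pm i j else pm j i * swap 0 1
theorem sg_spec : ∀ i j : Fin 4, i ≠ j → sg i j 0 = i ∧ sg i j 1 = j := by decide
theorem pm3_spec : ∀ i j k : Fin 4, i ≠ j → i ≠ k → j ≠ k → (pm i j * swap 2 ((pm i j)⁻¹ k)) 0 = i ∧
    (pm i j * swap 2 ((pm i j)⁻¹ k)) 1 = j ∧ (pm i j * swap 2 ((pm i j)⁻¹ k)) 2 = k := by decide +kernel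
theorem perm3 {a b c i j k : Fin 4} (h1 : a ≠ b) (h2 : a ≠ c) (h3 : b ≠ c) (k1 : i ≠ j) (k2 : i ≠ k) (k3 : j ≠ k) :
    ∃ σ : Perm (Fin 4), σ a = i ∧ σ b = j ∧ σ c = k := by
  obtain ⟨a1, a2, a3⟩ := pm3_spec a b c h1 h2 h3
  obtain ⟨b1, b2, b3⟩ := pm3_spec i j k k1 k2 k3
  refine ⟨(pm i j * swap 2 ((pm i j)⁻¹ k)) * (pm a b * swap 2 ((pm a b)⁻¹ c))⁻¹, ?_, ?_, ?_⟩
  exacts [by rw [Perm.mul_apply, Perm.inv_eq_iff_eq.2 a1.symm, b1], by rw [Perm.mul_apply, Perm.inv_eq_iff_eq.2 a2.symm, b2],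
    by rw [Perm.mul_apply, Perm.inv_eq_iff_eq.2 a3.symm, b3]]
theorem fix01 : ∀ δ : Perm (Fin 4), δ 0 = 0 → δ 1 = 1 → δ = 1 ∨ δ = swap 2 3 := by decide +kernel
theorem last_eq : ∀ i j k l m : Fin 4, i ≠ j → i ≠ k → j ≠ k → l ≠ i → l ≠ j → l ≠ k → m ≠ i → m ≠ j → m ≠ k → l = m := by
  decide +kernel

variable {S : Su F G} (R : S.Fr)

/-- the Weyl group as an image of `S₄` -/
def ph : Perm (Fin 4) →* S.Wl := MonoidHom.mk' (fun σ => S.wl (R.g σ) (R.nT σ)) fun σ ρ =>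
  (S.wl_eq.2 (R.mul σ ρ)).symm
/-- `k` represents `σ` -/
def Rp (k : G) (σ : Perm (Fin 4)) : Prop := ∃ hk, S.wl k hk = R.ph σ

theorem rp_g (σ : Perm (Fin 4)) : R.Rp (R.g σ) σ := ⟨R.nT σ, rfl⟩
theorem rp_T {τ : G} (h : τ ∈ S.T) : R.Rp τ 1 := ⟨Subgroup.le_normalizer h, (S.wl_eq_one.2 h).trans (map_one _).symm⟩
theorem rp_n1 : R.Rp (S.f1 nn) (swap 0 1) := ⟨S.n1_mem_normalizer, S.wl_eq.2 R.r1⟩
theorem rp_n2 : R.Rp (S.f2 nn) (swap 2 3) := ⟨S.n2_mem_normalizer, S.wl_eq.2 R.r2⟩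
variable {R}
theorem Rp.mul {k m : G} {σ ρ : Perm (Fin 4)} (h : R.Rp k σ) (h' : R.Rp m ρ) : R.Rp (k * m) (σ * ρ) :=
  ⟨Subgroup.mul_mem _ h.1 h'.1, by rw [← S.wl_mul h.1 h'.1, h.2, h'.2, map_mul]⟩
theorem Rp.inv {k : G} {σ : Perm (Fin 4)} (h : R.Rp k σ) : R.Rp k⁻¹ σ⁻¹ :=
  ⟨Subgroup.inv_mem _ h.1, by rw [← S.wl_inv h.1, h.2, map_inv]⟩
theorem Rp.mem {k m : G} {σ : Perm (Fin 4)} (h : R.Rp k σ) (h' : R.Rp m σ) : k⁻¹ * m ∈ S.T :=
  S.wl_eq.1 (h.2.trans h'.2.symm)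
theorem Rp.par {k m : G} {σ ρ : Perm (Fin 4)} (h : R.Rp k σ) (h' : R.Rp m ρ) (e0 : σ 0 = ρ 0) (e1 : σ 1 = ρ 1) :
    ∃ l : F, l ≠ 0 ∧ (∀ c, k * S.x1 c * k⁻¹ = m * S.x1 (l * c) * m⁻¹) ∧ k * S.t * k⁻¹ = m * S.t * m⁻¹ := by
  have ht := S.Z_le_T S.t_mem_Z
  have hd := h'.inv.mul h
  obtain ⟨n, n1, n2, hn⟩ : ∃ n, (∀ c, n * S.x1 c * n⁻¹ = S.x1 c) ∧ n * S.t * n⁻¹ = S.t ∧ n⁻¹ * (m⁻¹ * k) ∈ S.T := by
    rcases fix01 (ρ⁻¹ * σ) (by simp [e0]) (by simp [e1]) with e | e <;> rw [e] at hd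
    · exact ⟨1, by simp, by simp, (R.rp_T S.T.one_mem).mem hd⟩
    · exact ⟨_, fun c => mul_inv_eq_iff_eq_mul.2 (S.f1_comm _ _).symm.eq, S.n2_t, R.rp_n2.mem hd⟩
  obtain ⟨l, hl, e⟩ := S.T_x1 hn
  refine ⟨l, hl, fun c => by rw [← n1 (l * c), ← e]; group, ?_⟩
  nth_rw 2 [← n2]
  nth_rw 2 [← mul_inv_eq_iff_eq_mul.2 (comm_T hn ht).eq]; group
variable (R)

/-- representatives -/
def kk (i j : Fin 4) : G :=
  if i < j then R.g (pm i j) * (R.g 1)⁻¹ else R.g (pm j i) * (R.g 1)⁻¹ * (S.f1 nn * S.t')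
/-- root elements -/
def y (i j : Fin 4) (c : F) : G := R.kk i j * S.x1 c * (R.kk i j)⁻¹
/-- the involution of the root `SL₂` -/
def tt (i j : Fin 4) : G := R.kk i j * S.t * (R.kk i j)⁻¹
/-- root groups -/
def X (i j : Fin 4) : Subgroup G := S.rs (R.kk i j)
/-- Weyl elements -/
def nw (i j : Fin 4) : G := R.y i j 1 * R.y j i (-1) * R.y i j 1

theorem rp_kk (i j : Fin 4) : R.Rp (R.kk i j) (sg i j) := by
  unfold kk sg
  split_ifs
  · simpa using (R.rp_g _).mul (R.rp_g 1).inv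
  · simpa using ((R.rp_g _).mul (R.rp_g 1).inv).mul (R.rp_n1.mul (R.rp_T S.t'_mem_T))
theorem kk01 : R.kk 0 1 = 1 := by rw [kk, if_pos (by decide), show pm 0 1 = 1 by decide, mul_inv_cancel]
theorem y_mem (i j : Fin 4) (c : F) : R.y i j c ∈ R.X i j := ⟨c, rfl⟩
theorem y_add (i j : Fin 4) (a b : F) : R.y i j (a + b) = R.y i j a * R.y i j b := by rw [y, x1_add, ← conj_mul]; rfl
theorem y_zero (i j : Fin 4) : R.y i j 0 = 1 := by simp [y, x1, xu_zero]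
theorem y_neg (i j : Fin 4) (a : F) : R.y i j (-a) = (R.y i j a)⁻¹ := by
  rw [eq_inv_iff_mul_eq_one, ← y_add, neg_add_cancel, y_zero]
theorem y_lt {i j : Fin 4} (h : i < j) (c : F) : R.y j i c = R.kk i j * S.f1 (xl c) * (R.kk i j)⁻¹ := by
  have := S.n1_x1 (-c)
  rw [neg_neg, ← mul_inv_eq_iff_eq_mul.2 (S.t'_x1 c)] at this
  rw [y, kk, kk, if_neg h.not_gt, if_pos h, ← this]
  group
theorem nw_eq {i j : Fin 4} (h : i < j) : R.nw i j = R.kk i j * S.f1 nn * (R.kk i j)⁻¹ ∧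
    R.nw j i = R.kk i j * (S.f1 nn)⁻¹ * (R.kk i j)⁻¹ := by
  have : (nn : S2 F)⁻¹ = xl 1 * xu (-1) * xl 1 := s2_ext (by rw [s2_inv, s2_mul, s2_mul]; simp [nn_coe, xu_coe, xl_coe])
  rw [nw, nw, R.y_lt h, R.y_lt h, ← map_inv, this, nn_eq]
  simp only [y, x1, conj_mul, map_mul, and_self]
variable {R}
theorem Rp.y_eq {k : G} {σ : Perm (Fin 4)} (h : R.Rp k σ) {i j : Fin 4} (e0 : σ 0 = i) (e1 : σ 1 = j) :
    ∃ l : F, l ≠ 0 ∧ (∀ c, k * S.x1 c * k⁻¹ = R.y i j (l * c)) ∧ k * S.t * k⁻¹ = R.tt i j := by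
  obtain ⟨a, b⟩ := sg_spec i j (e0 ▸ e1 ▸ σ.injective.ne (by decide))
  exact h.par (R.rp_kk i j) (e0.trans a.symm) (e1.trans b.symm)
theorem Rp.rs_eq {k : G} {σ : Perm (Fin 4)} (h : R.Rp k σ) (i j : Fin 4) (e0 : σ 0 = i := by decide)
    (e1 : σ 1 = j := by decide) : S.rs k = R.X i j := by
  obtain ⟨l, hl, e, -⟩ := h.y_eq e0 e1
  ext x
  exact ⟨fun ⟨c, hc⟩ => ⟨l * c, hc.trans (e c)⟩, fun ⟨c, hc⟩ => ⟨l⁻¹ * c, by rw [e, mul_inv_cancel_left₀ hl]; exact hc⟩⟩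
theorem Rp.ac {k τ : G} {σ : Perm (Fin 4)} (h : R.Rp k σ) {i j : Fin 4} (e0 : σ 0 = i) (e1 : σ 1 = j) {μ : F}
    (ha : S.AcK k τ μ) : S.AcK (R.kk i j) τ μ := fun c => by
  obtain ⟨l, hl, e, -⟩ := h.y_eq e0 e1
  have := ha (l⁻¹ * c)
  rwa [e, e, mul_inv_cancel_left₀ hl, mul_left_comm l, mul_inv_cancel_left₀ hl] at this
theorem Rp.kk {g : G} {σ : Perm (Fin 4)} (h : R.Rp g σ) {i j : Fin 4} (hij : i ≠ j) :
    R.Rp (g * R.kk i j) (σ * sg i j) ∧ (σ * sg i j) 0 = σ i ∧ (σ * sg i j) 1 = σ j :=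
  ⟨h.mul (R.rp_kk i j), congrArg σ (sg_spec i j hij).1, congrArg σ (sg_spec i j hij).2⟩
theorem Rp.conj_X {g x : G} {σ : Perm (Fin 4)} (h : R.Rp g σ) {i j : Fin 4} (hij : i ≠ j) (hx : x ∈ R.X i j) :
    g * x * g⁻¹ ∈ R.X (σ i) (σ j) := by
  obtain ⟨a, b, c⟩ := h.kk hij
  exact a.rs_eq _ _ b c ▸ S.conj_rs g hx
theorem Rp.back_X {g x : G} {σ : Perm (Fin 4)} (h : R.Rp g σ) {i j : Fin 4} (hij : i ≠ j)
    (hx : x ∈ R.X (σ i) (σ j)) : ∃ u ∈ R.X i j, x = g * u * g⁻¹ :=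
  ⟨_, by simpa using h.inv.conj_X (σ.injective.ne hij) hx, (by group : x = g * (g⁻¹ * x * g) * g⁻¹)⟩
theorem Rp.conj_tt {g : G} {σ : Perm (Fin 4)} (h : R.Rp g σ) {i j : Fin 4} (hij : i ≠ j) :
    g * R.tt i j * g⁻¹ = R.tt (σ i) (σ j) := by
  obtain ⟨a, b, c⟩ := h.kk hij
  obtain ⟨-, -, -, e⟩ := a.y_eq b c
  rw [← e, tt]; group
theorem Rp.conj_ac {g τ : G} {σ : Perm (Fin 4)} (h : R.Rp g σ) {i j : Fin 4} (hij : i ≠ j) {μ : F}
    (ha : S.AcK (R.kk i j) τ μ) : S.AcK (R.kk (σ i) (σ j)) (g * τ * g⁻¹) μ := by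
  obtain ⟨a, b, c⟩ := h.kk hij
  exact a.ac b c (ha.map g)
theorem ac_flip {τ : G} (hτ : τ ∈ S.T) {i j : Fin 4} (hij : i ≠ j) {μ : F} (ha : S.AcK (R.kk i j) τ μ) :
    S.AcK (R.kk j i) τ⁻¹ μ :=
  ((R.rp_kk i j).mul R.rp_n1).ac (sg_spec i j hij).2 (sg_spec i j hij).1 (ha.flip (R.rp_kk i j).1 hτ)
variable (R)
theorem X01 : R.X 0 1 = S.rs 1 := by rw [X, kk01]
theorem tt01 : R.tt 0 1 = S.t := by simp [tt, kk01]
theorem tt_symm {i j : Fin 4} (hij : i ≠ j) : R.tt j i = R.tt i j := by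
  obtain ⟨-, -, -, e⟩ := ((R.rp_kk i j).mul R.rp_n1).y_eq (sg_spec i j hij).2 (sg_spec i j hij).1
  rw [← e, tt]; nth_rw 2 [← S.n1_t]; group
theorem nw_sq {i j : Fin 4} (hij : i ≠ j) : R.nw i j ^ 2 = R.tt i j := by
  rcases hij.lt_or_gt with h | h
  · rw [(R.nw_eq h).1, pow_two, conj_mul, ← map_mul, nn_sq]; rfl
  · rw [(R.nw_eq h).2, pow_two, conj_mul, ← _root_.mul_inv_rev, ← map_mul, nn_sq, R.tt_symm h.ne,
      show S.f1 (-1) = S.t from rfl, inv_eq_of_mul_eq_one_right S.t_sq]; rfl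
theorem rp_nw {i j : Fin 4} (h : i < j) : R.Rp (R.nw i j) (swap i j) := by
  have := ((R.rp_kk i j).mul R.rp_n1).mul (R.rp_kk i j).inv
  rwa [← swap_apply_apply, (sg_spec i j h.ne).1, (sg_spec i j h.ne).2, ← (R.nw_eq h).1] at this
theorem tt02 : R.tt 0 2 = S.t' := by
  obtain ⟨-, -, -, e⟩ := (R.rp_g (swap 1 2)).y_eq (i := 0) (j := 2) (by decide) (by decide)
  rw [← e, R.fu.tt]
theorem ac_tt {i j k : Fin 4} (h1 : i ≠ j) (h2 : i ≠ k) (h3 : j ≠ k) :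
    S.AcK (R.kk i j) (R.tt i k) (-1) ∧ S.AcK (R.kk j i) (R.tt i k) (-1) := by
  obtain ⟨σ, rfl, rfl, rfl⟩ := perm3 (a := 0) (b := 1) (c := 2) (by decide) (by decide) (by decide) h1 h2 h3
  have h : S.AcK (R.kk 0 1) S.t' (-1) := fun c => by
    rw [kk01, neg_one_mul]; simpa using mul_inv_eq_iff_eq_mul.2 (S.t'_x1 c)
  have h' := ac_flip S.t'_mem_T (by decide) h
  rw [inv_eq_of_mul_eq_one_right S.t'_sq] at h'
  rw [← (R.rp_g σ).conj_tt (by decide), tt02]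
  exact ⟨(R.rp_g σ).conj_ac (by decide) h, (R.rp_g σ).conj_ac (by decide) h'⟩
theorem inv_of_ac {i j : Fin 4} {τ x : G} (h : S.AcK (R.kk i j) τ (-1)) (hx : x ∈ R.X i j) : τ * x * τ⁻¹ = x⁻¹ := by
  obtain ⟨c, rfl⟩ := hx
  rw [h c, neg_one_mul]; exact R.y_neg i j c
theorem t_inv : ∀ i j : Fin 4, (i < 2 ∧ 2 ≤ j) ∨ (j < 2 ∧ 2 ≤ i) → ∀ x ∈ R.X i j, S.t * x * S.t⁻¹ = x⁻¹ := by
  have key : ∀ i j : Fin 4, i < 2 → 2 ≤ j → S.AcK (R.kk i j) S.t (-1) ∧ S.AcK (R.kk j i) S.t (-1) := fun i j h1 h2 => by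
    obtain rfl | rfl : i = 0 ∨ i = 1 := by omega
    · exact R.tt01 ▸ R.ac_tt (by omega) (by decide) (by omega)
    · exact R.tt01 ▸ R.tt_symm (i := 0) (j := 1) (by decide) ▸ R.ac_tt (by omega) (by decide) (by omega)
  rintro i j (⟨h1, h2⟩ | ⟨h1, h2⟩) x hx
  exacts [R.inv_of_ac (key i j h1 h2).1 hx, R.inv_of_ac (key j i h1 h2).2 hx]
theorem rp_w (h2 : (2 : F) ≠ 0) : R.Rp S.w (swap 0 2 * swap 1 3) ∨ R.Rp S.w (swap 0 3 * swap 1 2) := by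
  have hb := ((R.rp_g (swap 1 2)).mul (R.rp_n1.mul R.rp_n2)).mul (R.rp_g (swap 1 2)).inv
  have hQ := S.conj_Q R.fu.tt R.fu.tt' S.a_mem_Q
  have hN := R.fu.sw.not_mem_N
  change R.Rp (_ * S.a * _) _ at hb
  obtain ⟨τ, hτ, e | e | e | e⟩ := S.mem_CV h2 hQ.1 (S.mem_Q.1 hQ).2 <;> rw [e] at hb hN
  · exact absurd (S.T_le_N hτ) hN
  · exact absurd (S.N.mul_mem (S.T_le_N hτ) (S.K_le_N S.a_mem_K)) hN
  · have := (R.rp_T hτ).inv.mul hb
    rw [inv_mul_cancel_left] at this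
    exact Or.inl (by convert this using 1; decide)
  · have := ((R.rp_T hτ).mul (R.rp_n1.mul R.rp_n2)).inv.mul hb
    rw [show S.f1 nn * S.f2 nn = S.a from rfl, inv_mul_cancel_left] at this
    exact Or.inr (by convert this using 1; decide)

/-- commuting root groups -/
def Cm (i j k l : Fin 4) : Prop := ∀ x ∈ R.X i j, ∀ z ∈ R.X k l, Commute x z
/-- commutators of root groups -/
def Bs (i j k l m n : Fin 4) : Prop := ∀ x ∈ R.X i j, ∀ z ∈ R.X k l, x * z * x⁻¹ * z⁻¹ ∈ R.X m n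
/-- rows commute -/
def Row : Prop := ∀ i j k, i ≠ j → i ≠ k → j ≠ k → R.Cm i j i k
/-- columns commute -/
def Col : Prop := ∀ i j k, i ≠ j → i ≠ k → j ≠ k → R.Cm i k j k
/-- chains commute -/
def Chn : Prop := ∀ i j k, i ≠ j → i ≠ k → j ≠ k → R.Cm i j j k

variable {R}
theorem Cm.symm {i j k l : Fin 4} (h : R.Cm i j k l) : R.Cm k l i j := fun x hx z hz => (h z hz x hx).symm
theorem Cm.map {i j k l : Fin 4} (h : R.Cm i j k l) (σ : Perm (Fin 4)) (h1 : i ≠ j) (h2 : k ≠ l) :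
    R.Cm (σ i) (σ j) (σ k) (σ l) := fun x hx z hz => by
  obtain ⟨u, hu, rfl⟩ := (R.rp_g σ).back_X h1 hx
  obtain ⟨v, hv, rfl⟩ := (R.rp_g σ).back_X h2 hz
  exact (h u hu v hv).conj _
theorem Bs.map {i j k l m n : Fin 4} (h : R.Bs i j k l m n) (σ : Perm (Fin 4)) (i' j' k' l' m' n' : Fin 4)
    (e : i ≠ j ∧ k ≠ l ∧ m ≠ n ∧ σ i = i' ∧ σ j = j' ∧ σ k = k' ∧ σ l = l' ∧ σ m = m' ∧ σ n = n' := by decide) :
    R.Bs i' j' k' l' m' n' := fun x hx z hz => by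
  obtain ⟨h1, h2, h3, rfl, rfl, rfl, rfl, rfl, rfl⟩ := e
  obtain ⟨u, hu, rfl⟩ := (R.rp_g σ).back_X h1 hx
  obtain ⟨v, hv, rfl⟩ := (R.rp_g σ).back_X h2 hz
  simpa only [conj_inv, conj_mul] using (R.rp_g σ).conj_X h3 (h u hu v hv)
theorem Cm.row {a b c : Fin 4} (h : R.Cm a b a c) (h1 : a ≠ b := by decide) (h2 : a ≠ c := by decide)
    (h3 : b ≠ c := by decide) : R.Row := fun i j k k1 k2 k3 => by
  obtain ⟨σ, rfl, rfl, rfl⟩ := perm3 h1 h2 h3 k1 k2 k3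
  exact h.map σ h1 h2
theorem Cm.col {a b c : Fin 4} (h : R.Cm a c b c) (h1 : a ≠ b := by decide) (h2 : a ≠ c := by decide)
    (h3 : b ≠ c := by decide) : R.Col := fun i j k k1 k2 k3 => by
  obtain ⟨σ, rfl, rfl, rfl⟩ := perm3 h1 h2 h3 k1 k2 k3
  exact h.map σ h2 h3
theorem Cm.chn {a b c : Fin 4} (h : R.Cm a b b c) (h1 : a ≠ b := by decide) (h2 : a ≠ c := by decide)
    (h3 : b ≠ c := by decide) : R.Chn := fun i j k k1 k2 k3 => by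
  obtain ⟨σ, rfl, rfl, rfl⟩ := perm3 h1 h2 h3 k1 k2 k3
  exact h.map σ h1 h3
theorem le_D {i j : Fin 4} : R.X i j ≤ S.D ↔ R.Cm i j 0 1 :=
  ⟨fun h x hx z hz => (h hx z (R.X01 ▸ hz)).symm, fun h x hx z hz => (h x hx z (R.X01 ▸ hz)).symm⟩
variable (R)
theorem orth (h0 : (2 : F) ≠ 0) {i j k l : Fin 4} (h1 : i ≠ j) (h2 : i ≠ k) (h3 : j ≠ k) (h4 : l ≠ i) (h5 : l ≠ j)
    (h6 : l ≠ k) : R.Cm i j k l := by
  have hw : S.rs S.w ≤ S.D := by rintro _ ⟨c, rfl⟩; exact S.w_x1 c ▸ S.f2_mem_D _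
  have h : R.Cm 0 1 2 3 := by
    rcases R.rp_w h0 with h | h
    · exact (le_D.1 (h.rs_eq 2 3 ▸ hw)).symm
    · exact (le_D.1 (h.rs_eq 3 2 ▸ hw)).symm.map (swap 2 3) (by decide) (by decide)
  obtain ⟨σ, rfl, rfl, rfl⟩ := perm3 (a := 0) (b := 1) (c := 2) (by decide) (by decide) (by decide) h1 h2 h3
  obtain rfl : σ 3 = l := last_eq _ _ _ _ _ h1 h2 h3 (σ.injective.ne (by decide)) (σ.injective.ne (by decide))
    (σ.injective.ne (by decide)) h4 h5 h6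
  exact h.map σ (by decide) (by decide)
theorem f2_mem (h0 : (2 : F) ≠ 0) {H : Subgroup G} (h1 : R.X 2 3 ≤ H) (h2 : R.X 3 2 ≤ H) (Y : S2 F) : S.f2 Y ∈ H := by
  obtain ⟨a, b⟩ : S.rs S.w ≤ H ∧ S.rs (S.f2 nn * S.w) ≤ H := by
    rcases R.rp_w h0 with h | h
    · exact ⟨h.rs_eq 2 3 ▸ h1, (R.rp_n2.mul h).rs_eq 3 2 ▸ h2⟩
    · exact ⟨h.rs_eq 3 2 ▸ h2, (R.rp_n2.mul h).rs_eq 2 3 ▸ h1⟩
  exact (sl2_eq_top (H.comap S.f2) (fun c => show S.f2 _ ∈ H from S.w_x1 c ▸ a (S.mem_rs _ c))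
    fun c => show S.f2 _ ∈ H from neg_neg c ▸ S.n2w_x1 (-c) ▸ b (S.mem_rs _ _)).ge (Subgroup.mem_top Y)

variable [Fintype F] [Finite G]

theorem bs_base (hF : Fq F) {i j k l : Fin 4} (h1 : R.Cm i j 0 1) (h2 : R.Cm k l 0 1)
    (c1 : (i < 2 ∧ 2 ≤ j) ∨ (j < 2 ∧ 2 ≤ i) := by decide) (c2 : (k < 2 ∧ 2 ≤ l) ∨ (l < 2 ∧ 2 ≤ k) := by decide) :
    R.Bs i j k l 0 1 := fun _ hx _ hz => R.X01 ▸ S.br_mem hF (R.rp_kk i j).1 (R.rp_kk k l).1 (le_D.2 h1) (le_D.2 h2)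
      (R.t_inv i j c1) (R.t_inv k l c2) hx hz
theorem not_chn (hF : Fq F) : ¬ R.Chn := fun h => by
  have b1 := (R.bs_base hF (h 0 1 3 (by decide) (by decide) (by decide)).symm
    (h 0 1 2 (by decide) (by decide) (by decide)).symm).map (swap 0 1 * swap 1 3 * swap 3 2) 3 2 3 0 1 3
  have b2 := (R.bs_base hF (h 3 0 1 (by decide) (by decide) (by decide))
    (h 2 0 1 (by decide) (by decide) (by decide))).map (swap 0 3 * swap 3 2 * swap 2 1) 2 3 1 3 3 0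
  have hc := h 1 3 0 (by decide) (by decide) (by decide)
  have hn : S.f2 nn ∈ Subgroup.normalizer (R.X 1 3 ⊔ R.X 3 0 : Subgroup G) := by
    refine R.f2_mem hF.two_ne (fun g hg => Subgroup.mem_normalizer_fintype fun m hm => ?_)
      (fun g hg => Subgroup.mem_normalizer_fintype fun m hm => ?_) _ <;>
    obtain ⟨u, hu, v, hv, rfl⟩ := mem_sup_comm hc hm <;> rw [← conj_mul]
    · rw [(h 2 3 0 (by decide) (by decide) (by decide) g hg v hv).eq, mul_inv_cancel_right]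
      refine Subgroup.mul_mem _ ?_ (Subgroup.mem_sup_right hv)
      simpa using Subgroup.mul_mem _ (Subgroup.mem_sup_right (b2 g hg u hu)) (Subgroup.mem_sup_left hu)
    · rw [← (h 1 3 2 (by decide) (by decide) (by decide) u hu g hg).eq, mul_inv_cancel_right]
      refine Subgroup.mul_mem _ (Subgroup.mem_sup_left hu) ?_
      simpa using Subgroup.mul_mem _ (Subgroup.mem_sup_left (b1 g hg v hv)) (Subgroup.mem_sup_right hv)
  obtain ⟨x, hx, e⟩ := R.rp_n2.back_X (i := 1) (j := 3) (by decide) (R.y_mem 1 2 1)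
  obtain ⟨u, hu, v, hv, e'⟩ := mem_sup_comm hc ((Subgroup.mem_normalizer_iff.1 hn x).1 (Subgroup.mem_sup_left hx))
  rw [← e] at e'
  have i1 := R.inv_of_ac (R.ac_tt (i := 1) (j := 2) (k := 3) (by decide) (by decide) (by decide)).1 (R.y_mem 1 2 1)
  have i2 := R.inv_of_ac (R.ac_tt (i := 3) (j := 0) (k := 1) (by decide) (by decide) (by decide)).1 hv
  have i3 : R.tt 1 3 * u * (R.tt 1 3)⁻¹ = u := by
    obtain ⟨c, rfl⟩ := hu
    exact mul_inv_eq_iff_eq_mul.2 ((S.mem_C_iff.1 (S.N_le_C (S.K_le_N (S.f1_mem_K _)))).symm.conj _).eq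
  rw [R.tt_symm (by decide)] at i2
  rw [← e', ← conj_mul, i2, i3, (hc u hu v hv).eq, _root_.mul_inv_rev, mul_left_inj] at i1
  rw [S.rs_eq_one hF hu (mul_eq_one_iff_eq_inv.2 i1), one_mul] at e'
  have := R.orth hF.two_ne (i := 3) (j := 0) (k := 2) (l := 1) (by decide) (by decide) (by decide) (by decide)
    (by decide) (by decide) v hv _ (R.y_mem 2 1 1)
  rw [e', R.y_lt (i := 1) (j := 2) (by decide), y, Commute.conj_iff] at this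
  have := congrArg (fun X : S2 F => X.1 0 0) (S.f1_inj (show S.f1 (xu 1 * xl 1) = S.f1 (xl 1 * xu 1) by
    rw [map_mul, map_mul]; exact this.eq))
  simp [s2_mul, mul2, xu_coe, xl_coe] at this
theorem row_and_col (hF : Fq F) (hnt : ∃ g, (∀ c, Commute g (S.x1 c)) ∧ g ∉ S.C) : R.Row ∧ R.Col := by
  have nc := R.not_chn hF
  have hν := R.rp_g (swap 1 2)
  have rc : R.Row → R.Col := fun h => by
    by_contra hc
    have e1 : S.rs (R.g (swap 1 2)) = R.X 0 2 := hν.rs_eq 0 2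
    have e2 : S.rs (S.f2 nn * R.g (swap 1 2)) = R.X 0 3 := (R.rp_n2.mul hν).rs_eq 0 3
    have n1 : ¬ R.X 1 3 ≤ S.D := fun k => nc (le_D.1 k).symm.chn
    have n2 : ¬ R.X 3 1 ≤ S.D := fun k => hc (le_D.1 k).col
    have key := S.row_col hF hν.1 R.fu.tt (e1 ▸ le_D.2 (h 0 2 1 (by decide) (by decide) (by decide)))
      (e1 ▸ R.t_inv 0 2 (by decide))
    rw [e1, e2] at key
    rcases R.rp_w hF.two_ne with k | k
    · rw [k.rs_eq 2 3] at key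
      rcases key ((hν.mul k).rs_eq 1 3 ▸ n1) ((hν.mul (R.rp_n2.mul k)).rs_eq 3 1 ▸ n2)
        (h 0 2 3 (by decide) (by decide) (by decide)) with m | m
      exacts [nc (Cm.chn m), hc (Cm.col m)]
    · rw [k.rs_eq 3 2] at key
      rcases key ((hν.mul k).rs_eq 3 1 ▸ n2) ((hν.mul (R.rp_n2.mul k)).rs_eq 1 3 ▸ n1)
        (h 0 2 3 (by decide) (by decide) (by decide)) with m | m
      exacts [hc (Cm.col m), nc (Cm.chn m)]
  have cr : R.Col → R.Row := fun h => by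
    by_contra hc
    have hk := R.rp_kk 3 1
    have e2 : S.rs (S.f2 nn * R.kk 3 1) = R.X 2 1 := (R.rp_n2.mul hk).rs_eq 2 1
    have n1 : ¬ R.X 2 0 ≤ S.D := fun k => nc (le_D.1 k).chn
    have n2 : ¬ R.X 0 2 ≤ S.D := fun k => hc (le_D.1 k).row
    have wt : S.w * S.t * S.w⁻¹ = S.t := mul_inv_eq_iff_eq_mul.2 (S.mem_C_iff.1 S.w_mem_C).eq
    have e3 : R.g (swap 1 2) * S.w * S.t * (R.g (swap 1 2) * S.w)⁻¹ = S.t' := by
      rw [← R.fu.tt]; nth_rw 2 [← wt]; group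
    have kt : R.tt 3 1 = S.t' := by
      rcases R.rp_w hF.two_ne with k | k
      · obtain ⟨-, -, -, e⟩ := (hν.mul k).y_eq (i := 1) (j := 3) (by decide) (by decide)
        rw [R.tt_symm (by decide), ← e, e3]
      · obtain ⟨-, -, -, e⟩ := (hν.mul k).y_eq (i := 3) (j := 1) (by decide) (by decide)
        rw [← e, e3]
    have key := S.row_col hF hk.1 kt (le_D.2 (h 3 0 1 (by decide) (by decide) (by decide))) (R.t_inv 3 1 (by decide))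
    rw [e2] at key
    rcases R.rp_w hF.two_ne with k | k
    · rw [k.rs_eq 2 3] at key
      rcases key ((hk.mul k).rs_eq 2 0 ▸ n1) ((hk.mul (R.rp_n2.mul k)).rs_eq 0 2 ▸ n2)
        (h 3 2 1 (by decide) (by decide) (by decide)) with m | m
      exacts [nc (Cm.symm (i := 3) (j := 1) m).chn, hc (Cm.row m)]
    · rw [k.rs_eq 3 2] at key
      rcases key ((hk.mul k).rs_eq 0 2 ▸ n2) ((hk.mul (R.rp_n2.mul k)).rs_eq 2 0 ▸ n1)
        (h 3 2 1 (by decide) (by decide) (by decide)) with m | m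
      exacts [hc (Cm.row (a := 3) (b := 1) m), nc (Cm.symm (i := 2) (j := 1) m).chn]
  suffices R.Row ∨ R.Col from this.elim (fun h => ⟨h, rc h⟩) fun h => ⟨cr h, h⟩
  obtain ⟨k, hk, h⟩ := S.exists_type hF R.fu hnt
  have l1 : R.X 1 3 ≤ S.D → R.Row ∨ R.Col := fun k => absurd (le_D.1 k).symm.chn nc
  have l2 : R.X 3 1 ≤ S.D → R.Row ∨ R.Col := fun k => Or.inr (le_D.1 k).col
  rcases hk with rfl | rfl | rfl | rfl
  · exact Or.inl (le_D.1 ((hν.mul (R.rp_T S.T.one_mem)).rs_eq 0 2 ▸ h)).row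
  · exact absurd (le_D.1 ((hν.mul R.rp_n1).rs_eq 2 0 ▸ h)).chn nc
  · rcases R.rp_w hF.two_ne with k | k
    exacts [l1 ((hν.mul k).rs_eq 1 3 ▸ h), l2 ((hν.mul k).rs_eq 3 1 ▸ h)]
  · rcases R.rp_w hF.two_ne with k | k
    exacts [l2 ((hν.mul (R.rp_n2.mul k)).rs_eq 3 1 ▸ h), l1 ((hν.mul (R.rp_n2.mul k)).rs_eq 1 3 ▸ h)]

omit [Finite G] in
theorem hd_inj (hF : Fq F) {l : F} (hl : l ≠ 0)
    (h : Commute (R.g (swap 1 2) * S.f1 (hd l hl) * (R.g (swap 1 2))⁻¹) (S.x1 1)) : l = 1 := by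
  have hν := R.rp_g (swap 1 2)
  have ha := R.rp_n1.mul R.rp_n2
  have hs : S.Sw ((R.g (swap 1 2))⁻¹ * S.a * (R.g (swap 1 2))⁻¹⁻¹) := by
    have := R.fu.sw.mul_N (S.T_le_N (((hν.mul ha).mul hν.inv).mem ((hν.inv.mul ha).mul hν.inv.inv)))
    rwa [show S.f1 nn * S.f2 nn = S.a from rfl, mul_inv_cancel_left] at this
  have hi : S.a * S.f1 (hd l hl) * S.a⁻¹ = (S.f1 (hd l hl))⁻¹ := by
    rw [eq_inv_iff_mul_eq_one, hd_dg, a_dg, dg_mul, S.one_dg, dg_eq]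
    exact ⟨1, by simp [hl]⟩
  have fu := R.fu
  generalize R.g (swap 1 2) = ν at *
  have c1 : ∀ X, Commute (ν * S.f1 (hd l hl) * ν⁻¹) (S.f1 X) := fun X => by
    obtain ⟨a, b, c, d, e, e1⟩ := S.mem_T.1 (S.conj_T fu.nT (S.hd_mem_T l hl))
    have hb : b ≠ 0 := by rintro rfl; simp at e
    rw [e1] at h ⊢
    have := mul_inv_eq_iff_eq_mul.2 h.eq
    rw [dg_x1] at this
    obtain rfl : a = b := by simpa [div_eq_one_iff_eq hb] using xu_inj (S.f1_inj this)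
    exact S.comm_f1_iff.2 (by simp only [Dl.dg_A, eq2, mul2]; simp [mul_comm])
  obtain ⟨Y, e⟩ := fu.sw.inv.conj_f2 nn
  have c2 := (c1 Y).conj (ν * S.a * ν⁻¹)
  rw [conj_conj', hi, ← e, ← conj_inv, Commute.inv_left_iff, show ν * S.a * ν⁻¹ * ((ν * S.a * ν⁻¹)⁻¹ * S.f2 nn *
    (ν * S.a * ν⁻¹)⁻¹⁻¹) * (ν * S.a * ν⁻¹)⁻¹ = S.f2 nn by group] at c2
  have c3 := ((c1 nn).mul_right c2).symm.conj ν⁻¹
  rw [inv_swap rfl] at c3
  by_contra hne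
  refine hs.not_mem_N (S.mem_N_of_comm hs.mem_C ⟨fun k => hne ?_, fun k => hF.two_ne ?_⟩ c3)
  · simpa [hd_coe] using congrArg (fun X : S2 F => X.1 0 0) k
  · rw [k, show S.f1 (-1) = S.t from rfl, fu.tt] at h
    have := xu_inj (S.f1_inj (mul_right_cancel (h.eq.symm.trans (S.t'_x1 1))))
    linear_combination this
omit [Finite G] in
theorem exists_tor (hF : Fq F) {μ : F} (hμ : μ ≠ 0) : ∃ τ ∈ S.T, S.AcK (R.kk 0 1) τ μ ∧ S.AcK (R.kk 0 3) τ μ ∧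
    S.AcK (R.kk 1 3) τ 1 ∧ S.AcK (R.kk 3 1) τ 1 := by
  have hν := R.rp_g (swap 1 2)
  have hT := fun l : Fˣ => S.conj_T hν.1 (S.hd_mem_T l.1 l.ne_zero)
  choose φ h0 hφ using fun l : Fˣ => S.T_x1 (hT l)
  obtain ⟨l, hl⟩ := Finite.injective_iff_surjective.1 (show Function.Injective fun l => Units.mk0 (φ l) (h0 l) from
    fun l m e => by
      have e' : φ l = φ m := congrArg Units.val e
      have := R.hd_inj hF (l := (m : F)⁻¹ * l) (mul_ne_zero (inv_ne_zero m.ne_zero) l.ne_zero) (by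
        rw [show hd ((m : F)⁻¹ * l) _ = (hd m.1 m.ne_zero)⁻¹ * hd l.1 l.ne_zero from
          s2_ext (by rw [s2_mul, s2_inv]; simp [hd_coe, mul_comm]), map_mul, map_inv, ← conj_mul, ← conj_inv]
        change _ = _
        rw [mul_assoc, mul_inv_eq_iff_eq_mul.1 (hφ l 1), e', ← hφ m 1]; group)
      exact Units.ext ((inv_mul_eq_one₀ m.ne_zero).1 this).symm) (Units.mk0 μ hμ)
  obtain rfl : φ l = μ := congrArg Units.val hl
  have c : ∀ Y, Commute (R.g (swap 1 2) * S.f1 (hd l.1 l.ne_zero) * (R.g (swap 1 2))⁻¹)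
    (R.g (swap 1 2) * S.f2 Y * (R.g (swap 1 2))⁻¹) := fun Y => (S.f1_comm _ _).conj _
  have a1 : S.AcK (R.g (swap 1 2) * S.w) (R.g (swap 1 2) * S.f1 (hd l.1 l.ne_zero) * (R.g (swap 1 2))⁻¹) 1 := fun u => by
    rw [one_mul, mul_inv_eq_iff_eq_mul]
    have := (c (xu u)).eq
    rw [← w_x1] at this
    simpa only [mul_assoc, _root_.mul_inv_rev] using this
  have a2 : S.AcK (R.g (swap 1 2) * (S.f2 nn * S.w))
      (R.g (swap 1 2) * S.f1 (hd l.1 l.ne_zero) * (R.g (swap 1 2))⁻¹) 1 := fun u => by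
    rw [one_mul, mul_inv_eq_iff_eq_mul]
    have := (c (xl (-u))).eq
    rw [← n2w_x1] at this
    simpa only [mul_assoc, _root_.mul_inv_rev] using this
  have h1 := hT l
  have h2 := hφ l
  generalize R.g (swap 1 2) * S.f1 (hd l.1 l.ne_zero) * (R.g (swap 1 2))⁻¹ = τ at a1 a2 h1 h2
  obtain ⟨b1, b2⟩ : S.AcK (R.kk 1 3) τ 1 ∧ S.AcK (R.kk 3 1) τ 1 := by
    rcases R.rp_w hF.two_ne with k | k
    · exact ⟨(hν.mul k).ac (by decide) (by decide) a1, (hν.mul (R.rp_n2.mul k)).ac (by decide) (by decide) a2⟩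
    · exact ⟨(hν.mul (R.rp_n2.mul k)).ac (by decide) (by decide) a2, (hν.mul k).ac (by decide) (by decide) a1⟩
  have b0 : S.AcK (R.kk 0 1) τ (φ l) := fun u => by simpa [kk01] using h2 u
  have c1 : ∀ u, Commute τ (R.y 1 3 u) := fun u => mul_inv_eq_iff_eq_mul.1 ((b1 u).trans (by rw [one_mul]; rfl))
  have c2 : ∀ u, Commute τ (R.y 3 1 u) := fun u => mul_inv_eq_iff_eq_mul.1 ((b2 u).trans (by rw [one_mul]; rfl))
  have b3 := (R.rp_nw (i := 1) (j := 3) (by decide)).conj_ac (by decide) b0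
  rw [← (show Commute τ (R.nw 1 3) from ((c1 1).mul_right (c2 _)).mul_right (c1 1)).eq, mul_inv_cancel_right,
    show swap (1 : Fin 4) 3 0 = 0 by decide, swap_apply_left] at b3
  exact ⟨τ, h1, b0, b3, b1, b2⟩
omit [Finite G] in
theorem br_of (hF : Fq F) {i j k : Fin 4} (h1 : i ≠ j) (h2 : i ≠ k) (h3 : j ≠ k) (h : R.Bs i j j k i k) :
    ∃ c : F, ∀ a b, R.y i j a * R.y j k b * (R.y i j a)⁻¹ * (R.y j k b)⁻¹ = R.y i k (c * a * b) := by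
  obtain ⟨c, hc⟩ := h _ (R.y_mem i j 1) _ (R.y_mem j k 1)
  refine ⟨c, fun a b => ?_⟩
  by_cases ha : a = 0
  · simp [ha, y_zero]
  by_cases hb : b = 0
  · simp [hb, y_zero]
  have key : ∀ {τ : G} {a b c l m n : F}, S.AcK (R.kk i j) τ l → S.AcK (R.kk j k) τ m → S.AcK (R.kk i k) τ n →
      R.y i j a * R.y j k b * (R.y i j a)⁻¹ * (R.y j k b)⁻¹ = R.y i k c →
      R.y i j (l * a) * R.y j k (m * b) * (R.y i j (l * a))⁻¹ * (R.y j k (m * b))⁻¹ = R.y i k (n * c) :=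
    fun {τ a b c l m n} e1 e2 e3 e => by
      rw [y, y, y, ← e1, ← e2, ← e3]
      refine Eq.trans ?_ (congrArg (fun x => τ * x * τ⁻¹) e)
      simp only [y]; group
  obtain ⟨τ, -, a1, a2, a3, -⟩ := R.exists_tor hF ha
  obtain ⟨ρ, hρ, b1, b2, b3, -⟩ := R.exists_tor hF hb
  obtain ⟨σ, rfl, rfl, rfl⟩ := perm3 (a := 0) (b := 1) (c := 3) (by decide) (by decide) (by decide) h1 h2 h3
  obtain ⟨π, p1, p2, p3⟩ := perm3 (a := 3) (b := 1) (c := 0) (by decide) (by decide) (by decide) h1 h2 h3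
  have d1 := (R.rp_g π).conj_ac (by decide) (ac_flip hρ (by decide) b3)
  have d2 := (R.rp_g π).conj_ac (by decide) (ac_flip hρ (by decide) b1)
  have d3 := (R.rp_g π).conj_ac (by decide) (ac_flip hρ (by decide) b2)
  rw [p1, p2] at d1
  rw [p2, p3] at d2
  rw [p1, p3] at d3
  have := key d1 d2 d3 (key ((R.rp_g σ).conj_ac (by decide) a1) ((R.rp_g σ).conj_ac (by decide) a3)
    ((R.rp_g σ).conj_ac (by decide) a2) hc)
  simpa only [one_mul, mul_one, mul_comm, mul_left_comm] using this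

end Fr

end Su

/-- PLAN, step U -/
theorem Su.Fr.exists_std [Fintype F] [Finite G] {S : Su F G} (R : S.Fr) (hF : Fq F)
    (hnt : ∃ g, (∀ c, Commute g (S.x1 c)) ∧ g ∉ S.C) :
    ∃ y : Fin 4 → Fin 4 → F → G, StD y ∧ (∀ c, y 0 1 c = S.f1 (xu c)) ∧ (∀ c, y 1 0 c = S.f1 (xl c)) ∧
      ∀ H : Subgroup G, (∀ i j, i ≠ j → ∀ c, y i j c ∈ H) →
        S.K ≤ H ∧ ∃ τ ∈ S.T, R.g (Equiv.swap 1 2) * τ ∈ H := by
  obtain ⟨hr, hc⟩ := R.row_and_col hF hnt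
  have e1 : ∀ c, R.y 0 1 c = S.f1 (xu c) := fun c => by simp [Su.Fr.y, R.kk01, Su.x1]
  have e2 : ∀ c, R.y 1 0 c = S.f1 (xl c) := fun c => by simp [R.y_lt (i := 0) (j := 1) (by decide), R.kk01]
  refine ⟨R.y, ⟨fun i j _ => R.y_add i j, fun i j _ a h => ?_, fun i j k l h1 h2 h3 h4 a b => ?_,
    fun i j k h1 h2 h3 => R.br_of hF h1 h3 h2 ?_, fun i j k h1 h2 h3 a => ?_, fun i j k h1 h2 h3 a => ?_⟩, e1, e2,
    fun H hH => ⟨fun g hg => ?_, _, (R.rp_g _).mem (R.rp_nw (i := 1) (j := 2) (by decide)), ?_⟩⟩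
  · exact xu_inj (S.f1_inj ((conj_eq_one_iff.1 h).trans (by rw [xu_zero, map_one])))
  · by_cases p1 : i = k <;> by_cases p2 : j = l
    · subst p1 p2; exact S.rs_comm (R.y_mem _ _ _) (R.y_mem _ _ _)
    · subst p1; exact hr i j l h1 h4 p2 _ (R.y_mem _ _ _) _ (R.y_mem _ _ _)
    · subst p2; exact hc i k j p1 h1 h2 _ (R.y_mem _ _ _) _ (R.y_mem _ _ _)
    · exact R.orth hF.two_ne h1 p1 h3 (Ne.symm h4) (Ne.symm p2) (Ne.symm h2) _ (R.y_mem _ _ _) _ (R.y_mem _ _ _)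
  · obtain ⟨σ, p1, p2, p3⟩ := Su.Fr.perm3 (a := 0) (b := 2) (c := 1) (by decide) (by decide) (by decide) h1 h3 h2
    exact (R.bs_base hF (hr 0 2 1 (by decide) (by decide) (by decide))
      (hc 2 0 1 (by decide) (by decide) (by decide))).map σ _ _ _ _ _ _
        ⟨by decide, by decide, by decide, p1, p2, p2, p3, p1, p3⟩
  · change R.nw j k ^ 2 * _ = _ * R.nw j k ^ 2
    rw [R.nw_sq h2, ← mul_inv_eq_iff_eq_mul, ← neg_one_mul]
    exact (R.ac_tt h1.symm h2 h3).2 a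
  · change R.nw j k ^ 2 * _ = _ * R.nw j k ^ 2
    rw [R.nw_sq h2, ← mul_inv_eq_iff_eq_mul, ← neg_one_mul]
    exact (R.ac_tt h1.symm h2 h3).1 a
  · obtain ⟨X, Y, rfl⟩ := S.mem_K.1 hg
    refine H.mul_mem ((sl2_eq_top (H.comap S.f1) (fun c => show S.f1 _ ∈ H from e1 c ▸ hH 0 1 (by decide) c)
      fun c => show S.f1 _ ∈ H from e2 c ▸ hH 1 0 (by decide) c).ge (Subgroup.mem_top X))
      (R.f2_mem hF.two_ne ?_ ?_ Y) <;> rintro _ ⟨c, rfl⟩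
    exacts [hH 2 3 (by decide) c, hH 3 2 (by decide) c]
  · rw [mul_inv_cancel_left]
    exact H.mul_mem (H.mul_mem (hH 1 2 (by decide) _) (hH 2 1 (by decide) _)) (hH 1 2 (by decide) _)

end Cfsg.Agent.L4C
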